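import Cfsg.Agent.Lib.NineSymp.Basic
import Cfsg.Agent.Lib.Mitchell.Reflection

/-!
The centralisers of the exchange `e j ↦ e (-j)` and of a diagonal element, as subgroups of `GL₂`.
-/

set_option autoImplicit false
set_option linter.unusedSectionVars false
set_option linter.unusedSimpArgs false
set_option linter.flexible false

namespace CfsgLib.NineSymp

open Matrix CfsgLib.Mitchell

variable {F : Type*} [Field F] {ω : F}

theorem sum_three {M : Type*} [AddCommMonoid M] (f : ZMod 3 → M) : ∑ i, f i = f 0 + f 1 + f 2 :=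
  Fin.sum_univ_three f

/-- The same element, indexed by `Fin 3`. -/
def toFin (g : GL (ZMod 3) F) : GL (Fin 3) F := g

/-- The permutation matrix of `j ↦ -j`. -/
def negP : GL (ZMod 3) F where
  val := mono (fun j => -j) fun _ => 1
  inv := mono (fun j => -j) fun _ => 1
  val_inv := by
    rw [mono_mul, mul_one, show ((fun j : ZMod 3 => -j) ∘ fun j => -j) = id from funext fun j => neg_neg j]
    exact mono_id
  inv_val := by
    rw [mono_mul, mul_one, show ((fun j : ZMod 3 => -j) ∘ fun j => -j) = id from funext fun j => neg_neg j]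
    exact mono_id

theorem coe_negP : ((negP : GL (ZMod 3) F) : Matrix (ZMod 3) (ZMod 3) F) = mono (fun j => -j) fun _ => 1 := rfl

theorem negP_mul_self : (negP : GL (ZMod 3) F) * negP = 1 := Units.ext negP.mul_inv

theorem negP_inv : (negP : GL (ZMod 3) F)⁻¹ = negP := rfl

theorem negP_mul_apply (g : GL (ZMod 3) F) (i j : ZMod 3) :
    ((negP * g : GL (ZMod 3) F) : Matrix (ZMod 3) (ZMod 3) F) i j = g.val (-i) j := by
  rw [Units.val_mul, coe_negP]
  show (mono (Equiv.neg (ZMod 3) : ZMod 3 → ZMod 3) (fun _ => (1 : F)) * g.val) i j = _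
  rw [mono_mul_apply, one_mul]
  rfl

theorem mul_negP_apply (g : GL (ZMod 3) F) (i j : ZMod 3) :
    ((g * negP : GL (ZMod 3) F) : Matrix (ZMod 3) (ZMod 3) F) i j = g.val i (-j) := by
  rw [Units.val_mul, coe_negP, mul_mono_apply, mul_one]

theorem negP_lit : (toFin (negP : GL (ZMod 3) F)).val = !![1, 0, 0; 0, 0, 1; 0, 1, 0] := by
  ext i j
  fin_cases i <;> fin_cases j <;> rfl

theorem trace_negP : ((negP : GL (ZMod 3) F) : Matrix (ZMod 3) (ZMod 3) F).trace = 1 := by
  rw [Matrix.trace, sum_three]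
  simp [coe_negP, mono, show (1 : ZMod 3) ≠ -1 by decide, show (2 : ZMod 3) ≠ -2 by decide]

/-- The relations of the centraliser of `negP`. -/
structure Sym (g : GL (ZMod 3) F) : Prop where
  r02 : g.val 0 2 = g.val 0 1
  r20 : g.val 2 0 = g.val 1 0
  r21 : g.val 2 1 = g.val 1 2
  r22 : g.val 2 2 = g.val 1 1

theorem sym_of_comm {g : GL (ZMod 3) F} (hg : g * negP = negP * g) : Sym g := by
  have key : ∀ i j, g.val i (-j) = g.val (-i) j := fun i j => by
    rw [← mul_negP_apply, hg, negP_mul_apply]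
  exact ⟨key 0 1, (key 1 0).symm, (key 1 1).symm, (key 1 2).symm⟩

/-- The block on the plane of fixed vectors of `negP`. -/
def symBlock (g : GL (ZMod 3) F) : Matrix (Fin 2) (Fin 2) F :=
  !![g.val 0 0, 2 * g.val 0 1;
    g.val 1 0, g.val 1 1 + g.val 1 2]

/-- The eigenvalue at `e 1 - e 2`. -/
def symEig (g : GL (ZMod 3) F) : F := g.val 1 1 - g.val 1 2

theorem symEig_mul {g k : GL (ZMod 3) F} (hk : Sym k) : symEig (g * k) = symEig g * symEig k := by
  simp only [symEig, Units.val_mul, Matrix.mul_apply, sum_three, hk.r02, hk.r21, hk.r22]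
  ring

theorem symBlock_mul {g k : GL (ZMod 3) F} (hg : Sym g) (hk : Sym k) :
    symBlock (g * k) = symBlock g * symBlock k := by
  ext i j
  fin_cases i <;> fin_cases j <;>
    simp [symBlock, Units.val_mul, Matrix.mul_apply, sum_three, hg.r02, hk.r02, hk.r20, hk.r21, hk.r22,
      Fin.sum_univ_two] <;> ring

theorem symEig_one : symEig (1 : GL (ZMod 3) F) = 1 := by
  simp [symEig, Matrix.one_apply, show (1 : ZMod 3) ≠ 2 by decide]

theorem symBlock_one : symBlock (1 : GL (ZMod 3) F) = 1 := by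
  ext i j
  fin_cases i <;> fin_cases j <;>
    simp [symBlock, Matrix.one_apply, show (1 : ZMod 3) ≠ 2 by decide, show (0 : ZMod 3) ≠ 1 by decide,
      show (1 : ZMod 3) ≠ 0 by decide]

/-- The relations of the centraliser of a diagonal element with a simple eigenvalue at `e 0`. -/
structure Split0 (g : GL (ZMod 3) F) : Prop where
  r01 : g.val 0 1 = 0
  r02 : g.val 0 2 = 0
  r10 : g.val 1 0 = 0
  r20 : g.val 2 0 = 0

theorem split_of_comm (h : Om ω) {g : GL (ZMod 3) F} (hg : g * rz h 0 = rz h 0 * g) : Split0 g := by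
  have key : ∀ i j, g.val i j * (if j = 0 then ω else 1) =
      (if i = 0 then ω else 1) * g.val i j := fun i j => by
    have e := congrArg (fun x : GL (ZMod 3) F => x.val i j) hg
    simp only [Units.val_mul] at e
    simpa [rz, Matrix.mul_diagonal, Matrix.diagonal_mul] using e
  have h1 : ω - 1 ≠ 0 := sub_ne_zero.2 h.ne_one
  have h10 : (1 : ZMod 3) ≠ 0 := by decide
  have h20 : (2 : ZMod 3) ≠ 0 := by decide
  refine ⟨?_, ?_, ?_, ?_⟩ <;> refine (mul_eq_zero.1 ?_).resolve_left h1
  · have := key 0 1; rw [if_neg h10, if_pos rfl] at this; linear_combination -this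
  · have := key 0 2; rw [if_neg h20, if_pos rfl] at this; linear_combination -this
  · have := key 1 0; rw [if_neg h10, if_pos rfl] at this; linear_combination this
  · have := key 2 0; rw [if_neg h20, if_pos rfl] at this; linear_combination this

/-- The block on `e 1, e 2`. -/
def splitBlock (g : GL (ZMod 3) F) : Matrix (Fin 2) (Fin 2) F :=
  !![g.val 1 1, g.val 1 2; g.val 2 1, g.val 2 2]

theorem splitBlock_mul {g k : GL (ZMod 3) F} (hg : Split0 g) :
    splitBlock (g * k) = splitBlock g * splitBlock k := by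
  ext i j
  fin_cases i <;> fin_cases j <;>
    simp [splitBlock, Units.val_mul, Matrix.mul_apply, sum_three, hg.r10, hg.r20, Fin.sum_univ_two]

theorem split_mul_zero {g k : GL (ZMod 3) F} (hg : Split0 g) :
    (g * k : GL (ZMod 3) F).val 0 0 = g.val 0 0 * k.val 0 0 := by
  simp [Units.val_mul, Matrix.mul_apply, sum_three, hg.r01, hg.r02]

theorem splitBlock_one : splitBlock (1 : GL (ZMod 3) F) = 1 := by
  ext i j
  fin_cases i <;> fin_cases j <;>
    simp [splitBlock, Matrix.one_apply, show (1 : ZMod 3) ≠ 2 by decide, show (2 : ZMod 3) ≠ 1 by decide]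

/-- The centraliser of `negP` in `H`. -/
def C1 (H : Subgroup (GL (ZMod 3) F)) : Subgroup (GL (ZMod 3) F) := H ⊓ Subgroup.centralizer {negP}

theorem mem_C1 {H : Subgroup (GL (ZMod 3) F)} {g : GL (ZMod 3) F} :
    g ∈ C1 H ↔ g ∈ H ∧ g * negP = negP * g := by
  rw [C1, Subgroup.mem_inf, Subgroup.mem_centralizer_singleton_iff]

theorem C1_sym {H : Subgroup (GL (ZMod 3) F)} {g : GL (ZMod 3) F} (hg : g ∈ C1 H) : Sym g :=
  sym_of_comm (mem_C1.1 hg).2

/-- The centraliser of `rz h 0` in `H`. -/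
def C2 (h : Om ω) (H : Subgroup (GL (ZMod 3) F)) : Subgroup (GL (ZMod 3) F) :=
  H ⊓ Subgroup.centralizer {rz h 0}

theorem mem_C2 (h : Om ω) {H : Subgroup (GL (ZMod 3) F)} {g : GL (ZMod 3) F} :
    g ∈ C2 h H ↔ g ∈ H ∧ g * rz h 0 = rz h 0 * g := by
  rw [C2, Subgroup.mem_inf, Subgroup.mem_centralizer_singleton_iff]

theorem C2_split (h : Om ω) {H : Subgroup (GL (ZMod 3) F)} {g : GL (ZMod 3) F} (hg : g ∈ C2 h H) : Split0 g :=
  split_of_comm h (mem_C2 h |>.1 hg).2

/-- The action on the fixed plane of `negP`, normalised at `e 1 - e 2`. -/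
def th1 (H : Subgroup (GL (ZMod 3) F)) : C1 H →* GL (Fin 2) F :=
  MonoidHom.toHomUnits
    { toFun := fun g => (symEig (g : GL (ZMod 3) F))⁻¹ • symBlock (g : GL (ZMod 3) F)
      map_one' := by rw [Subgroup.coe_one, symEig_one, symBlock_one, inv_one, one_smul]
      map_mul' := fun g k => by
        rw [Subgroup.coe_mul, symEig_mul (C1_sym k.2), symBlock_mul (C1_sym g.2) (C1_sym k.2), _root_.mul_inv_rev,
          smul_mul_smul_comm, mul_comm (symEig (k : GL (ZMod 3) F))⁻¹] }

theorem coe_th1 {H : Subgroup (GL (ZMod 3) F)} (g : C1 H) :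
    (th1 H g : Matrix (Fin 2) (Fin 2) F) = (symEig (g : GL (ZMod 3) F))⁻¹ • symBlock (g : GL (ZMod 3) F) := rfl

/-- The action on `e 1, e 2`, normalised at `e 0`. -/
def th2 (h : Om ω) (H : Subgroup (GL (ZMod 3) F)) : C2 h H →* GL (Fin 2) F :=
  MonoidHom.toHomUnits
    { toFun := fun g => ((g : GL (ZMod 3) F).val 0 0)⁻¹ • splitBlock (g : GL (ZMod 3) F)
      map_one' := by rw [Subgroup.coe_one, splitBlock_one, Units.val_one, Matrix.one_apply_eq, inv_one, one_smul]
      map_mul' := fun g k => by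
        rw [Subgroup.coe_mul, split_mul_zero (C2_split h g.2), splitBlock_mul (C2_split h g.2), _root_.mul_inv_rev,
          smul_mul_smul_comm, mul_comm ((k : GL (ZMod 3) F).val 0 0)⁻¹] }

theorem coe_th2 (h : Om ω) {H : Subgroup (GL (ZMod 3) F)} (g : C2 h H) :
    (th2 h H g : Matrix (Fin 2) (Fin 2) F) =
      ((g : GL (ZMod 3) F).val 0 0)⁻¹ • splitBlock (g : GL (ZMod 3) F) := rfl

theorem split_zero_ne {g : GL (ZMod 3) F} (hg : Split0 g) : g.val 0 0 ≠ 0 := by
  intro e
  have := congrArg (fun x : GL (ZMod 3) F => x.val 0 0) (mul_inv_cancel g)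
  simp only [Units.val_mul, Units.val_one, Matrix.mul_apply, sum_three, hg.r01, hg.r02, e, Matrix.one_apply_eq,
    zero_mul, add_zero] at this
  exact zero_ne_one this

theorem symEig_ne_zero {g : GL (ZMod 3) F} (hg : g * negP = negP * g) : symEig g ≠ 0 := by
  intro e
  have hi : g⁻¹ * negP = negP * g⁻¹ := ((Commute.inv_left (show Commute g negP from hg))).eq
  have := symEig_mul (g := g) (sym_of_comm hi)
  rw [mul_inv_cancel, symEig_one, e, zero_mul] at this
  exact one_ne_zero this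

/-- The rank one matrix at `e 1 - e 2`. -/
def antiBlock : Matrix (ZMod 3) (ZMod 3) F :=
  Matrix.of fun i j => if i = 0 ∨ j = 0 then 0 else if i = j then 1 else -1

/-- A scalar block: the element is a scalar times a homology centred at `e 1 - e 2`. -/
theorem th1_scalar (h2 : (2 : F) ≠ 0) {H : Subgroup (GL (ZMod 3) F)} (g : C1 H) {c : F}
    (hc : (th1 H g : Matrix (Fin 2) (Fin 2) F) = c • 1) :
    ((g : GL (ZMod 3) F) : Matrix (ZMod 3) (ZMod 3) F) =
      (c * symEig (g : GL (ZMod 3) F)) • (1 : Matrix (ZMod 3) (ZMod 3) F) +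
        ((symEig (g : GL (ZMod 3) F) * (1 - c)) / 2) • antiBlock := by
  have hs := symEig_ne_zero (mem_C1.1 g.2).2
  have hS := C1_sym g.2
  set s := symEig (g : GL (ZMod 3) F) with hs'
  rw [coe_th1, inv_smul_eq_iff₀ hs, smul_smul] at hc
  have e00 := congrFun (congrFun hc 0) 0
  have e01 := congrFun (congrFun hc 0) 1
  have e10 := congrFun (congrFun hc 1) 0
  have e11 := congrFun (congrFun hc 1) 1
  simp [symBlock, Matrix.smul_apply, Matrix.one_apply] at e00 e01 e10 e11
  have e01' := e01.resolve_left h2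
  have e12 : (g : GL (ZMod 3) F).val 1 1 - (g : GL (ZMod 3) F).val 1 2 = s := rfl
  have d1 : (g : GL (ZMod 3) F).val 1 1 = c * s + s * (1 - c) / 2 := by
    field_simp
    linear_combination e11 + e12
  have d2 : (g : GL (ZMod 3) F).val 1 2 = -(s * (1 - c) / 2) := by
    field_simp
    linear_combination e11 - e12
  ext i j
  rcases ps_cases i with rfl | rfl | rfl <;> rcases ps_cases j with rfl | rfl | rfl <;>
    simp [Matrix.add_apply, Matrix.smul_apply, Matrix.one_apply, antiBlock, hS.r02, hS.r20,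
      hS.r21, hS.r22, e00, e01', e10, d1, d2, show (1 : ZMod 3) ≠ 2 by decide,
      show (2 : ZMod 3) ≠ 1 by decide, show (0 : ZMod 3) ≠ 1 by decide, show (0 : ZMod 3) ≠ 2 by decide,
      show (1 : ZMod 3) ≠ 0 by decide, show (2 : ZMod 3) ≠ 0 by decide] <;> ring

theorem commute_refl_of_sym (h2 : (2 : F) ≠ 0) {g : GL (ZMod 3) F} (hg : g * negP = negP * g) :
    toFin g * refl (![0, 1, -1] : Fin 3 → F) ![0, (2 : F)⁻¹, -(2 : F)⁻¹] =
      refl (![0, 1, -1] : Fin 3 → F) ![0, (2 : F)⁻¹, -(2 : F)⁻¹] * toFin g := by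
  have hu : (![0, (2 : F)⁻¹, -(2 : F)⁻¹] : Fin 3 → F) ⬝ᵥ ![0, 1, -1] = 1 := by
    simp [dotProduct, Fin.sum_univ_three]; field_simp; ring
  have e : (refl (![0, 1, -1] : Fin 3 → F) ![0, (2 : F)⁻¹, -(2 : F)⁻¹] : Matrix (Fin 3) (Fin 3) F) =
      -((negP : GL (ZMod 3) F) : Matrix (ZMod 3) (ZMod 3) F) := by
    rw [refl_val hu]
    refine Eq.trans ?_ (congrArg (- ·) negP_lit.symm)
    ext i j
    fin_cases i <;> fin_cases j <;> simp [Matrix.one_apply, Matrix.vecMulVec_apply, h2] <;> norm_num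
  apply Units.ext
  have e' := congrArg Units.val hg
  rw [Units.val_mul, Units.val_mul] at e' ⊢
  rw [e]
  show (g : Matrix (ZMod 3) (ZMod 3) F) * -_ = -_ * (g : Matrix (ZMod 3) (ZMod 3) F)
  rw [mul_neg, neg_mul, e']

theorem commute_refl_of_split (h2 : (2 : F) ≠ 0) {g : GL (ZMod 3) F} (hg : Split0 g) :
    toFin g * refl (![1, 0, 0] : Fin 3 → F) ![1, 0, 0] =
      refl (![1, 0, 0] : Fin 3 → F) ![1, 0, 0] * toFin g := by
  have hu : (![1, 0, 0] : Fin 3 → F) ⬝ᵥ ![1, 0, 0] = 1 := by simp [dotProduct, Fin.sum_univ_three]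
  apply Units.ext
  rw [Units.val_mul, Units.val_mul, refl_val hu]
  have r01 : (toFin g).val 0 1 = 0 := hg.r01
  have r02 : (toFin g).val 0 2 = 0 := hg.r02
  have r10 : (toFin g).val 1 0 = 0 := hg.r10
  have r20 : (toFin g).val 2 0 = 0 := hg.r20
  ext i j
  fin_cases i <;> fin_cases j <;>
    simp [Matrix.mul_apply, Fin.sum_univ_three, Matrix.one_apply, Matrix.vecMulVec_apply, r01, r02, r10, r20] <;>
    ring

end CfsgLib.NineSymp
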