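import Cfsg.Agent.Lib.NineSymp.BaseSmall
import Cfsg.Agent.Lib.NineSymp.BasePlane

/-!
The centraliser of `fo h ^ 2` in a group containing the Hessian group and no transvection.
-/

set_option autoImplicit false
set_option linter.unusedSectionVars false
set_option linter.unusedSimpArgs false
set_option linter.flexible false
set_option linter.style.haveILetI false

namespace CfsgLib.NineSymp

open Matrix CfsgLib.Mitchell

variable {F : Type*} [Field F] {ω : F}

/-- The hypotheses on the overgroup. -/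
structure Base (h : Om ω) (H : Subgroup (GL (ZMod 3) F)) : Prop where
  sc_mem : ∀ c, sc c ∈ H
  pm_mem : ∀ v, gpm h v ∈ H
  fo_mem : fo h ∈ H
  rz_mem : rz h 0 ∈ H

theorem Om.diff (h : Om ω) : ω - ω ^ 2 ≠ 0 := by
  rw [show ω - ω ^ 2 = ω * (1 - ω) by ring]
  exact mul_ne_zero h.ne_zero (sub_ne_zero.2 (Ne.symm h.ne_one))

theorem Om.diff_sq (h : Om ω) : (ω - ω ^ 2) ^ 2 = -3 := by
  linear_combination (ω ^ 2 - 3 * ω + 3) * h.sum

/-- The constant of the Fourier matrix. -/
def dd (ω : F) : F := (ω - ω ^ 2)⁻¹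

theorem dd_ne_zero (h : Om ω) : dd ω ≠ 0 := inv_ne_zero h.diff

theorem dd_sq (h : Om ω) : dd ω * dd ω * 3 = -1 := by
  have h3 := h.three
  rw [dd, ← mul_inv, ← pow_two, h.diff_sq]
  field_simp

theorem fo_apply (h : Om ω) (i j : ZMod 3) : (fo h).val i j = dd ω * ps ω (i * j) := rfl

theorem fo_lit (h : Om ω) :
    (toFin (fo h)).val = !![dd ω, dd ω, dd ω; dd ω, dd ω * ω, dd ω * ω ^ 2; dd ω, dd ω * ω ^ 2, dd ω * ω] := by
  ext i j
  fin_cases i <;> fin_cases j <;> first
    | exact (congrArg (dd ω * ·) (pow_zero ω)).trans (mul_one _)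
    | exact congrArg (dd ω * ·) (pow_one ω)
    | rfl

/-- The square of the Fourier matrix. -/
theorem fo_mul_self (h : Om ω) : fo h * fo h = sc (-1) * negP := by
  apply Units.ext
  rw [Units.val_mul, coe_sc_mul, Units.val_neg, Units.val_one]
  refine Eq.trans (b := (toFin (fo h)).val * (toFin (fo h)).val) rfl ?_
  refine Eq.trans ?_ (congrArg (fun M : Matrix (Fin 3) (Fin 3) F => (-1 : F) • M) negP_lit.symm)
  rw [fo_lit h]
  have e0 : dd ω * dd ω * (1 + ω + ω ^ 2) = 0 := by linear_combination dd ω * dd ω * h.sum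
  have e3 := dd_sq h
  have c3 := h.cube
  ext i j
  fin_cases i <;> fin_cases j <;>
    simp [Matrix.mul_apply, Fin.sum_univ_three] <;> first
      | linear_combination e3
      | linear_combination e0
      | linear_combination e3 + 2 * dd ω * dd ω * c3
      | linear_combination e0 + (dd ω * dd ω * ω) * c3

namespace Base

variable {h : Om ω} {H : Subgroup (GL (ZMod 3) F)}

theorem negP_mem (hB : Base h H) : (negP : GL (ZMod 3) F) ∈ H := by
  have := H.mul_mem (H.inv_mem (hB.sc_mem (-1))) (H.mul_mem hB.fo_mem hB.fo_mem)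
  rwa [fo_mul_self h, inv_mul_cancel_left] at this

theorem rz_mem' (hB : Base h H) (k : ZMod 3) : rz h k ∈ H := by
  have e : gpm h (k, 0) * rz h 0 = rz h k * gpm h (k, 0) := by
    apply Units.ext
    rw [Units.val_mul, Units.val_mul]
    ext i j
    show ((pm ω (k, 0) : Matrix (ZMod 3) (ZMod 3) F) * diagonal fun i : ZMod 3 => if i = 0 then ω else 1) i j =
      ((diagonal fun i : ZMod 3 => if i = k then ω else 1) * pm ω (k, 0)) i j
    rw [Matrix.mul_diagonal, Matrix.diagonal_mul]
    by_cases hij : i = j + k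
    · subst hij
      simp [pm, mono, ps_zero]
    · simp [pm, mono, hij]
  rw [show rz h k = gpm h (k, 0) * rz h 0 * (gpm h (k, 0))⁻¹ by rw [e, mul_inv_cancel_right]]
  exact H.mul_mem (H.mul_mem (hB.pm_mem _) hB.rz_mem) (H.inv_mem (hB.pm_mem _))

end Base

theorem mk_one_of_smul {n : Type} [Fintype n] [DecidableEq n] [Nonempty n] {M : GL n F} {c : F}
    (e : M.val = c • (1 : Matrix n n F)) : ProjGenLinGroup.mk M = 1 := by
  have hc : c ≠ 0 := by
    rintro rfl
    rw [zero_smul] at e
    exact M.ne_zero e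
  rw [ProjGenLinGroup.mk_eq_one, GeneralLinearGroup.center_eq_range_scalar]
  refine ⟨Units.mk0 c hc, Units.ext ?_⟩
  rw [e]
  show Matrix.scalar n c = _
  rw [Matrix.scalar_apply, smul_one_eq_diagonal]

theorem exists_sc_of_mk_eq_one {n : Type} [Fintype n] [DecidableEq n] {M : GL n F}
    (e : ProjGenLinGroup.mk M = 1) : ∃ c : Fˣ, M = sc c := by
  rw [ProjGenLinGroup.mk_eq_one, GeneralLinearGroup.center_eq_range_scalar] at e
  obtain ⟨c, hc⟩ := e
  exact ⟨c, hc.symm⟩

theorem mk_sc {n : Type} [Fintype n] [DecidableEq n] [Nonempty n] (c : Fˣ) :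
    ProjGenLinGroup.mk (sc c : GL n F) = 1 := mk_one_of_smul (coe_sc c)

variable {h : Om ω} {H : Subgroup (GL (ZMod 3) F)}

theorem negP_comm_rz (h : Om ω) : negP * rz h 0 = rz h 0 * negP := by
  apply Units.ext
  ext i j
  rw [negP_mul_apply, mul_negP_apply]
  show (diagonal fun i => if i = (0 : ZMod 3) then ω else 1) (-i) j =
    (diagonal fun i => if i = (0 : ZMod 3) then ω else 1) i (-j)
  simp only [Matrix.diagonal_apply]
  by_cases hij : -i = j
  · subst hij; simp
  · rw [if_neg hij, if_neg]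
    exact fun e => hij (by rw [e, neg_neg])

theorem negP_comm_fo (h : Om ω) : fo h * negP = negP * fo h := by
  apply Units.ext
  ext i j
  rw [negP_mul_apply, mul_negP_apply, fo_apply, fo_apply, mul_neg, neg_mul]

variable (p : ℕ) [Fact p.Prime] [CharP F p] [Fintype F]
include p

/-- Without transvections, centralisers of reflections are prime to the characteristic. -/
theorem not_dvd_range (h2 : (2 : F) ≠ 0) (hN : NoRoot (H : Subgroup (GL (Fin 3) F)))
    {C : Subgroup (GL (ZMod 3) F)} (hle : C ≤ H) {u φ : Fin 3 → F} (hu : φ ⬝ᵥ u = 1)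
    (hcomm : ∀ g ∈ C, toFin g * refl u φ = refl u φ * toFin g) {M : Type*} [Group M] (f : C →* M) :
    ¬ p ∣ Nat.card f.range := fun hd => by
  obtain ⟨k, hk⟩ := exists_prime_orderOf_dvd_card' (G := C) p (hd.trans (Subgroup.card_range_dvd f))
  have hk' : (k : GL (ZMod 3) F) ^ p = 1 := by
    rw [← SubgroupClass.coe_pow, ← hk, pow_orderOf_eq_one]; rfl
  have := eq_one_of_commute_refl p h2 hN hu (hle k.2) (hcomm _ k.2) hk'
  rw [show k = 1 from Subtype.ext this, orderOf_one] at hk
  exact (Fact.out : p.Prime).one_lt.ne hk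

/-- There is no non-trivial homology at `e 1 - e 2`. -/
theorem homology_cases (h2 : (2 : F) ≠ 0) (hB : Base h H) (hN : NoRoot (H : Subgroup (GL (Fin 3) F)))
    {g : GL (ZMod 3) F} (hg : g ∈ H) {a b : F}
    (e : g.val = a • (1 : Matrix (ZMod 3) (ZMod 3) F) + b • antiBlock) : b = 0 ∨ b = -a := by
  classical
  have n01 : (0 : ZMod 3) ≠ 1 := by decide
  have n02 : (0 : ZMod 3) ≠ 2 := by decide
  have n12 : (1 : ZMod 3) ≠ 2 := by decide
  have n10 := n01.symm
  have n20 := n02.symm
  have n21 := n12.symm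
  have hg2 : g ∈ C2 h H := (mem_C2 h).2 ⟨hg, by
    apply Units.ext
    ext i j
    rw [Units.val_mul, Units.val_mul]
    show (g.val * diagonal fun i => if i = (0 : ZMod 3) then ω else 1) i j =
      ((diagonal fun i => if i = (0 : ZMod 3) then ω else 1) * g.val) i j
    rw [Matrix.mul_diagonal, Matrix.diagonal_mul, e]
    rcases ps_cases i with rfl | rfl | rfl <;> rcases ps_cases j with rfl | rfl | rfl <;>
      simp [antiBlock, Matrix.one_apply, n01, n02, n12, n10, n20, n21, mul_comm]⟩
  have hP2 : (negP : GL (ZMod 3) F) ∈ C2 h H := (mem_C2 h).2 ⟨hB.negP_mem, negP_comm_rz h⟩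
  have hX2 : rz h 1 ∈ C2 h H := (mem_C2 h).2 ⟨hB.rz_mem' 1, Units.ext (by
    rw [Units.val_mul, Units.val_mul]
    show diagonal _ * diagonal _ = diagonal _ * diagonal _
    rw [diagonal_mul_diagonal, diagonal_mul_diagonal]
    congr 1; funext i; ring)⟩
  have hP1 : g * negP = negP * g := by
    apply Units.ext
    ext i j
    rw [negP_mul_apply, mul_negP_apply, e]
    rcases ps_cases i with rfl | rfl | rfl <;> rcases ps_cases j with rfl | rfl | rfl <;>
      simp [antiBlock, Matrix.one_apply, show -(1 : ZMod 3) = 2 by decide, show -(2 : ZMod 3) = 1 by decide,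
        n01, n02, n12, n10, n20, n21]
  set T : GL (Fin 2) F := th2 h H ⟨_, hP2⟩ with hTdef
  set X : GL (Fin 2) F := th2 h H ⟨_, hX2⟩ with hXdef
  set S : GL (Fin 2) F := th2 h H ⟨_, hg2⟩ with hSdef
  have ha : g.val 0 0 = a := by rw [e]; simp [antiBlock]
  have ha0 : a ≠ 0 := ha ▸ split_zero_ne (C2_split h hg2)
  have hT : T.val = !![0, 1; 1, 0] := by
    rw [hTdef, coe_th2]
    ext i j
    fin_cases i <;> fin_cases j <;>
      simp [splitBlock, coe_negP, mono, show -(1 : ZMod 3) = 2 by decide, show -(2 : ZMod 3) = 1 by decide,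
        n12, n21]
  have hX : X.val = !![ω, 0; 0, 1] := by
    rw [hXdef, coe_th2]
    ext i j
    fin_cases i <;> fin_cases j <;> simp [splitBlock, rz, n01, n12, n21]
  have hS : S.val = a⁻¹ • !![a + b, -b; -b, a + b] := by
    rw [hSdef, coe_th2, ha]
    congr 1
    ext i j
    fin_cases i <;> fin_cases j <;> simp [splitBlock, e, antiBlock, Matrix.one_apply, n10, n20, n12, n21]
  let θ := ProjGenLinGroup.mk.comp (th2 h H)
  have hsmall : Small θ.range := by
    refine small_of_line p θ.range.subtype (Subgroup.subtype_injective _)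
      (not_dvd_range p h2 hN inf_le_left (u := ![1, 0, 0]) (φ := ![1, 0, 0])
        (by simp [dotProduct, Fin.sum_univ_three])
        (fun k hk => commute_refl_of_split h2 (C2_split h hk)) θ) ?_
    rintro ⟨z, hz⟩
    have hTz : T • z = z := by
      have := hz ⟨_, MonoidHom.mem_range.2 ⟨⟨_, hP2⟩, rfl⟩⟩
      exact (PSL2.pglPerm_mk T z).symm.trans this
    have hXz : X • z = z := by
      have := hz ⟨_, MonoidHom.mem_range.2 ⟨⟨_, hX2⟩, rfl⟩⟩
      exact (PSL2.pglPerm_mk X z).symm.trans this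
    cases z with
    | infty =>
      rw [OnePoint.smul_infty_eq_self_iff, hT] at hTz
      simp at hTz
    | coe k =>
      have hk : k = 0 := by
        rw [OnePoint.smul_some_eq_ite, hX] at hXz
        simp at hXz
        have h' : (ω - 1) * k = 0 := by first | linear_combination hXz | linear_combination -hXz
        exact (mul_eq_zero.1 h').resolve_left (sub_ne_zero.2 h.ne_one)
      subst hk
      rw [OnePoint.smul_some_eq_ite, hT] at hTz
      simp at hTz
  let tK : θ.range := ⟨θ ⟨_, hP2⟩, MonoidHom.mem_range.2 ⟨_, rfl⟩⟩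
  let xK : θ.range := ⟨θ ⟨_, hX2⟩, MonoidHom.mem_range.2 ⟨_, rfl⟩⟩
  let sK : θ.range := ⟨θ ⟨_, hg2⟩, MonoidHom.mem_range.2 ⟨_, rfl⟩⟩
  have htt : tK * tK = 1 := Subtype.ext (by
    show ProjGenLinGroup.mk T * ProjGenLinGroup.mk T = 1
    rw [← map_mul]
    refine mk_one_of_smul (c := 1) ?_
    rw [Units.val_mul, hT, one_smul]
    ext i j; fin_cases i <;> fin_cases j <;> simp [Matrix.mul_apply, Fin.sum_univ_two])
  have hxx : xK ^ 3 = 1 := Subtype.ext (by
    show ProjGenLinGroup.mk X ^ 3 = 1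
    rw [← map_pow]
    refine mk_one_of_smul (c := 1) ?_
    rw [Units.val_pow_eq_pow_val, hX, one_smul, pow_three]
    have := h.cube
    ext i j; fin_cases i <;> fin_cases j <;> simp [Matrix.mul_apply, Fin.sum_univ_two]
    linear_combination this)
  have hx1 : xK ≠ 1 := fun e' => by
    obtain ⟨c, hc⟩ := exists_sc_of_mk_eq_one (show ProjGenLinGroup.mk X = 1 from congrArg Subtype.val e')
    have h00 := congrArg (fun M : GL (Fin 2) F => M.val 0 0) hc
    have h11 := congrArg (fun M : GL (Fin 2) F => M.val 1 1) hc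
    simp only [hX, coe_sc] at h00 h11
    simp [Matrix.smul_apply] at h00 h11
    exact h.ne_one (h00.trans h11.symm)
  have hinv : tK * xK * tK⁻¹ = xK⁻¹ := Subtype.ext (by
    show ProjGenLinGroup.mk T * ProjGenLinGroup.mk X * (ProjGenLinGroup.mk T)⁻¹ = (ProjGenLinGroup.mk X)⁻¹
    rw [inv_eq_of_mul_eq_one_left (show ProjGenLinGroup.mk T * ProjGenLinGroup.mk T = 1 from
      congrArg Subtype.val htt)]
    refine eq_inv_of_mul_eq_one_left ?_
    rw [← map_mul, ← map_mul, ← map_mul]
    refine mk_one_of_smul (c := ω) ?_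
    rw [Units.val_mul, Units.val_mul, Units.val_mul, hT, hX]
    ext i j; fin_cases i <;> fin_cases j <;> simp [Matrix.mul_apply, Fin.sum_univ_two, Matrix.one_apply])
  have hst : sK * tK = tK * sK := Subtype.ext (by
    show θ ⟨_, hg2⟩ * θ ⟨_, hP2⟩ = θ ⟨_, hP2⟩ * θ ⟨_, hg2⟩
    rw [← map_mul, ← map_mul]
    exact congrArg θ (Subtype.ext hP1))
  have hss := hsmall.invol tK xK sK htt hxx hx1 hinv hst
  obtain ⟨c, hc⟩ := exists_sc_of_mk_eq_one (M := S * S) (by
    rw [map_mul]; exact congrArg Subtype.val hss)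
  have h01 := congrArg (fun M : GL (Fin 2) F => M.val 0 1) hc
  simp only [Units.val_mul, hS, coe_sc] at h01
  simp [Matrix.mul_apply, Fin.sum_univ_two, Matrix.smul_apply] at h01
  have : b * (a + b) = 0 := by
    have h' : (a⁻¹ * a⁻¹ * 2) * (b * (a + b)) = 0 := by linear_combination -h01
    exact (mul_eq_zero.1 h').resolve_left (mul_ne_zero (mul_ne_zero (inv_ne_zero ha0) (inv_ne_zero ha0)) h2)
  rcases mul_eq_zero.1 this with h' | h'
  · exact Or.inl h'
  · exact Or.inr (by linear_combination h')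

/-- A scalar image comes from a scalar or from `negP`. -/
theorem th1_scalar_cases (h2 : (2 : F) ≠ 0) (hB : Base h H) (hN : NoRoot (H : Subgroup (GL (Fin 3) F)))
    (g : C1 H) {c : F} (hc : (th1 H g).val = c • (1 : Matrix (Fin 2) (Fin 2) F)) :
    (c = 1 ∨ c = -1) ∧
      (ProjGenLinGroup.mk (g : GL (ZMod 3) F) = 1 ∨
        ProjGenLinGroup.mk (g : GL (ZMod 3) F) = ProjGenLinGroup.mk negP) := by
  set s := symEig (g : GL (ZMod 3) F) with hs
  have e := th1_scalar h2 g hc
  rw [← hs] at e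
  have hs0 : s ≠ 0 := symEig_ne_zero (mem_C1.1 g.2).2
  rcases homology_cases p h2 hB hN (mem_C1.1 g.2).1 e with hb | hb
  · have hc1 : c = 1 := by
      rw [div_eq_zero_iff, mul_eq_zero] at hb
      exact (sub_eq_zero.1 ((hb.resolve_right h2).resolve_left hs0)).symm
    refine ⟨Or.inl hc1, Or.inl (mk_one_of_smul (c := s) ?_)⟩
    rw [e, hc1, sub_self, mul_zero, zero_div, zero_smul, add_zero, one_mul]
  · have hc1 : c = -1 := by
      rw [div_eq_iff h2] at hb
      exact mul_left_cancel₀ hs0 (by linear_combination hb)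
    refine ⟨Or.inr hc1, Or.inr ?_⟩
    have heq : (g : GL (ZMod 3) F) = sc (Units.mk0 (-s) (neg_ne_zero.2 hs0)) * negP := by
      refine eq_sc_mul ?_
      rw [e, hc1, show s * (1 - -1) / 2 = s by field_simp; ring, Units.val_mk0]
      ext i j
      rcases ps_cases i with rfl | rfl | rfl <;> rcases ps_cases j with rfl | rfl | rfl <;>
        simp [coe_negP, mono, antiBlock, Matrix.one_apply, show -(1 : ZMod 3) = 2 by decide,
          show -(2 : ZMod 3) = 1 by decide, show (1 : ZMod 3) ≠ 2 by decide, show (2 : ZMod 3) ≠ 1 by decide,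
          show (0 : ZMod 3) ≠ 1 by decide, show (0 : ZMod 3) ≠ 2 by decide, show (1 : ZMod 3) ≠ 0 by decide,
          show (2 : ZMod 3) ≠ 0 by decide]
    rw [heq, map_mul, mk_sc, one_mul]

/-- The centraliser image is the tetrahedral group, and the image of `fo h` is an involution of it. -/
theorem th1_range (h2 : (2 : F) ≠ 0) (hB : Base h H) (hN : NoRoot (H : Subgroup (GL (Fin 3) F))) :
    Nonempty ((ProjGenLinGroup.mk.comp (th1 H)).range ≃* alternatingGroup (Fin 4)) ∧
    ∃ f : C1 H, (f : GL (ZMod 3) F) = fo h ∧ ProjGenLinGroup.mk (th1 H f) ≠ 1 ∧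
      (th1 H f).val * (th1 H f).val = (-1 : F) • (1 : Matrix (Fin 2) (Fin 2) F) := by
  classical
  have hd := dd_ne_zero h
  have hY1 : fo h ∈ C1 H := mem_C1.2 ⟨hB.fo_mem, negP_comm_fo h⟩
  have hX1 : rz h 0 ∈ C1 H := mem_C1.2 ⟨hB.rz_mem, (negP_comm_rz h).symm⟩
  set X : GL (Fin 2) F := th1 H ⟨_, hX1⟩ with hXdef
  set Y : GL (Fin 2) F := th1 H ⟨_, hY1⟩ with hYdef
  have hX : X.val = !![ω, 0; 0, 1] := by
    have e : symEig (rz h 0) = 1 := by
      simp [symEig, rz, show (1 : ZMod 3) ≠ 0 by decide, show (1 : ZMod 3) ≠ 2 by decide]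
    rw [hXdef, coe_th1, e, inv_one, one_smul]
    ext i j
    fin_cases i <;> fin_cases j <;>
      simp [symBlock, rz, show (1 : ZMod 3) ≠ 0 by decide, show (0 : ZMod 3) ≠ 1 by decide,
        show (1 : ZMod 3) ≠ 2 by decide]
  have hY : Y.val = !![dd ω, 2 * dd ω; dd ω, -dd ω] := by
    have e1 : (fo h).val 1 1 = dd ω * ω := by
      rw [fo_apply, one_mul, ps_one]
    have e2 : (fo h).val 1 2 = dd ω * ω ^ 2 := by
      rw [fo_apply, one_mul, ps_two]
    have e0 : ∀ j, (fo h).val 0 j = dd ω := fun j => by rw [fo_apply, zero_mul, ps_zero, mul_one]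
    have e0' : (fo h).val 1 0 = dd ω := by rw [fo_apply, mul_zero, ps_zero, mul_one]
    have e : symEig (fo h) = 1 := by
      rw [symEig, e1, e2, ← mul_sub, dd, inv_mul_cancel₀ h.diff]
    rw [hYdef, coe_th1, e, inv_one, one_smul]
    ext i j
    fin_cases i <;> fin_cases j <;> simp [symBlock, e0, e0', e1, e2]
    linear_combination dd ω * h.sum
  have hYY : Y.val * Y.val = (-1 : F) • (1 : Matrix (Fin 2) (Fin 2) F) := by
    rw [hY]
    have := dd_sq h
    ext i j
    fin_cases i <;> fin_cases j <;> simp [Matrix.mul_apply, Fin.sum_univ_two] <;>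
      first | ring1 | linear_combination this | linear_combination -this
  let θ := ProjGenLinGroup.mk.comp (th1 H)
  have hu : (![0, (2 : F)⁻¹, -(2 : F)⁻¹] : Fin 3 → F) ⬝ᵥ ![0, 1, -1] = 1 := by
    simp [dotProduct, Fin.sum_univ_three]; field_simp; ring
  have hsmall : Small θ.range := by
    refine small_of_line p θ.range.subtype (Subgroup.subtype_injective _)
      (not_dvd_range p h2 hN inf_le_left hu
        (fun k hk => commute_refl_of_sym h2 (mem_C1.1 hk).2) θ) ?_
    rintro ⟨z, hz⟩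
    have hYz : Y • z = z := by
      have := hz ⟨_, MonoidHom.mem_range.2 ⟨⟨_, hY1⟩, rfl⟩⟩
      exact (PSL2.pglPerm_mk Y z).symm.trans this
    have hXz : X • z = z := by
      have := hz ⟨_, MonoidHom.mem_range.2 ⟨⟨_, hX1⟩, rfl⟩⟩
      exact (PSL2.pglPerm_mk X z).symm.trans this
    cases z with
    | infty =>
      rw [OnePoint.smul_infty_eq_self_iff, hY] at hYz
      simp at hYz
      exact hd hYz
    | coe k =>
      have hk : k = 0 := by
        rw [OnePoint.smul_some_eq_ite, hX] at hXz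
        simp at hXz
        have h' : (ω - 1) * k = 0 := by first | linear_combination hXz | linear_combination -hXz
        exact (mul_eq_zero.1 h').resolve_left (sub_ne_zero.2 h.ne_one)
      subst hk
      rw [OnePoint.smul_some_eq_ite, hY] at hYz
      simp [hd] at hYz
      exact h2 hYz
  let xK : θ.range := ⟨θ ⟨_, hX1⟩, MonoidHom.mem_range.2 ⟨_, rfl⟩⟩
  let yK : θ.range := ⟨θ ⟨_, hY1⟩, MonoidHom.mem_range.2 ⟨_, rfl⟩⟩
  have hxx : xK ^ 3 = 1 := Subtype.ext (by
    show ProjGenLinGroup.mk X ^ 3 = 1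
    rw [← map_pow]
    refine mk_one_of_smul (c := 1) ?_
    rw [Units.val_pow_eq_pow_val, hX, one_smul, pow_three]
    have := h.cube
    ext i j; fin_cases i <;> fin_cases j <;> simp [Matrix.mul_apply, Fin.sum_univ_two]
    linear_combination this)
  have hxy : xK * yK ≠ yK * xK := fun e => by
    have e' : ProjGenLinGroup.mk (X * Y) = ProjGenLinGroup.mk (Y * X) := by
      rw [map_mul, map_mul]; exact congrArg Subtype.val e
    obtain ⟨c, hc⟩ := ProjGenLinGroup.mk_eq_mk_iff.1 e'
    have h00 := congrArg (fun M : GL (Fin 2) F => M.val 0 0) hc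
    have h01 := congrArg (fun M : GL (Fin 2) F => M.val 0 1) hc
    simp [hX, hY, Matrix.mul_apply, Fin.sum_univ_two, Matrix.scalar_apply, Matrix.diagonal_apply] at h00 h01
    have hu1 : (c : F) = 1 := mul_left_cancel₀ (mul_ne_zero h.ne_zero hd) (by linear_combination h00)
    rw [hu1] at h01
    exact h.ne_one (mul_left_cancel₀ (mul_ne_zero h2 hd) (by linear_combination h01))
  rcases hsmall.cases xK yK hxx hxy with ⟨⟨_, ⟨g, rfl⟩⟩, hg⟩ | he
  · exfalso
    have e : ProjGenLinGroup.mk (th1 H g * X * (th1 H g)⁻¹ * X) = 1 := by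
      have e' : θ g * θ ⟨_, hX1⟩ * (θ g)⁻¹ = (θ ⟨_, hX1⟩)⁻¹ := congrArg Subtype.val hg
      rw [map_mul, map_mul, map_mul, map_inv]
      exact mul_eq_one_iff_eq_inv.2 e'
    obtain ⟨c, hc⟩ := exists_sc_of_mk_eq_one e
    set M := (th1 H g * X * (th1 H g)⁻¹ : GL (Fin 2) F)
    have htr : M.val.trace = ω + 1 := by
      show ((th1 H g).val * X.val * ((th1 H g)⁻¹ : GL (Fin 2) F).val).trace = _
      rw [Matrix.trace_units_conj, hX]
      simp [Matrix.trace, Fin.sum_univ_two]
    have e2 := congrArg Units.val hc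
    rw [Units.val_mul, coe_sc, hX] at e2
    have h00 := congrFun (congrFun e2 0) 0
    have h11 := congrFun (congrFun e2 1) 1
    simp [Matrix.mul_apply, Fin.sum_univ_two] at h00 h11
    rw [Matrix.trace, Fin.sum_univ_two] at htr
    simp only [Matrix.diag_apply] at htr
    have hω2 := h.sum
    have hcω : (c : F) = ω := by
      refine mul_left_cancel₀ (a := 1 + ω) (fun e0 => h.ne_zero (mul_self_eq_zero.1 ?_)) ?_
      · linear_combination hω2 - e0
      · linear_combination ω * htr - h00 - ω * h11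
    have hth : (th1 H (g * ⟨_, hX1⟩ * g⁻¹ * ⟨_, hX1⟩)).val = ω • (1 : Matrix (Fin 2) (Fin 2) F) := by
      rw [map_mul, map_mul, map_mul, map_inv, hc, coe_sc, hcω]
    rcases (th1_scalar_cases p h2 hB hN _ hth).1 with h' | h'
    · exact h.ne_one h'
    · have := h.sum
      rw [h'] at this
      exact one_ne_zero (α := F) (by linear_combination this)
  · refine ⟨he, ⟨_, hY1⟩, rfl, fun e => hxy ?_, hYY⟩
    have : yK = 1 := Subtype.ext e
    rw [this, mul_one, one_mul]

end CfsgLib.NineSymp
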