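import Cfsg.Agent.Lib.NineSymp.BaseCentralizer
import Cfsg.Agent.Lib.Involutions.BrauerSuzuki
import Cfsg.Agent.Lib.PCore.Basic
import Cfsg.Prelude.Def_CaseTheorems

/-!
A group containing the Hessian group and no transvection normalises the group of shifts and phases.
-/

set_option autoImplicit false
set_option linter.unusedSectionVars false
set_option linter.unusedSimpArgs false
set_option linter.flexible false
set_option linter.style.haveILetI false
set_option maxRecDepth 100000

namespace CfsgLib.NineSymp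

open Matrix CfsgLib.Mitchell

variable {F : Type*} [Field F] {ω : F} {h : Om ω} {H : Subgroup (GL (ZMod 3) F)}

theorem negP_conj_pm (h : Om ω) (v : V2) : negP * gpm h v = gpm h (-v) * negP := by
  apply Units.ext
  rw [Units.val_mul, Units.val_mul, coe_gpm, coe_gpm, coe_negP, pm, pm, mono_mul, mono_mul]
  congr 1
  · funext j
    simp only [Function.comp_apply, Prod.fst_neg]
    ring
  · funext j
    rw [Prod.snd_neg, one_mul, mul_one, neg_mul_neg]

theorem gpm_zero (h : Om ω) : gpm h (0 : V2) = 1 := Units.ext (pm_zero ω)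

theorem map_mul_sc {ι : Type} [Fintype ι] [DecidableEq ι] (a b : Fˣ) : (sc (a * b) : GL ι F) = sc a * sc b :=
  map_mul _ a b

theorem map_one_sc {ι : Type} [Fintype ι] [DecidableEq ι] : (sc 1 : GL ι F) = 1 := map_one _

theorem map_pow_sc {ι : Type} [Fintype ι] [DecidableEq ι] (a : Fˣ) (n : ℕ) : (sc (a ^ n) : GL ι F) = sc a ^ n :=
  map_pow _ a n

theorem mk_gpm_mul (h : Om ω) (v w : V2) :
    ProjGenLinGroup.mk (gpm h v) * ProjGenLinGroup.mk (gpm h w) = ProjGenLinGroup.mk (gpm h (v + w)) := by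
  rw [← map_mul, gpm_mul, map_mul, mk_sc, one_mul]

/-- What commutes with all shifts and phases up to scalars is one of them up to a scalar. -/
theorem eq_sc_gpm (h : Om ω) {x : GL (ZMod 3) F}
    (hx : ∀ v, ∃ c : F, (x * gpm h v : GL (ZMod 3) F).val = c • (gpm h v * x : GL (ZMod 3) F).val) :
    ∃ c u, x = sc c * gpm h u := by
  obtain ⟨c, hc⟩ := hx (0, 1)
  obtain ⟨e, he⟩ := hx (1, 0)
  rw [Units.val_mul, Units.val_mul, coe_gpm] at hc he
  have hc' : ∀ i j, x.val i j * ps ω j = c * (ps ω i * x.val i j) := fun i j => by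
    have := congrFun (congrFun hc i) j
    rw [Matrix.smul_apply, smul_eq_mul, pm, mul_mono_apply] at this
    have e2 : (mono (fun j : ZMod 3 => j + (0, (1 : ZMod 3)).1) (fun j => ps ω ((0, (1 : ZMod 3)).2 * j)) *
        x.val : Matrix (ZMod 3) (ZMod 3) F) i j = ps ω i * x.val i j := by
      show (mono (Equiv.addRight (0 : ZMod 3) : ZMod 3 → ZMod 3) (fun j => ps ω (1 * j)) * x.val) i j = _
      rw [mono_mul_apply, one_mul,
        show (Equiv.addRight (0 : ZMod 3)).symm i = i from (Equiv.symm_apply_eq _).2 (add_zero i).symm]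
    rw [e2] at this
    simpa using this
  have he' : ∀ i j, x.val i (j + 1) = e * x.val (i - 1) j := fun i j => by
    have := congrFun (congrFun he i) j
    rw [Matrix.smul_apply, smul_eq_mul, pm, mul_mono_apply] at this
    have e2 : (mono (fun j : ZMod 3 => j + ((1 : ZMod 3), (0 : ZMod 3)).1)
        (fun j => ps ω (((1 : ZMod 3), (0 : ZMod 3)).2 * j)) *
        x.val : Matrix (ZMod 3) (ZMod 3) F) i j = x.val (i - 1) j := by
      show (mono (Equiv.addRight (1 : ZMod 3) : ZMod 3 → ZMod 3) (fun j => ps ω (0 * j)) * x.val) i j = _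
      rw [mono_mul_apply]
      simp [ps_zero, sub_eq_add_neg]
    rw [e2] at this
    simpa [ps_zero] using this
  obtain ⟨i₀, j₀, hne⟩ : ∃ i j, x.val i j ≠ 0 := by
    by_contra hall
    push Not at hall
    exact x.ne_zero (Matrix.ext hall)
  -- the support is a diagonal
  set s := i₀ - j₀ with hs
  have hps : ∀ a b, ps ω (a - b) * ps ω b = ps ω a := fun a b => by rw [← ps_add h, sub_add_cancel]
  have hcs : c * ps ω s = 1 := by
    refine mul_right_cancel₀ (mul_ne_zero hne (ps_ne_zero h j₀)) ?_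
    linear_combination -hc' i₀ j₀ + c * x.val i₀ j₀ * hps i₀ j₀
  have hsupp : ∀ i j, x.val i j ≠ 0 → i - j = s := fun i j hij => by
    have h1 : c * ps ω (i - j) = 1 := by
      refine mul_right_cancel₀ (mul_ne_zero hij (ps_ne_zero h j)) ?_
      linear_combination -hc' i j + c * x.val i j * hps i j
    have h2 : ps ω (i - j - s) = 1 := by
      refine mul_right_cancel₀ (ps_ne_zero h s) ?_
      rw [hps, one_mul]
      exact mul_left_cancel₀ (left_ne_zero_of_mul_eq_one hcs) (h1.trans hcs.symm)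
    exact sub_eq_zero.1 ((ps_eq_one h).1 h2)
  set d : ZMod 3 → F := fun j => x.val (j + s) j with hd
  have hd1 : ∀ j, d (j + 1) = e * d j := fun j => by
    rw [hd]
    show x.val (j + 1 + s) (j + 1) = e * x.val (j + s) j
    rw [he', show j + 1 + s - 1 = j + s by ring]
  have hd0 : d 0 ≠ 0 := fun h0 => by
    refine hne ?_
    have hall : ∀ j, d j = 0 := fun j => by
      have h1 : d 1 = 0 := by rw [← zero_add (1 : ZMod 3), hd1, h0, mul_zero]
      rcases ps_cases j with rfl | rfl | rfl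
      · exact h0
      · exact h1
      · rw [show (2 : ZMod 3) = 1 + 1 by rfl, hd1, h1, mul_zero]
    have e0 : j₀ + s = i₀ := by rw [hs]; ring
    exact (congrArg (fun a => x.val a j₀) e0).symm.trans (hall j₀)
  have he3 : e ^ 3 = 1 := by
    refine mul_right_cancel₀ hd0 ?_
    rw [one_mul]
    calc e ^ 3 * d 0 = e * (e * (e * d 0)) := by ring
      _ = d (0 + 1 + 1 + 1) := by rw [hd1, hd1, hd1]
      _ = d 0 := rfl
  obtain ⟨t, rfl⟩ : ∃ t, e = ps ω t := by
    have : (e - 1) * ((e - ω) * (e - ω ^ 2)) = 0 := by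
      linear_combination he3 + (-e ^ 2 + e * ω) * h.sum - h.cube
    rcases mul_eq_zero.1 this with h' | h'
    · exact ⟨0, by rw [ps_zero]; exact sub_eq_zero.1 h'⟩
    rcases mul_eq_zero.1 h' with h' | h'
    · exact ⟨1, by rw [ps_one]; exact sub_eq_zero.1 h'⟩
    · exact ⟨2, by rw [ps_two]; exact sub_eq_zero.1 h'⟩
  refine ⟨Units.mk0 (d 0) hd0, (s, t), eq_sc_mul ?_⟩
  ext i j
  rw [Matrix.smul_apply, smul_eq_mul, Units.val_mk0, coe_gpm, pm]
  by_cases hij : i = j + s
  · subst hij
    have hdj : d j = ps ω (t * j) * d 0 := by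
      have h1 : d 1 = ps ω t * d 0 := by rw [← zero_add (1 : ZMod 3), hd1]
      rcases ps_cases j with rfl | rfl | rfl
      · rw [mul_zero, ps_zero, one_mul]
      · rw [mul_one, h1]
      · rw [show (2 : ZMod 3) = 1 + 1 by rfl, hd1, h1, mul_add, mul_one, ps_add h, mul_assoc]
    show d j = _
    rw [hdj]
    simp [mono, mul_comm]
  · have h0 : x.val i j = 0 := by
      by_contra h0
      exact hij (by rw [← hsupp i j h0]; ring)
    rw [h0]
    simp [mono, hij]

theorem alt_four_conj : ∀ a b : alternatingGroup (Fin 4),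
    a * a = 1 → a ≠ 1 → b * b = 1 → b ≠ 1 → ∃ g, g * b * g⁻¹ = a := by decide +kernel

variable (p : ℕ) [Fact p.Prime] [CharP F p] [Fintype F]
include p

/-- **The group normalises the shifts and phases.** -/
theorem normal_of_noRoot (h2 : (2 : F) ≠ 0) (hB : Base h H) (hN : NoRoot (H : Subgroup (GL (Fin 3) F))) :
    ∀ g ∈ H, ∀ v, ∃ c w, g * gpm h v * g⁻¹ = sc c * gpm h w := by
  classical
  obtain ⟨⟨iso⟩, f, hf, hf1, hf2⟩ := th1_range p h2 hB hN
  set θ := ProjGenLinGroup.mk.comp (th1 H) with hθ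
  let π := (ProjGenLinGroup.mk (n := ZMod 3) (R := F)).comp H.subtype
  let G := π.range
  have hP := hB.negP_mem
  let j : G := ⟨π ⟨negP, hP⟩, MonoidHom.mem_range.2 ⟨_, rfl⟩⟩
  -- commuting with `negP` up to a scalar
  have hcent : ∀ x ∈ H, x.val.trace ≠ 0 → ProjGenLinGroup.mk (x * negP) = ProjGenLinGroup.mk (negP * x) →
      x ∈ C1 H := fun x hx htr e => by
    obtain ⟨c, hc⟩ := ProjGenLinGroup.mk_eq_mk_iff.1 e
    have e1 : (negP * x * negP⁻¹ : GL (ZMod 3) F).val = (c : F) • x.val := by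
      rw [← hc]
      show ((x * negP) * sc c * negP⁻¹ : GL (ZMod 3) F).val = _
      rw [← sc_comm, mul_assoc, mul_inv_cancel_right, coe_sc_mul]
    have e2 := congrArg Matrix.trace e1
    rw [Units.val_mul, Units.val_mul, Matrix.trace_units_conj, Matrix.trace_smul, smul_eq_mul] at e2
    have hc1 : c = 1 := Units.ext ((mul_eq_right₀ htr).1 e2.symm)
    refine mem_C1.2 ⟨hx, ?_⟩
    rw [hc1, map_one, mul_one] at hc
    exact hc
  have hord : orderOf j = 2 := by
    refine orderOf_eq_prime (Subtype.ext ?_) fun e => ?_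
    · rw [SubmonoidClass.coe_pow, pow_two]
      show ProjGenLinGroup.mk negP * ProjGenLinGroup.mk negP = 1
      rw [← map_mul, negP_mul_self, map_one]
    · obtain ⟨c, hc⟩ := exists_sc_of_mk_eq_one (show ProjGenLinGroup.mk (negP : GL (ZMod 3) F) = 1 from
        congrArg Subtype.val e)
      have := congrArg (fun M : GL (ZMod 3) F => M.val 1 1) hc
      simp [coe_negP, mono, coe_sc, show (1 : ZMod 3) ≠ -1 by decide] at this
      exact c.ne_zero this.symm
  have hj1 : ProjGenLinGroup.mk (negP : GL (ZMod 3) F) ≠ 1 := fun e => by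
    rw [show j = 1 from Subtype.ext e, orderOf_one] at hord
    norm_num at hord
  -- the involution is isolated
  have hiso : Cfsg.IsIsolatedInvolution j := by
    refine ⟨hord, ?_⟩
    rintro ⟨_, ⟨g, rfl⟩⟩ hcomm
    set x : GL (ZMod 3) F := (g : GL (ZMod 3) F) * negP * (g : GL (ZMod 3) F)⁻¹ with hx
    have hxH : x ∈ H := H.mul_mem (H.mul_mem g.2 hP) (H.inv_mem g.2)
    have htr : x.val.trace = 1 := by
      rw [hx, Units.val_mul, Units.val_mul, Matrix.trace_units_conj, trace_negP]
    have hval : ProjGenLinGroup.mk x = π g * ProjGenLinGroup.mk negP * (π g)⁻¹ := by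
      rw [hx, map_mul, map_mul, map_inv]; rfl
    have hxC : x ∈ C1 H := hcent x hxH (by rw [htr]; exact one_ne_zero) (by
      rw [map_mul ProjGenLinGroup.mk x negP, map_mul ProjGenLinGroup.mk negP x, hval]
      exact (congrArg Subtype.val hcomm.eq).symm)
    have hxx : x * x = 1 := by
      rw [hx, show (g : GL (ZMod 3) F) * negP * (g : GL (ZMod 3) F)⁻¹ *
          ((g : GL (ZMod 3) F) * negP * (g : GL (ZMod 3) F)⁻¹) =
          (g : GL (ZMod 3) F) * (negP * negP) * (g : GL (ZMod 3) F)⁻¹ by group,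
        negP_mul_self, mul_one, mul_inv_cancel]
    refine Subtype.ext ?_
    show π g * ProjGenLinGroup.mk negP * (π g)⁻¹ = ProjGenLinGroup.mk negP
    rw [← hval]
    by_cases h1 : θ ⟨x, hxC⟩ = 1
    · obtain ⟨c, hc⟩ := exists_sc_of_mk_eq_one (M := th1 H ⟨x, hxC⟩) h1
      rcases (th1_scalar_cases p h2 hB hN ⟨x, hxC⟩ (c := c) (by rw [hc, coe_sc])).2 with e | e
      · exfalso
        rw [hval] at e
        exact hj1 (conj_eq_one_iff.1 e)
      · exact e
    exfalso
    let a : θ.range := ⟨θ ⟨x, hxC⟩, MonoidHom.mem_range.2 ⟨_, rfl⟩⟩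
    let b : θ.range := ⟨θ f, MonoidHom.mem_range.2 ⟨_, rfl⟩⟩
    have ha : a * a = 1 := Subtype.ext (by
      show θ _ * θ _ = 1
      rw [← map_mul, show (⟨x, hxC⟩ : C1 H) * ⟨x, hxC⟩ = 1 from Subtype.ext hxx, map_one])
    have hb : b * b = 1 := Subtype.ext (by
      show ProjGenLinGroup.mk (th1 H f) * ProjGenLinGroup.mk (th1 H f) = 1
      rw [← map_mul]
      exact mk_one_of_smul (by rw [Units.val_mul, hf2]))
    obtain ⟨q, hq⟩ := alt_four_conj (iso a) (iso b) (by rw [← map_mul, ha, map_one])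
      (fun e => h1 (congrArg Subtype.val (show a = 1 from iso.injective (e.trans (map_one iso).symm))))
      (by rw [← map_mul, hb, map_one])
      (fun e => hf1 (congrArg Subtype.val (show b = 1 from iso.injective (e.trans (map_one iso).symm))))
    obtain ⟨⟨_, ⟨k, rfl⟩⟩, rfl⟩ := iso.surjective q
    have hq' : θ k * θ f * (θ k)⁻¹ = θ ⟨x, hxC⟩ := by
      rw [← map_inv, ← map_mul, ← map_mul] at hq
      exact congrArg Subtype.val (iso.injective hq)
    let z : C1 H := ⟨x, hxC⟩ * (k * f * k⁻¹)⁻¹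
    obtain ⟨c, hc⟩ := exists_sc_of_mk_eq_one (M := th1 H z) (by
      show θ z = 1
      rw [map_mul, map_inv, map_mul, map_mul, map_inv, hq', mul_inv_cancel])
    have hc2 : (c : F) * c = 1 := by
      rcases (th1_scalar_cases p h2 hB hN z (c := c) (by rw [hc, coe_sc])).1 with e | e <;> rw [e] <;> ring
    set W : GL (Fin 2) F := th1 H k * th1 H f * (th1 H k)⁻¹ with hW
    have hxW : th1 H ⟨x, hxC⟩ = sc c * W := by
      rw [← hc, map_mul, map_inv, map_mul, map_mul, map_inv, ← hW, inv_mul_cancel_right]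
    have hWW : (W * W).val = (-1 : F) • (1 : Matrix (Fin 2) (Fin 2) F) := by
      rw [show W * W = th1 H k * (th1 H f * th1 H f) * (th1 H k)⁻¹ by rw [hW]; group,
        Units.val_mul, Units.val_mul, Units.val_mul, hf2, mul_smul_comm, mul_one, smul_mul_assoc,
        Units.mul_inv]
    have key := congrArg Units.val (show th1 H ⟨x, hxC⟩ * th1 H ⟨x, hxC⟩ = 1 by
      rw [← map_mul, show (⟨x, hxC⟩ : C1 H) * ⟨x, hxC⟩ = 1 from Subtype.ext hxx, map_one])
    rw [hxW, show sc c * W * (sc c * W) = sc c * (W * sc c) * W by group, ← sc_comm c W,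
      show sc c * (sc c * W) * W = sc (c * c) * (W * W) by rw [map_mul_sc]; group,
      coe_sc_mul, hWW, Units.val_mul, hc2, one_smul, Units.val_one] at key
    have h00 := congrFun (congrFun key 0) 0
    simp at h00
    exact h2 (by linear_combination -h00)
  have hz := CfsgLib.Involutions.zstar G j hiso
  -- the odd core
  set O := Cfsg.pPrimeCore 2 G with hO
  haveI hOn : O.Normal := Cfsg.pPrimeCore_normal 2 G
  have hOodd : Odd (Nat.card O) := Nat.Coprime.odd_of_right (CfsgLib.PCore.pPrimeCore_coprime (G := G) (p := 2))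
  set n := Nat.card O with hn
  have hpow : ∀ o ∈ O, (o : G) ^ n = 1 := fun o ho => by
    have := pow_card_eq_one' (G := O) (x := ⟨o, ho⟩)
    exact congrArg Subtype.val this
  have hfix : ∀ o ∈ O, j * o * j⁻¹ = o → o = 1 := by
    rintro ⟨_, ⟨⟨x, hxH⟩, rfl⟩⟩ ho hjo
    have e : ProjGenLinGroup.mk (negP * x) = ProjGenLinGroup.mk (x * negP) := by
      rw [map_mul, map_mul]
      exact mul_inv_eq_iff_eq_mul.1 (congrArg Subtype.val hjo)
    obtain ⟨c, hc⟩ := ProjGenLinGroup.mk_eq_mk_iff.1 e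
    have hcx : negP * x * negP⁻¹ = sc c⁻¹ * x := by
      have hc2 : negP * x * sc c = x * negP := hc
      rw [mul_inv_eq_iff_eq_mul, mul_assoc (sc c⁻¹), ← hc2, ← sc_comm c, ← mul_assoc, ← map_mul_sc, inv_mul_cancel,
        map_one_sc, one_mul]
    have hn1 := congrArg Subtype.val (hpow _ ho)
    rw [SubmonoidClass.coe_pow] at hn1
    have hxn : ProjGenLinGroup.mk (x ^ n) = 1 := by rw [map_pow]; exact hn1
    obtain ⟨d, hd⟩ := exists_sc_of_mk_eq_one hxn
    have hcn : (c : F) ^ n = 1 ∧ (c : F) * c = 1 := by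
      constructor
      · have e1 : (negP * x * negP⁻¹) ^ n = sc d := by
          rw [conj_pow, hd, ← sc_comm, mul_inv_cancel_right]
        rw [hcx, (Commute.mul_pow (sc_comm c⁻¹ x) n), hd] at e1
        have e2 : sc (c⁻¹) ^ n = (1 : GL (ZMod 3) F) := mul_eq_right.1 e1
        rw [← map_pow_sc] at e2
        have := congrArg (fun M : GL (ZMod 3) F => M.val 0 0) e2
        simp [coe_sc] at this
        exact this
      · have e1 : negP * (negP * x * negP⁻¹) * negP⁻¹ = x := by
          rw [negP_inv, show negP * (negP * x * negP) * negP = negP * negP * x * (negP * negP) by group,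
            negP_mul_self, one_mul, mul_one]
        rw [hcx, ← mul_assoc negP, ← sc_comm c⁻¹ negP, mul_assoc (sc c⁻¹), mul_assoc (sc c⁻¹), hcx, ← mul_assoc,
          ← map_mul_sc, mul_eq_right] at e1
        have := congrArg (fun M : GL (ZMod 3) F => M.val 0 0) e1
        simp [coe_sc] at this
        field_simp at this
        linear_combination -this
    have hc1 : c = 1 := by
      obtain ⟨k, hk⟩ := hOodd
      apply Units.ext
      have h1 := hcn.1
      rw [hk, pow_succ, pow_mul, pow_two, hcn.2, one_pow, one_mul] at h1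
      exact h1
    rw [hc1, map_one, mul_one] at hc
    have hxC : x ∈ C1 H := mem_C1.2 ⟨hxH, hc.symm⟩
    -- its image is trivial
    have hθn : ∀ y : C1 H, (⟨π ⟨y, (mem_C1.1 y.2).1⟩, MonoidHom.mem_range.2 ⟨_, rfl⟩⟩ : G) ∈ O →
        θ y ^ n = 1 := fun y hy => by
      have hy1 := congrArg Subtype.val (hpow _ hy)
      rw [SubmonoidClass.coe_pow] at hy1
      obtain ⟨d, hd⟩ := exists_sc_of_mk_eq_one (M := (y : GL (ZMod 3) F) ^ n) (by rw [map_pow]; exact hy1)
      rw [← map_pow]
      refine mk_one_of_smul (c := 1) ?_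
      rw [coe_th1, SubmonoidClass.coe_pow, hd, one_smul]
      have e1 : symEig (sc d : GL (ZMod 3) F) = d := by
        simp [symEig, coe_sc, show (1 : ZMod 3) ≠ 2 by decide]
      rw [e1]
      ext i j
      fin_cases i <;> fin_cases j <;>
        simp [symBlock, coe_sc, show (1 : ZMod 3) ≠ 2 by decide, show (0 : ZMod 3) ≠ 1 by decide,
          show (1 : ZMod 3) ≠ 0 by decide]
    have hodd1 : ∀ {M : Type} [Group M] (m : M), m ^ n = 1 → m * m = 1 → m = 1 := by
      intro M _ m hm hmm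
      obtain ⟨k, hk⟩ := hOodd
      rwa [hk, pow_succ, pow_mul, pow_two, hmm, one_pow, one_mul] at hm
    let a : θ.range := ⟨θ ⟨x, hxC⟩, MonoidHom.mem_range.2 ⟨_, rfl⟩⟩
    have ha : a ^ n = 1 := Subtype.ext (by rw [SubmonoidClass.coe_pow]; exact hθn ⟨x, hxC⟩ ho)
    have ha1 : a = 1 := by
      by_contra hne
      rcases alt_four_facts.2 (iso a) (fun e => hne (iso.injective (e.trans (map_one iso).symm))) with e | ⟨q, hq, hq1⟩
      · exact hne (iso.injective ((hodd1 (iso a) (by rw [← map_pow, ha, map_one]) e).trans (map_one iso).symm))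
      obtain ⟨⟨_, ⟨k, rfl⟩⟩, rfl⟩ := iso.surjective q
      refine hq1 (hodd1 _ ?_ hq)
      rw [← map_inv, ← map_inv, ← map_mul, ← map_mul, ← map_mul, ← map_pow, map_eq_one_iff _ iso.injective]
      refine Subtype.ext ?_
      rw [SubmonoidClass.coe_pow]
      show (θ k * θ ⟨x, hxC⟩ * (θ k)⁻¹ * (θ ⟨x, hxC⟩)⁻¹) ^ n = 1
      rw [← map_inv, ← map_inv, ← map_mul, ← map_mul, ← map_mul]
      refine hθn _ ?_
      let kG : G := ⟨π ⟨k, (mem_C1.1 k.2).1⟩, MonoidHom.mem_range.2 ⟨_, rfl⟩⟩
      exact O.mul_mem (hOn.conj_mem _ ho kG) (O.inv_mem ho)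
    obtain ⟨c', hc'⟩ := exists_sc_of_mk_eq_one (M := th1 H ⟨x, hxC⟩) (congrArg Subtype.val ha1)
    rcases (th1_scalar_cases p h2 hB hN ⟨x, hxC⟩ (c := c') (by rw [hc', coe_sc])).2 with e1 | e1
    · exact Subtype.ext e1
    · exfalso
      have hjO : j ∈ O := by
        have : (⟨π ⟨x, hxH⟩, MonoidHom.mem_range.2 ⟨_, rfl⟩⟩ : G) = j := Subtype.ext e1
        exact this ▸ ho
      have hd2 : orderOf (⟨j, hjO⟩ : O) = 2 := (Subgroup.orderOf_coe _).symm.trans hord
      exact (Nat.not_even_iff_odd.2 hOodd) (even_iff_two_dvd.2 (hd2 ▸ orderOf_dvd_natCard _))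
  have hcommO : ∀ a ∈ O, ∀ b ∈ O, a * b = b * a := by
    let φ : O →* O := (MulAut.conjNormal j).toMonoidHom
    have hφ : ∀ o : O, ((φ o : O) : G) = j * o * j⁻¹ := fun o => MulAut.conjNormal_apply _ _
    have hφf : MonoidHom.FixedPointFree φ := fun o ho => Subtype.ext
      (hfix _ o.2 (by rw [← hφ, ho]))
    have hjj : j * j = 1 := by
      have := pow_orderOf_eq_one j
      rwa [hord, pow_two] at this
    have hφ2 : Function.Involutive φ := fun o => Subtype.ext (by
      rw [hφ, hφ, show j * (j * (o : G) * j⁻¹) * j⁻¹ = (j * j) * o * (j * j)⁻¹ by group, hjj, one_mul, inv_one,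
        mul_one])
    intro a ha b hb
    exact congrArg Subtype.val (hφf.commute_all_of_involutive hφ2 ⟨a, ha⟩ ⟨b, hb⟩).eq
  -- shifts and phases are in the core
  let r : V2 → G := fun v => ⟨π ⟨gpm h v, hB.pm_mem v⟩, MonoidHom.mem_range.2 ⟨_, rfl⟩⟩
  have hr : ∀ v, r v ∈ O := by
    have key : ∀ v, r (v + v) ∈ O := fun v => by
      have e : r v * j * (r v)⁻¹ * j⁻¹ = r (v + v) := Subtype.ext (by
        show ProjGenLinGroup.mk (gpm h v) * ProjGenLinGroup.mk negP * (ProjGenLinGroup.mk (gpm h v))⁻¹ *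
          (ProjGenLinGroup.mk negP)⁻¹ = ProjGenLinGroup.mk (gpm h (v + v))
        have e' : ProjGenLinGroup.mk (gpm h (-v)) = (ProjGenLinGroup.mk (gpm h v))⁻¹ :=
          eq_inv_of_mul_eq_one_left (by rw [mk_gpm_mul, neg_add_cancel, gpm_zero, map_one])
        have hneg : ProjGenLinGroup.mk negP * ProjGenLinGroup.mk (gpm h v) =
            (ProjGenLinGroup.mk (gpm h v))⁻¹ * ProjGenLinGroup.mk negP := by
          rw [← map_mul, negP_conj_pm, map_mul, e']
        rw [← mk_gpm_mul]
        have hswap : ProjGenLinGroup.mk negP * (ProjGenLinGroup.mk (gpm h v))⁻¹ =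
            ProjGenLinGroup.mk (gpm h v) * ProjGenLinGroup.mk negP := by
          rw [mul_inv_eq_iff_eq_mul, mul_assoc, hneg, mul_inv_cancel_left]
        rw [mul_assoc (ProjGenLinGroup.mk (gpm h v)), hswap, ← mul_assoc, mul_inv_cancel_right])
      rw [← e]
      exact hz (r v)
    intro v
    rw [show v = (2 : ZMod 3) • v + (2 : ZMod 3) • v by rw [← add_smul, show (2 : ZMod 3) + 2 = 1 by rfl, one_smul]]
    exact key _
  intro g hg v
  let gG : G := ⟨π ⟨g, hg⟩, MonoidHom.mem_range.2 ⟨_, rfl⟩⟩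
  obtain ⟨c, u, hcu⟩ := eq_sc_gpm h (x := g * gpm h v * g⁻¹) (fun w => by
    have e := congrArg Subtype.val (hcommO _ (hOn.conj_mem _ (hr v) gG) _ (hr w))
    have e' : ProjGenLinGroup.mk (gpm h w * (g * gpm h v * g⁻¹)) =
        ProjGenLinGroup.mk (g * gpm h v * g⁻¹ * gpm h w) := by
      simp only [map_mul, map_inv]
      exact e.symm
    obtain ⟨c, hc⟩ := ProjGenLinGroup.mk_eq_mk_iff.1 e'
    refine ⟨c, ?_⟩
    rw [← hc]
    show (_ * sc c : GL (ZMod 3) F).val = _
    rw [← sc_comm, coe_sc_mul])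
  exact ⟨c, u, hcu⟩

end CfsgLib.NineSymp
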