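import Cfsg.Agent.Lib.Mitchell.Full
import Cfsg.Agent.Lib.GeomClasses.UnitPow

/-!
An irreducible three-dimensional group with a transvection contains the special linear group over a prime
field, and the special unitary group when it consists of similitudes.
-/

set_option autoImplicit false
set_option linter.style.haveILetI false

namespace CfsgLib.NineSymp

open Matrix Cfsg.Geo CfsgLib.Mitchell CfsgLib.GeomClasses

variable {F : Type*} [Field F] {H : Subgroup (GL (Fin 3) F)}

/-- The subgroup generated by the transvections. -/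
def rootGroup (H : Subgroup (GL (Fin 3) F)) : Subgroup (GL (Fin 3) F) :=
  Subgroup.closure {g | ∃ u φ : Fin 3 → F, Root H u φ ∧ g = tv u φ}

theorem rootGroup_le : rootGroup H ≤ H :=
  (Subgroup.closure_le _).2 (by rintro _ ⟨u, φ, hu, rfl⟩; exact hu.2)

theorem root_rootGroup {u φ : Fin 3 → F} (hu : Root H u φ) : Root (rootGroup H) u φ :=
  ⟨hu.1, Subgroup.subset_closure ⟨u, φ, hu, rfl⟩⟩

theorem root_of_rootGroup {u φ : Fin 3 → F} (hu : Root (rootGroup H) u φ) : Root H u φ :=
  ⟨hu.1, rootGroup_le hu.2⟩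

theorem rootGen_rootGroup : RootGen (rootGroup H) :=
  Subgroup.closure_mono (by rintro _ ⟨u, φ, hu, rfl⟩; exact ⟨u, φ, root_rootGroup hu, rfl⟩)

theorem rootGroup_conj {g x : GL (Fin 3) F} (hg : g ∈ H) (hx : x ∈ rootGroup H) :
    g * x * g⁻¹ ∈ rootGroup H := by
  suffices h : rootGroup H ≤ (rootGroup H).comap (MulAut.conj g).toMonoidHom from h hx
  refine (Subgroup.closure_le _).2 ?_
  rintro _ ⟨u, φ, hu, rfl⟩
  refine Subgroup.subset_closure ⟨_, _, hu.conj hg, ?_⟩
  exact conj_tv g hu.1

/-- The subgroup generated by the transvections is irreducible. -/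
theorem rootGroup_irreducible (hirr : ActsIrreducibly (matrixSet H)) {u φ : Fin 3 → F} (hu : Root H u φ)
    (hu0 : u ≠ 0) (hφ0 : φ ≠ 0) : ActsIrreducibly (matrixSet (rootGroup H)) := by
  intro W hW
  by_contra hne
  push Not at hne
  have hPW : rootGroup H ≤ subspaceStabilizer W := fun g hg => mem_subspaceStabilizer.2 fun x hx => by
    have := hW _ ⟨g, hg, rfl⟩ ⟨x, hx, rfl⟩
    rwa [Matrix.toLin'_apply] at this
  have hHirr : ∀ U : Submodule F (Fin 3 → F),
      (∀ g ∈ H, ∀ x ∈ U, (g : Matrix (Fin 3) (Fin 3) F) *ᵥ x ∈ U) → U = ⊥ ∨ U = ⊤ := fun U hU =>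
    hirr U (by
      rintro _ ⟨g, hg, rfl⟩ _ ⟨x, hx, rfl⟩
      rw [Matrix.toLin'_apply]
      exact hU g hg x hx)
  -- translates of an invariant subspace are invariant
  have hmove : ∀ U : Submodule F (Fin 3 → F), rootGroup H ≤ subspaceStabilizer U → ∀ g ∈ H,
      rootGroup H ≤ subspaceStabilizer (U.map (Matrix.toLin' (g : Matrix (Fin 3) (Fin 3) F))) := by
    intro U hU g hg k hk
    refine mem_subspaceStabilizer.2 ?_
    rintro _ ⟨x, hx, rfl⟩
    have hk' := hU (rootGroup_conj (H.inv_mem hg) hk)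
    refine ⟨_, mem_subspaceStabilizer.1 hk' x hx, ?_⟩
    rw [Matrix.toLin'_apply, Matrix.toLin'_apply, ← gl_mul_mulVec, ← gl_mul_mulVec, inv_inv, ← mul_assoc,
      ← mul_assoc, mul_inv_cancel, one_mul]
  obtain ⟨U, hU, hU1⟩ : ∃ U : Submodule F (Fin 3 → F), rootGroup H ≤ subspaceStabilizer U ∧
      Module.finrank F U = 1 := by
    have h0 : Module.finrank F W ≠ 0 := fun e => hne.1 (Submodule.finrank_eq_zero.1 e)
    have h3 : Module.finrank F W < 3 := by
      have := Submodule.finrank_lt hne.2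
      rwa [Module.finrank_fintype_fun_eq_card, Fintype.card_fin] at this
    rcases (show Module.finrank F W = 1 ∨ Module.finrank F W = 2 by omega) with h1 | h2
    · exact ⟨W, hPW, h1⟩
    obtain ⟨g, hg, x, hx, hgx⟩ : ∃ g ∈ H, ∃ x ∈ W, (g : Matrix (Fin 3) (Fin 3) F) *ᵥ x ∉ W := by
      by_contra hc
      push Not at hc
      rcases hHirr W hc with h | h
      · exact hne.1 h
      · exact hne.2 h
    set W' := W.map (Matrix.toLin' (g : Matrix (Fin 3) (Fin 3) F)) with hW'
    refine ⟨W ⊓ W', fun k hk => mem_subspaceStabilizer.2 fun y hy =>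
      ⟨mem_subspaceStabilizer.1 (hPW hk) y hy.1, mem_subspaceStabilizer.1 (hmove W hPW g hg hk) y hy.2⟩, ?_⟩
    have hW'2 : Module.finrank F W' = 2 := by
      refine ((Submodule.equivMapOfInjective _ ?_ W).finrank_eq).symm.trans h2
      simpa [Function.Injective] using gl_mulVec_injective g
    have hsum := Submodule.finrank_sup_add_finrank_inf_eq W W'
    have hsup : 2 < Module.finrank F ↥(W ⊔ W') := by
      rw [← h2]
      refine Submodule.finrank_lt_finrank_of_lt (left_lt_sup.2 fun hle => hgx (hle ⟨x, hx, ?_⟩))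
      rw [Matrix.toLin'_apply]
    have hle : Module.finrank F ↥(W ⊔ W') ≤ 3 := by
      have := (W ⊔ W').finrank_le
      rwa [Module.finrank_fintype_fun_eq_card, Fintype.card_fin] at this
    omega
  -- eigenvectors of every transvection lie on its axis
  have hax : ∀ V : Submodule F (Fin 3 → F), rootGroup H ≤ subspaceStabilizer V → Module.finrank F V = 1 →
      ∀ x ∈ V, φ ⬝ᵥ x = 0 := by
    intro V hV hV1 x hx
    by_contra hφx
    have h1 : (φ ⬝ᵥ x) • u ∈ V := by
      have := V.sub_mem (mem_subspaceStabilizer.1 (hV (root_rootGroup hu).2) x hx) hx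
      rwa [tv_mulVec hu.1, add_sub_cancel_left] at this
    have hu' : u ∈ V := by
      have := V.smul_mem (φ ⬝ᵥ x)⁻¹ h1
      rwa [smul_smul, inv_mul_cancel₀ hφx, one_smul] at this
    obtain ⟨c, hc⟩ := (finrank_eq_one_iff_of_nonzero' (⟨u, hu'⟩ : V)
      (fun h => hu0 (congrArg Subtype.val h))).1 hV1 ⟨x, hx⟩
    apply hφx
    rw [← show c • u = x from congrArg Subtype.val hc, dotProduct_smul, hu.1, smul_zero]
  obtain ⟨w, hw, hw0⟩ : ∃ w ∈ U, w ≠ 0 := by
    by_contra hc
    push Not at hc
    rw [(Submodule.eq_bot_iff U).2 hc, finrank_bot] at hU1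
    exact zero_ne_one hU1
  let S : Submodule F (Fin 3 → F) :=
    Submodule.span F {y | ∃ g ∈ H, (g : Matrix (Fin 3) (Fin 3) F) *ᵥ w = y}
  have hS : S = ⊤ := by
    refine (hHirr S fun g hg x hx => ?_).resolve_left fun h => hw0 ?_
    · show x ∈ S.comap (Matrix.toLin' (g : Matrix (Fin 3) (Fin 3) F))
      refine (Submodule.span_le.2 ?_) hx
      rintro _ ⟨k, hk, rfl⟩
      refine Submodule.subset_span ⟨g * k, H.mul_mem hg hk, ?_⟩
      rw [gl_mul_mulVec, Matrix.toLin'_apply]
    · have : w ∈ S := Submodule.subset_span ⟨1, H.one_mem, by simp⟩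
      simpa [h] using this
  have hzero : ∀ x, φ ⬝ᵥ x = 0 := fun x => by
    have hx : x ∈ S := hS ▸ Submodule.mem_top
    induction hx using Submodule.span_induction with
    | mem y hy =>
      obtain ⟨g, hg, rfl⟩ := hy
      refine hax _ (hmove U hU g hg) ?_ _ ⟨w, hw, Matrix.toLin'_apply _ _⟩
      refine ((Submodule.equivMapOfInjective _ ?_ U).finrank_eq).symm.trans hU1
      simpa [Function.Injective] using gl_mulVec_injective g
    | zero => exact dotProduct_zero _
    | add y z _ _ hy hz => rw [dotProduct_add, hy, hz, add_zero]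
    | smul c y _ hy => rw [dotProduct_smul, hy, smul_zero]
  exact hφ0 (funext fun i => by simpa using hzero (Pi.single i 1))

theorem root_natCast {a α : Fin 3 → F} (h : Root H a α) (n : ℕ) : Root H a ((n : F) • α) := by
  have h1 : (1 : F) ∈ rootParam H h.1 := one_mem_rootParam h
  have := (rootParam H h.1).nsmul_mem h1 n
  rw [nsmul_one] at this
  exact mem_rootParam.1 this

variable [Fintype F]

/-- Linear case over a prime field. -/
theorem specialLinear_le_of_root {p : ℕ} (hp : p.Prime) (hF : Fintype.card F = p)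
    (hirr : ActsIrreducibly (matrixSet H)) {u φ : Fin 3 → F} (hu : Root H u φ) (hu0 : u ≠ 0) (hφ0 : φ ≠ 0) :
    specialLinear (Fin 3) F ≤ H := by
  haveI : Fact p.Prime := ⟨hp⟩
  haveI : CharP F p := charP_of_card_eq_prime hF
  have hP := rootGroup_irreducible hirr hu hu0 hφ0
  obtain ⟨g, hg, hκ⟩ := exists_conj_kappa_ne_zero hP (root_rootGroup hu) hu0 hφ0 hu0 hφ0 hu.1
  refine le_trans (specialLinear_le_of_full rootGen_rootGroup hP (fun a α ha c => ?_) (root_rootGroup hu)
    ((root_rootGroup hu).conj hg) hκ) rootGroup_le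
  obtain ⟨n, rfl⟩ : ∃ n : ℕ, (n : F) = c := by
    have hb : Function.Bijective (ZMod.castHom (dvd_refl p) F) := by
      rw [Fintype.bijective_iff_injective_and_card, ZMod.card]
      exact ⟨RingHom.injective _, hF.symm⟩
    obtain ⟨z, hz⟩ := hb.2 c
    exact ⟨z.val, by rw [← hz, ZMod.castHom_apply, ZMod.natCast_val]⟩
  exact root_rootGroup (root_natCast (root_of_rootGroup ha) n)

/-- Unitary case over a prime field. -/
theorem specialUnitary_le_of_root {p : ℕ} (hp : p.Prime) (hp2 : p ≠ 2) (hF : Fintype.card F = p ^ 2)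
    (hH : H ≤ similarityGroup (Cfsg.hermForm 3 F p))
    (hirr : ActsIrreducibly (matrixSet H)) {u φ : Fin 3 → F} (hu : Root H u φ) (hu0 : u ≠ 0) (hφ0 : φ ≠ 0) :
    Cfsg.GU 3 F p ⊓ specialLinear (Fin 3) F ≤ H := by
  haveI : Fact p.Prime := ⟨hp⟩
  haveI : CharP F p := by
    obtain ⟨n, hr, hn⟩ := FiniteField.card F (ringChar F)
    rw [hF] at hn
    have h1 : p ∣ ringChar F ^ (n : ℕ) := hn ▸ dvd_pow_self p two_ne_zero
    rw [(Nat.prime_dvd_prime_iff_eq hp hr).1 (hp.dvd_of_dvd_pow h1)]
    infer_instance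
  have hq : 3 ≤ p := by have := hp.two_le; omega
  have hf := UnitPow.isUnitaryForm_hermForm hF 3
  -- elements of order dividing the characteristic are isometries
  have hisoH : ∀ x ∈ H, x ^ p = 1 → x ∈ Cfsg.GU 3 F p := by
    intro x hx hxp
    obtain ⟨c, hc⟩ := hH hx
    have hn : ∀ n : ℕ, ∀ v w, Cfsg.hermForm 3 F p (((x ^ n : GL (Fin 3) F) : Matrix (Fin 3) (Fin 3) F) *ᵥ v)
        (((x ^ n : GL (Fin 3) F) : Matrix (Fin 3) (Fin 3) F) *ᵥ w) = (c : F) ^ n * Cfsg.hermForm 3 F p v w := by
      intro n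
      induction n with
      | zero => intro v w; simp
      | succ n ih => intro v w; rw [pow_succ, gl_mul_mulVec, gl_mul_mulVec, ih, hc, pow_succ]; ring
    obtain ⟨w, hw⟩ := (hf.nondegenerate (Pi.single 0 1) (by simp)).2
    have h1 := hn p (Pi.single 0 1) w
    rw [hxp, Units.val_one, Matrix.one_mulVec, Matrix.one_mulVec] at h1
    have hc1 : (c : F) = 1 := frobenius_inj F p (by
      rw [frobenius_def, map_one]
      exact ((mul_eq_right₀ hw).1 h1.symm))
    refine UnitPow.mem_GU.2 fun v w => ?_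
    rw [hc, hc1, one_mul]
  have hP := rootGroup_irreducible hirr hu hu0 hφ0
  have hPU : rootGroup H ≤ Cfsg.GU 3 F p := (Subgroup.closure_le _).2 (by
    rintro _ ⟨a, α, ha, rfl⟩
    refine hisoH _ ha.2 ?_
    have h1 : ∀ n : ℕ, tv a α ^ n = tv a ((n : F) • α) := by
      intro n
      induction n with
      | zero => rw [pow_zero, Nat.cast_zero, zero_smul, tv_zero_right]
      | succ n ih =>
        rw [pow_succ, ih, tv_mul_tv_right (by simp [ha.1]) ha.1, Nat.cast_succ, add_smul, one_smul]
    rw [h1, CharP.cast_eq_zero, zero_smul, tv_zero_right])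
  obtain ⟨g, hg, hκ⟩ := exists_conj_kappa_ne_zero hP (root_rootGroup hu) hu0 hφ0 hu0 hφ0 hu.1
  let k : Subfield F := (ZMod.castHom (dvd_refl p) F).fieldRange
  have hk : Nat.card k = p := by
    have e : Nat.card k = Nat.card (Set.range (ZMod.castHom (dvd_refl p) F)) := rfl
    rw [e, Nat.card_range_of_injective (RingHom.injective _), Nat.card_zmod]
  have hkmem : ∀ x : F, x ^ p = x → x ∈ k := by
    intro x hx
    by_contra hxk
    classical
    let e : Finset F := insert x (Finset.univ.image (ZMod.castHom (dvd_refl p) F))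
    have he : e.card = p + 1 := by
      rw [Finset.card_insert_of_notMem fun h => hxk (by
          obtain ⟨z, -, hz⟩ := Finset.mem_image.1 h
          exact ⟨z, hz⟩),
        Finset.card_image_of_injective _ (RingHom.injective _), Finset.card_univ, ZMod.card]
    have hsub : e.val ⊆ (Polynomial.X ^ p - Polynomial.X : Polynomial F).roots := by
      intro y hy
      rw [Polynomial.mem_roots (FiniteField.X_pow_card_sub_X_ne_zero F hp.one_lt)]
      have hy' : y ^ p = y := by
        rcases Finset.mem_insert.1 (Finset.mem_def.2 hy) with rfl | h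
        · exact hx
        · obtain ⟨z, -, rfl⟩ := Finset.mem_image.1 h
          rw [← map_pow, ZMod.pow_card]
      simp [hy']
    have := Polynomial.card_le_degree_of_subset_roots hsub
    rw [he, FiniteField.X_pow_card_sub_X_natDegree_eq F hp.one_lt] at this
    omega
  refine le_trans (specialUnitary_le_of_full hF hq hPU rootGen_rootGroup hP hk
    (fun a α ha c hc => ?_) (root_rootGroup hu) ((root_rootGroup hu).conj hg) hκ (hkmem _ ?_)) rootGroup_le
  · obtain ⟨z, rfl⟩ := hc
    rw [show ZMod.castHom (dvd_refl p) F z = ((z.val : ℕ) : F) by rw [ZMod.castHom_apply, ZMod.natCast_val]]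
    exact root_rootGroup (root_natCast (root_of_rootGroup ha) _)
  · have hiso : ∀ x ∈ rootGroup H, Symp.IsIsometry (Cfsg.hermForm 3 F p) x := fun x hx =>
      UnitPow.mem_GU.1 (hPU hx)
    have hv := (root_rootGroup hu).conj hg
    set v := (g : Matrix (Fin 3) (Fin 3) F) *ᵥ u
    set ψ := φ ᵥ* ((g⁻¹ : GL (Fin 3) F) : Matrix (Fin 3) (Fin 3) F)
    obtain ⟨h1, h2⟩ := mul_ne_zero_iff.1 hκ
    obtain ⟨-, c, -, hcs, hc⟩ := root_of_isometry hf hiso (root_rootGroup hu) hu0 hφ0
    obtain ⟨-, d, -, hds, hd⟩ := root_of_isometry hf hiso hv (fun e => h1 (by rw [e, dotProduct_zero]))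
      (fun e => h2 (by rw [e, zero_dotProduct]))
    rw [UnitPow.conj_apply] at hcs hds
    have hfc := Unit.conj_form hf v u
    rw [UnitPow.conj_apply] at hfc
    have hfc' := Unit.conj_form hf u v
    rw [UnitPow.conj_apply] at hfc'
    rw [kappa, hc, hd, mul_pow, mul_pow, mul_pow, eq_neg_of_add_eq_zero_right hcs,
      eq_neg_of_add_eq_zero_right hds, hfc, hfc']
    ring

end CfsgLib.NineSymp
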