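import Mathlib
import Cfsg.Agent.Lib.PSL2.Dickson
import Cfsg.Agent.Lib.PSL2.Basic

/-!
The subgroups of order prime to the characteristic of a projective linear group in dimension two:
what an involution inverting an element of order three forces, and inversion of elements of order three.
-/

set_option autoImplicit false
set_option maxRecDepth 100000
set_option synthInstance.maxSize 4096
set_option linter.style.haveILetI false

namespace CfsgLib.NineSymp

open Matrix

universe u

/-- The two properties used from the list of small subgroups. -/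
structure Small (H : Type*) [Group H] : Prop where
  invol : ∀ t x s : H, t * t = 1 → x ^ 3 = 1 → x ≠ 1 → t * x * t⁻¹ = x⁻¹ → s * t = t * s → s * s = 1
  cases : ∀ x y : H, x ^ 3 = 1 → x * y ≠ y * x →
    (∃ g : H, g * x * g⁻¹ = x⁻¹) ∨ Nonempty (H ≃* alternatingGroup (Fin 4))

theorem Small.of_equiv {H K : Type*} [Group H] [Group K] (e : H ≃* K) (h : Small K) : Small H where
  invol t x s ht hx hx1 hi hc := by
    apply e.injective
    rw [map_mul, map_one]
    refine h.invol (e t) (e x) (e s) ?_ ?_ ?_ ?_ ?_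
    · rw [← map_mul, ht, map_one]
    · rw [← map_pow, hx, map_one]
    · exact fun e' => hx1 (e.injective (by rw [e', map_one]))
    · rw [← map_inv, ← map_mul, ← map_mul, hi, map_inv]
    · rw [← map_mul, ← map_mul, hc]
  cases x y hx hxy := by
    rcases h.cases (e x) (e y) (by rw [← map_pow, hx, map_one])
      (fun e' => hxy (e.injective (by rw [map_mul, map_mul]; exact e'))) with ⟨g, hg⟩ | hf
    · refine Or.inl ⟨e.symm g, e.injective ?_⟩
      rw [map_mul, map_mul, map_inv, map_inv, e.apply_symm_apply, hg]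
    · exact Or.inr (hf.map e.trans)

theorem Small.of_comm {H : Type*} [Group H] (hc : ∀ a b : H, a * b = b * a) : Small H where
  invol t x s _ hx hx1 hi _ := by
    refine absurd ?_ hx1
    rw [hc t x, mul_inv_cancel_right] at hi
    rw [pow_three, show x * x = 1 from mul_eq_one_iff_eq_inv.2 hi, mul_one] at hx
    exact hx
  cases x y _ hxy := absurd (hc x y) hxy

theorem small_dihedral (n : ℕ) : Small (DihedralGroup n) where
  invol t x s ht hx hx1 hi hc := by
    obtain ⟨k, rfl⟩ : ∃ k, x = DihedralGroup.r k := by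
      rcases x with k | k
      · exact ⟨k, rfl⟩
      · rw [pow_three, DihedralGroup.sr_mul_self, mul_one] at hx
        exact absurd hx hx1
    obtain ⟨a, rfl⟩ : ∃ a, t = DihedralGroup.sr a := by
      rcases t with a | a
      · refine absurd ?_ hx1
        rw [DihedralGroup.r_mul_r, add_comm, ← DihedralGroup.r_mul_r, mul_inv_cancel_right] at hi
        rw [pow_three, show DihedralGroup.r k * DihedralGroup.r k = 1 from mul_eq_one_iff_eq_inv.2 hi,
          mul_one] at hx
        exact hx
      · exact ⟨a, rfl⟩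
    rcases s with j | j
    · rw [DihedralGroup.r_mul_sr, DihedralGroup.sr_mul_r, DihedralGroup.sr.injEq] at hc
      rw [DihedralGroup.r_mul_r, DihedralGroup.one_def, DihedralGroup.r.injEq]
      linear_combination -hc
    · exact DihedralGroup.sr_mul_self j
  cases x y hx hxy := by
    left
    rcases x with k | k
    · refine ⟨DihedralGroup.sr 0, ?_⟩
      rw [DihedralGroup.sr_mul_r, DihedralGroup.inv_sr, DihedralGroup.sr_mul_sr, DihedralGroup.inv_r]
      simp
    · rw [pow_three, DihedralGroup.sr_mul_self, mul_one] at hx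
      exact absurd (by rw [hx, one_mul, mul_one]) hxy

theorem perm_four_facts :
    (∀ t : Equiv.Perm (Fin 4), t * t = 1 → (∃ x, x * (x * x) = 1 ∧ x ≠ 1 ∧ t * x * t⁻¹ = x⁻¹) →
      ∀ s, s * t = t * s → s * s = 1) ∧
    (∀ x : Equiv.Perm (Fin 4), x * (x * x) = 1 → ∃ g, g * x * g⁻¹ = x⁻¹) :=
  ⟨by decide +kernel, by decide +kernel⟩

theorem alt_four_facts :
    (∀ t : alternatingGroup (Fin 4), t * t = 1 → t ≠ 1 → ∀ s, s * t = t * s → s * s = 1) ∧
    (∀ x : alternatingGroup (Fin 4), x ≠ 1 → x * x = 1 ∨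
      ∃ g, (g * x * g⁻¹ * x⁻¹) * (g * x * g⁻¹ * x⁻¹) = 1 ∧ g * x * g⁻¹ * x⁻¹ ≠ 1) :=
  ⟨by decide +kernel, by decide +kernel⟩

theorem alt_five_facts :
    (∀ t : alternatingGroup (Fin 5), t * t = 1 → t ≠ 1 → ∀ s, s * t = t * s → s * s = 1) ∧
    (∀ x : alternatingGroup (Fin 5), x * (x * x) = 1 → ∃ g, g * x * g⁻¹ = x⁻¹) :=
  ⟨by decide +kernel, by decide +kernel⟩

theorem ne_one_of_inverts {H : Type*} [Group H] {t x : H} (hx : x ^ 3 = 1) (hx1 : x ≠ 1)
    (hi : t * x * t⁻¹ = x⁻¹) : t ≠ 1 := by
  rintro rfl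
  rw [one_mul, inv_one, mul_one] at hi
  rw [pow_three, mul_eq_one_iff_eq_inv.2 hi, mul_one] at hx
  exact hx1 hx

theorem small_perm_four : Small (Equiv.Perm (Fin 4)) where
  invol t x s ht hx hx1 hi hc := perm_four_facts.1 t ht ⟨x, by rw [← pow_three]; exact hx, hx1, hi⟩ s hc
  cases x _ hx _ := Or.inl (perm_four_facts.2 x (by rw [← pow_three]; exact hx))

theorem small_alt_four : Small (alternatingGroup (Fin 4)) where
  invol t _ s ht hx hx1 hi hc := alt_four_facts.1 t ht (ne_one_of_inverts hx hx1 hi) s hc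
  cases _ _ _ _ := Or.inr ⟨MulEquiv.refl _⟩

theorem small_alt_five : Small (alternatingGroup (Fin 5)) where
  invol t _ s ht hx hx1 hi hc := alt_five_facts.1 t ht (ne_one_of_inverts hx hx1 hi) s hc
  cases x _ hx _ := Or.inl (alt_five_facts.2 x (by rw [← pow_three]; exact hx))

/-- A group of order prime to the characteristic without fixed point on the line is small. -/
theorem small_of_line {F : Type*} [Field F] [Fintype F] [DecidableEq F] (p : ℕ) [Fact p.Prime] [CharP F p]
    {H : Type*} [Group H] [Finite H] (φ : H →* ProjGenLinGroup (Fin 2) F) (hφ : Function.Injective φ)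
    (hp : ¬ p ∣ Nat.card H) (hfix : ¬ ∃ x, ∀ h, PSL2.pglPerm F (φ h) x = x) : Small H := by
  rcases PSL2.dickson p φ hφ with h | ⟨hc, -⟩ | ⟨C, -, -, ⟨e⟩⟩ | ⟨⟨e⟩⟩ | ⟨⟨e⟩⟩ | ⟨⟨e⟩⟩ | ⟨S, -, h⟩
  · exact absurd h hfix
  · exact Small.of_comm fun a b => IsMulCommutative.is_comm.comm a b
  · exact Small.of_equiv e (small_dihedral _)
  · exact Small.of_equiv e small_alt_four
  · exact Small.of_equiv e small_perm_four
  · exact Small.of_equiv e small_alt_five
  · exfalso
    haveI : CharP S p := S.subtype.charP S.subtype.injective p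
    letI : Fintype S := Fintype.ofFinite S
    obtain ⟨n, -, hn⟩ := FiniteField.card S p
    have hpq : p ∣ Fintype.card S := by rw [hn]; exact dvd_pow_self p n.ne_zero
    rcases h with ⟨⟨e⟩⟩ | ⟨⟨e⟩⟩ <;> apply hp <;> rw [Nat.card_congr e.toEquiv]
    · have hd : p ∣ Nat.gcd 2 (Fintype.card S - 1) *
          Nat.card (ProjectiveSpecialLinearGroup (Fin 2) S) := by
        rw [PSL2.card_psl]
        exact dvd_mul_of_dvd_right (dvd_mul_of_dvd_left hpq _) _
      refine (Nat.Coprime.dvd_of_dvd_mul_left ?_ hd)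
      rw [(Fact.out : p.Prime).coprime_iff_not_dvd]
      intro h'
      have h1 := h'.trans (Nat.gcd_dvd_right _ _)
      have h2 := Nat.dvd_sub hpq h1
      rw [Nat.sub_sub_self Fintype.card_pos] at h2
      exact (Fact.out : p.Prime).one_lt.ne' (Nat.dvd_one.1 h2)
    · rw [PSL2.card_pgl]
      exact dvd_mul_of_dvd_right (dvd_mul_of_dvd_left hpq _) _

end CfsgLib.NineSymp
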