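import Cfsg.Agent.Lib.NineSymp.BaseCore
import Cfsg.Agent.Lib.GeomClasses.UnitPow

/-!
Over the field with four elements every isometry of the standard hermitian form in dimension three normalises
the shifts and phases.
-/

set_option autoImplicit false
set_option linter.unusedSectionVars false
set_option linter.unusedSimpArgs false
set_option linter.flexible false
set_option linter.style.haveILetI false

namespace CfsgLib.NineSymp

open Matrix

variable {F : Type*} [Field F] {ω : F}

/-- Normalising the shifts and phases up to scalars. -/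
def Nor (h : Om ω) (g : GL (ZMod 3) F) : Prop := ∀ v, ∃ c w, g * gpm h v * g⁻¹ = sc c * gpm h w

theorem Nor.mul {h : Om ω} {g k : GL (ZMod 3) F} (hg : Nor h g) (hk : Nor h k) : Nor h (g * k) := fun v => by
  obtain ⟨c, w, e⟩ := hk v
  obtain ⟨d, u, e'⟩ := hg w
  refine ⟨c * d, u, ?_⟩
  rw [show g * k * gpm h v * (g * k)⁻¹ = g * (k * gpm h v * k⁻¹) * g⁻¹ by group, e,
    ← mul_assoc g, ← sc_comm c g, mul_assoc (sc c), mul_assoc (sc c), e', ← mul_assoc, ← map_mul_sc]

theorem Nor.sc_left (h : Om ω) (c : Fˣ) : Nor h (sc c) := fun v =>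
  ⟨1, v, by rw [sc_comm, mul_inv_cancel_right, map_one_sc, one_mul]⟩

theorem nor_gpm (h : Om ω) (u : V2) : Nor h (gpm h u) := fun v => by
  refine ⟨ou h (u.2 * v.1) * (ou h (v.2 * u.1))⁻¹, v, ?_⟩
  have e1 := gpm_mul h u v
  have e2 := gpm_mul h v u
  rw [e1, mul_inv_eq_iff_eq_mul, mul_assoc, e2, add_comm v u, ← mul_assoc, ← map_mul_sc, inv_mul_cancel_right]

theorem nor_negP (h : Om ω) : Nor h negP := fun v => by
  refine ⟨1, -v, ?_⟩
  rw [negP_conj_pm, mul_inv_cancel_right, map_one_sc, one_mul]

theorem nor_fo (h : Om ω) : Nor h (fo h) := fun v => by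
  refine ⟨ou h (-(v.1 * v.2)), (-v.2, v.1), ?_⟩
  rw [mul_inv_eq_iff_eq_mul, mul_assoc]
  refine eq_sc_mul ?_
  rw [Units.val_mul, Units.val_mul, coe_gpm, coe_gpm, ou, Units.val_mk0]
  ext i j
  rw [Matrix.smul_apply, smul_eq_mul, pm, pm, mul_mono_apply]
  show (fo h).val i (j + v.1) * ps ω (v.2 * j) = _ *
    (mono (Equiv.addRight (-v.2) : ZMod 3 → ZMod 3) (fun j => ps ω (v.1 * j)) * (fo h).val) i j
  rw [mono_mul_apply, show (Equiv.addRight (-v.2)).symm i = i + v.2 from
    (Equiv.symm_apply_eq _).2 (show i = i + v.2 + -v.2 by ring)]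
  rw [fo_apply, fo_apply, mul_assoc, ← ps_add h,
    show ∀ a b c : F, a * (b * (dd ω * c)) = dd ω * (a * b * c) from fun a b c => by ring,
    ← ps_add h, ← ps_add h]
  ring_nf

theorem affine_diff : ∀ (e : ZMod 3 → ZMod 3) (a : ZMod 3), ∃ t u, ∀ j, e (j + a) - e j = t * j + u := by
  decide +kernel

/-- A diagonal matrix of powers of the root. -/
def dgp (h : Om ω) (e : ZMod 3 → ZMod 3) : GL (ZMod 3) F where
  val := mono id fun j => ps ω (e j)
  inv := mono id fun j => ps ω (-e j)
  val_inv := by
    rw [mono_mul, Function.comp_id]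
    simp [← ps_add h, ps_zero, mono_id]
  inv_val := by
    rw [mono_mul, Function.comp_id]
    simp [← ps_add h, ps_zero, mono_id]

theorem nor_dgp (h : Om ω) (e : ZMod 3 → ZMod 3) : Nor h (dgp h e) := fun v => by
  obtain ⟨t, u, ht⟩ := affine_diff e v.1
  refine ⟨ou h u, (v.1, v.2 + t), ?_⟩
  rw [mul_inv_eq_iff_eq_mul, mul_assoc]
  refine eq_sc_mul ?_
  rw [Units.val_mul, Units.val_mul, coe_gpm, coe_gpm, pm, pm, ou, Units.val_mk0]
  show mono id _ * mono _ _ = _ • (mono _ _ * mono id _)
  rw [mono_mul, mono_mul]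
  ext i j
  simp only [mono, Matrix.smul_apply, smul_eq_mul, Function.comp_apply, id_eq]
  by_cases hij : i = j + v.1
  · rw [if_pos hij, if_pos hij, ← ps_add h, ← ps_add h, ← ps_add h]
    congr 1
    linear_combination ht j
  · rw [if_neg hij, if_neg hij, mul_zero]

/-- A monomial matrix whose coefficients are powers of the root normalises. -/
theorem affine_perm : ∀ π : ZMod 3 → ZMod 3, Function.Injective π →
    (∃ a, ∀ j, π j = j + a) ∨ ∃ a, ∀ j, π j = -j + a := by
  unfold Function.Injective
  decide +kernel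

theorem nor_of_monomial (h : Om ω) {g : GL (ZMod 3) F} {π : ZMod 3 → ZMod 3} (hπ : Function.Injective π)
    {e : ZMod 3 → ZMod 3} (hg : g.val = mono π fun j => ps ω (e j)) : Nor h g := by
  rcases affine_perm π hπ with ⟨a, ha⟩ | ⟨a, ha⟩
  · have : g = gpm h (a, 0) * dgp h e := Units.ext (by
      rw [hg, Units.val_mul, coe_gpm, pm]
      show _ = mono _ _ * mono id _
      rw [mono_mul]
      congr 1
      · funext j; simp [ha]
      · funext j; simp [ps_zero])
    rw [this]
    exact (nor_gpm h _).mul (nor_dgp h _)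
  · have : g = gpm h (a, 0) * negP * dgp h e := Units.ext (by
      rw [hg, Units.val_mul, Units.val_mul, coe_gpm, pm, coe_negP]
      show _ = mono _ _ * mono _ _ * mono id _
      rw [mono_mul, mono_mul]
      congr 1
      · funext j; simp [ha]
      · funext j; simp [ps_zero])
    rw [this]
    exact ((nor_gpm h _).mul (nor_negP h)).mul (nor_dgp h _)

section Four

variable [Fintype F]

theorem cases_four (h : Om ω) (hF : Fintype.card F = 4) {x : F} (hx : x ≠ 0) : ∃ a, x = ps ω a := by
  have h3 : x ^ 3 = 1 := by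
    have := FiniteField.pow_card_sub_one_eq_one x hx
    rwa [hF] at this
  have : (x - 1) * ((x - ω) * (x - ω ^ 2)) = 0 := by
    linear_combination h3 + (-x ^ 2 + x * ω) * h.sum - h.cube
  rcases mul_eq_zero.1 this with h' | h'
  · exact ⟨0, by rw [ps_zero]; exact sub_eq_zero.1 h'⟩
  rcases mul_eq_zero.1 h' with h' | h'
  · exact ⟨1, by rw [ps_one]; exact sub_eq_zero.1 h'⟩
  · exact ⟨2, by rw [ps_two]; exact sub_eq_zero.1 h'⟩

theorem cube_four (h : Om ω) (hF : Fintype.card F = 4) {x : F} (hx : x ≠ 0) : x ^ 3 = 1 := by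
  have := FiniteField.pow_card_sub_one_eq_one x hx
  rwa [hF] at this

/-- Inner products of the columns of an isometry. -/
theorem column_relation {g : GL (ZMod 3) F}
    (hg : ∀ u v : ZMod 3 → F, (∑ i, (g.val *ᵥ u) i * (g.val *ᵥ v) i ^ 2) = ∑ i, u i * v i ^ 2) (j k : ZMod 3) :
    g.val 0 j * g.val 0 k ^ 2 + g.val 1 j * g.val 1 k ^ 2 + g.val 2 j * g.val 2 k ^ 2 = if j = k then 1 else 0 := by
  have := hg (Pi.single j 1) (Pi.single k 1)
  rw [Matrix.mulVec_single_one, Matrix.mulVec_single_one, sum_three] at this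
  refine Eq.trans this ?_
  rw [Finset.sum_eq_single j]
  · by_cases hjk : j = k <;> simp [hjk, Pi.single_apply]
  · intro i _ hi; simp [hi]
  · simp

/-- An isometry with a column supported in one place is monomial. -/
theorem nor_of_single (h : Om ω) (hF : Fintype.card F = 4) (h2 : (2 : F) = 0) {g : GL (ZMod 3) F}
    (hg : ∀ u v : ZMod 3 → F, (∑ i, (g.val *ᵥ u) i * (g.val *ᵥ v) i ^ 2) = ∑ i, u i * v i ^ 2)
    {j₀ k₀ : ZMod 3} (hs : ∀ i, i ≠ k₀ → g.val i j₀ = 0) : Nor h g := by
  have hcr := column_relation hg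
  have hkne : g.val k₀ j₀ ≠ 0 := by
    intro e
    have := hcr j₀ j₀
    rw [if_pos rfl] at this
    rcases ps_cases k₀ with rfl | rfl | rfl <;>
      · have e1 := hs 0; have e2 := hs 1; have e3 := hs 2
        simp_all [show (0 : ZMod 3) ≠ 1 by decide, show (0 : ZMod 3) ≠ 2 by decide, show (1 : ZMod 3) ≠ 0 by decide,
          show (1 : ZMod 3) ≠ 2 by decide, show (2 : ZMod 3) ≠ 0 by decide, show (2 : ZMod 3) ≠ 1 by decide]
  -- every column has one non-zero entry
  have hcol : ∀ j, ∃ k, g.val k j ≠ 0 ∧ ∀ i, i ≠ k → g.val i j = 0 := by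
    intro j
    by_cases hj : j = j₀
    · exact ⟨k₀, hj ▸ hkne, fun i hi => hj ▸ hs i hi⟩
    have hz : g.val k₀ j = 0 := by
      have h1 := hcr j j₀
      rw [if_neg hj] at h1
      have h1' : g.val k₀ j * g.val k₀ j₀ ^ 2 = 0 := by
        rcases ps_cases k₀ with rfl | rfl | rfl
        · rw [hs 1 (by decide), hs 2 (by decide)] at h1; simpa using h1
        · rw [hs 0 (by decide), hs 2 (by decide)] at h1; simpa using h1
        · rw [hs 0 (by decide), hs 1 (by decide)] at h1; simpa using h1
      exact (mul_eq_zero.1 h1').resolve_right (pow_ne_zero 2 hkne)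
    have h2' := hcr j j
    rw [if_pos rfl] at h2'
    have hc : ∀ x : F, x ≠ 0 → x * x ^ 2 = 1 := fun x hx => by
      rw [← pow_succ', cube_four h hF hx]
    rcases ps_cases k₀ with rfl | rfl | rfl
    · by_cases h1 : g.val 1 j = 0
      · refine ⟨2, fun e => ?_, fun i hi => ?_⟩
        · rw [hz, h1, e] at h2'; simp at h2'
        · rcases ps_cases i with rfl | rfl | rfl
          · exact hz
          · exact h1
          · exact absurd rfl hi
      · refine ⟨1, h1, fun i hi => ?_⟩
        rcases ps_cases i with rfl | rfl | rfl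
        · exact hz
        · exact absurd rfl hi
        · by_contra e
          rw [hz, hc _ h1, hc _ e, zero_mul, zero_add, one_add_one_eq_two, h2] at h2'
          exact zero_ne_one h2'
    · by_cases h1 : g.val 0 j = 0
      · refine ⟨2, fun e => ?_, fun i hi => ?_⟩
        · rw [hz, h1, e] at h2'; simp at h2'
        · rcases ps_cases i with rfl | rfl | rfl
          · exact h1
          · exact hz
          · exact absurd rfl hi
      · refine ⟨0, h1, fun i hi => ?_⟩
        rcases ps_cases i with rfl | rfl | rfl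
        · exact absurd rfl hi
        · exact hz
        · by_contra e
          rw [hz, hc _ h1, hc _ e, zero_mul, add_zero, one_add_one_eq_two, h2] at h2'
          exact zero_ne_one h2'
    · by_cases h1 : g.val 0 j = 0
      · refine ⟨1, fun e => ?_, fun i hi => ?_⟩
        · rw [hz, h1, e] at h2'; simp at h2'
        · rcases ps_cases i with rfl | rfl | rfl
          · exact h1
          · exact absurd rfl hi
          · exact hz
      · refine ⟨0, h1, fun i hi => ?_⟩
        rcases ps_cases i with rfl | rfl | rfl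
        · exact absurd rfl hi
        · by_contra e
          rw [hz, hc _ h1, hc _ e, zero_mul, add_zero, one_add_one_eq_two, h2] at h2'
          exact zero_ne_one h2'
        · exact hz
  choose π hπ0 hπ using hcol
  have hinj : Function.Injective π := by
    intro a b hab
    by_contra hne
    have h1 := hcr a b
    rw [if_neg hne] at h1
    have h0 : ∀ i, i ≠ π a → g.val i a * g.val i b ^ 2 = 0 := fun i hi => by rw [hπ a i hi, zero_mul]
    have h3 : g.val (π a) a * g.val (π a) b ^ 2 = 0 := by
      rcases ps_cases (π a) with e | e | e <;> rw [e] at h0 ⊢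
      · rw [h0 1 (by decide), h0 2 (by decide)] at h1; simpa using h1
      · rw [h0 0 (by decide), h0 2 (by decide)] at h1; simpa using h1
      · rw [h0 0 (by decide), h0 1 (by decide)] at h1; simpa using h1
    exact mul_ne_zero (hπ0 a) (pow_ne_zero 2 (hab ▸ hπ0 b)) h3
  choose e he using fun j => cases_four h hF (hπ0 j)
  refine nor_of_monomial h hinj (e := e) ?_
  ext i j
  by_cases hij : i = π j
  · simp [mono, hij, he]
  · simp [mono, hij, hπ j i hij]

/-- Every isometry normalises. -/
theorem nor_of_isometry (h : Om ω) (hF : Fintype.card F = 4) (h2 : (2 : F) = 0) {g : GL (ZMod 3) F}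
    (hfo : ∀ u v : ZMod 3 → F, (∑ i, ((fo h).val *ᵥ u) i * ((fo h).val *ᵥ v) i ^ 2) = ∑ i, u i * v i ^ 2)
    (hg : ∀ u v : ZMod 3 → F, (∑ i, (g.val *ᵥ u) i * (g.val *ᵥ v) i ^ 2) = ∑ i, u i * v i ^ 2) : Nor h g := by
  by_cases hz : ∃ i, g.val i 0 = 0
  · obtain ⟨k, hk⟩ : ∃ k, ∀ i, i ≠ k → g.val i 0 = 0 := by
      have h1 := column_relation hg 0 0
      rw [if_pos rfl] at h1
      have hc : ∀ x : F, x ≠ 0 → x * x ^ 2 = 1 := fun x hx => by rw [← pow_succ', cube_four h hF hx]
      by_contra hall
      push Not at hall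
      obtain ⟨i, hi⟩ := hz
      obtain ⟨a, ha, hane⟩ := hall i
      obtain ⟨b, hb, hbne⟩ := hall a
      have hbi : b ≠ i := fun e => hbne (e ▸ hi)
      rcases ps_cases i with rfl | rfl | rfl <;> rcases ps_cases a with rfl | rfl | rfl <;>
        rcases ps_cases b with rfl | rfl | rfl <;>
        first
        | exact absurd rfl ha
        | exact absurd rfl hb
        | exact absurd rfl hbi
        | (rw [hi, hc _ hane, hc _ hbne] at h1
           refine one_ne_zero (α := F) ?_
           linear_combination -h1 + h2)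
    exact nor_of_single h hF h2 hg hk
  push Not at hz
  choose a ha using fun i => cases_four h hF (hz i)
  set D := dgp h (fun i => -a i) with hD
  set g' := fo h * (D * g) with hg'
  have hdg : ∀ (e : ZMod 3 → ZMod 3) (u : ZMod 3 → F) i, ((dgp h e).val *ᵥ u) i = ps ω (e i) * u i := by
    intro e u i
    show (mono id (fun j => ps ω (e j)) *ᵥ u) i = _
    rw [Matrix.mulVec, dotProduct, Finset.sum_eq_single i]
    · simp [mono]
    · intro b _ hb; simp [mono, Ne.symm hb]
    · simp
  have hiso : ∀ u v : ZMod 3 → F, (∑ i, (g'.val *ᵥ u) i * (g'.val *ᵥ v) i ^ 2) = ∑ i, u i * v i ^ 2 := by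
    intro u v
    simp only [hg', Units.val_mul, ← Matrix.mulVec_mulVec]
    rw [hfo, ← hg u v]
    refine Finset.sum_congr rfl fun i _ => ?_
    rw [hdg, hdg]
    have := cube_four h hF (ps_ne_zero h (-a i))
    linear_combination ((g.val *ᵥ u) i * (g.val *ᵥ v) i ^ 2) * this
  have hcol : ∀ i, i ≠ 0 → g'.val i 0 = 0 := by
    intro i hi
    have e : ∀ k, (D * g : GL (ZMod 3) F).val k 0 = 1 := fun k => by
      have := hdg (fun i => -a i) (Pi.single 0 1 : ZMod 3 → F)
      rw [Units.val_mul, Matrix.mul_apply, sum_three]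
      have hk := ha k
      rcases ps_cases k with rfl | rfl | rfl <;>
        simp [hD, dgp, mono, show (0 : ZMod 3) ≠ 1 by decide, show (0 : ZMod 3) ≠ 2 by decide,
          show (1 : ZMod 3) ≠ 0 by decide, show (1 : ZMod 3) ≠ 2 by decide, show (2 : ZMod 3) ≠ 0 by decide,
          show (2 : ZMod 3) ≠ 1 by decide, hk, ← ps_add h, ps_zero]
    rw [hg', Units.val_mul, Matrix.mul_apply, sum_three, e, e, e, mul_one, mul_one, mul_one, fo_apply, fo_apply,
      fo_apply, ← mul_add, ← mul_add]
    have hs : ps ω (i * 0) + ps ω (i * 1) + ps ω (i * 2) = 0 := by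
      rcases ps_cases i with rfl | rfl | rfl
      · exact absurd rfl hi
      · rw [mul_zero, mul_one, one_mul, ps_zero, ps_one, ps_two]; linear_combination h.sum
      · rw [mul_zero, mul_one, show (2 : ZMod 3) * 2 = 1 from rfl, ps_zero, ps_one, ps_two]
        linear_combination h.sum
    rw [hs, mul_zero]
  have h4 : fo h * fo h * (fo h * fo h) = 1 := by
    have hsc : (sc (-1) : GL (ZMod 3) F) = 1 := by
      rw [show (-1 : Fˣ) = 1 from Units.ext (by rw [Units.val_neg, Units.val_one]; linear_combination -h2),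
        map_one_sc]
    rw [fo_mul_self, hsc, one_mul, negP_mul_self]
  have hgg : g = dgp h a * (fo h * fo h * fo h) * g' := by
    have hDinv : dgp h a * D = 1 := Units.ext (by
      rw [Units.val_mul, Units.val_one]
      show mono id _ * mono id _ = _
      rw [mono_mul, Function.comp_id]
      simp [← ps_add h, ps_zero, mono_id])
    rw [hg', show dgp h a * (fo h * fo h * fo h) * (fo h * (D * g)) =
      dgp h a * (fo h * fo h * (fo h * fo h)) * (D * g) by group, h4, mul_one, ← mul_assoc, hDinv, one_mul]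
  rw [hgg]
  exact ((nor_dgp h a).mul (((nor_fo h).mul (nor_fo h)).mul (nor_fo h))).mul
    (nor_of_single h hF h2 hiso hcol)

end Four

end CfsgLib.NineSymp
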