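import Cfsg.Agent.Lib.NineSymp.BaseRoot
import Cfsg.Agent.Lib.NineSymp.BaseTwo

/-!
The Hessian group with its scalars: overgroups in dimension three over `F_p` and, among similitudes,
over `F_{p²}`.
-/

set_option autoImplicit false
set_option linter.unusedSectionVars false
set_option linter.unusedSimpArgs false
set_option linter.flexible false
set_option linter.style.haveILetI false

namespace CfsgLib.NineSymp

open Matrix CfsgLib.Mitchell

variable {F : Type*} [Field F] {ω : F}

theorem irreducible_of_pm {h : Om ω} {H : Subgroup (GL (ZMod 3) F)} (hpm : ∀ v, gpm h v ∈ H) :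
    Cfsg.Geo.ActsIrreducibly (Cfsg.Geo.matrixSet (H : Subgroup (GL (Fin 3) F))) := by
  intro W hW
  by_contra hne
  push Not at hne
  let W' : Submodule F (ZMod 3 → F) := W
  have hmem : ∀ v, ∀ x ∈ W', pm ω v *ᵥ x ∈ W' := fun v x hx => by
    have h2 := hW _ ⟨gpm h v, hpm v, rfl⟩ (Submodule.mem_map_of_mem hx)
    exact h2
  obtain ⟨x, hx, hx0⟩ := (Submodule.ne_bot_iff W').1 hne.1
  have hZ : ∀ (b : ZMod 3) (i : ZMod 3) (y : ZMod 3 → F), (pm ω (0, b) *ᵥ y) i = ps ω (b * i) * y i := by
    intro b i y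
    rw [Matrix.mulVec, dotProduct, Finset.sum_eq_single i]
    · simp [pm, mono]
    · intro j _ hj; simp [pm, mono, Ne.symm hj]
    · simp
  have hT : ∀ (a : ZMod 3) (i : ZMod 3) (y : ZMod 3 → F), (pm ω (a, 0) *ᵥ y) i = y (i - a) := by
    intro a i y
    rw [Matrix.mulVec, dotProduct, Finset.sum_eq_single (i - a)]
    · simp [pm, mono, ps_zero]
    · intro j _ hj
      have : i ≠ j + a := fun e => hj (by rw [e]; ring)
      simp [pm, mono, this]
    · simp
  obtain ⟨k, hk⟩ : ∃ k, x k ≠ 0 := Function.ne_iff.1 hx0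
  have hek : (Pi.single k 1 : ZMod 3 → F) ∈ W' := by
    have hy : (3 : F)⁻¹ • (x k)⁻¹ • (x + ps ω (-k) • (pm ω (0, 1) *ᵥ x) + ps ω (-2 * k) • (pm ω (0, 2) *ᵥ x)) =
        Pi.single k 1 := by
      funext i
      simp only [Pi.smul_apply, Pi.add_apply, smul_eq_mul, hZ]
      have hs : x i + ps ω (-k) * (ps ω (1 * i) * x i) + ps ω (-2 * k) * (ps ω (2 * i) * x i) =
          (1 + ps ω (i - k) + ps ω (2 * (i - k))) * x i := by
        rw [show ∀ a b c : F, a * (b * c) = (a * b) * c from fun a b c => by ring, ← ps_add h,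
          show ∀ a b c : F, a * (b * c) = (a * b) * c from fun a b c => by ring, ← ps_add h]
        rw [show -k + 1 * i = i - k by ring, show -2 * k + 2 * i = 2 * (i - k) by ring]
        ring
      rw [hs]
      by_cases hik : i = k
      · subst hik
        have h3 := h.three
        rw [Pi.single_eq_same, sub_self, mul_zero, ps_zero]
        field_simp
        ring
      · rw [Pi.single_eq_of_ne hik]
        have h0 : 1 + ps ω (i - k) + ps ω (2 * (i - k)) = 0 := by
          rcases ps_cases (i - k) with e | e | e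
          · exact absurd (sub_eq_zero.1 e) hik
          · rw [e, mul_one, ps_one, ps_two]; linear_combination h.sum
          · rw [e, show (2 : ZMod 3) * 2 = 1 from rfl, ps_one, ps_two]; linear_combination h.sum
        rw [h0, zero_mul, mul_zero, mul_zero]
    rw [← hy]
    exact W'.smul_mem _ (W'.smul_mem _ (W'.add_mem (W'.add_mem hx (W'.smul_mem _ (hmem _ _ hx)))
      (W'.smul_mem _ (hmem _ _ hx))))
  apply hne.2
  refine Submodule.eq_top_iff'.2 fun y => ?_
  show y ∈ W'
  rw [pi_eq_sum_univ' y]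
  refine Submodule.sum_mem _ fun i _ => W'.smul_mem _ ?_
  have e : pm ω (i - k, 0) *ᵥ (Pi.single k 1 : ZMod 3 → F) = Pi.single i 1 := by
    funext j
    rw [hT]
    by_cases hji : j = i
    · subst hji; simp
    · rw [Pi.single_eq_of_ne hji, Pi.single_eq_of_ne]
      exact fun e => hji (by linear_combination e)
  exact e ▸ hmem _ _ hek

variable [Fintype F]

theorem charP_of_sq {p : ℕ} (hp : p.Prime) (hF : Fintype.card F = p ^ 2) : CharP F p := by
  obtain ⟨n, hr, hn⟩ := FiniteField.card F (ringChar F)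
  rw [hF] at hn
  have h1 : p ∣ ringChar F ^ (n : ℕ) := hn ▸ dvd_pow_self p two_ne_zero
  rw [(Nat.prime_dvd_prime_iff_eq hp hr).1 (hp.dvd_of_dvd_pow h1)]
  infer_instance

theorem two_ne_zero_of_char {p : ℕ} [CharP F p] (hp : p.Prime) (hp2 : p ≠ 2) : (2 : F) ≠ 0 := fun e => by
  have := (CharP.cast_eq_zero_iff F p 2).1 (by exact_mod_cast e)
  exact hp2 ((Nat.prime_dvd_prime_iff_eq hp Nat.prime_two).1 this)

/-- Overgroups of the Hessian group with all scalars, over a prime field. -/
theorem base_linear {F : Type*} [Field F] [Fintype F] {ω : F} (h : Om ω) {p : ℕ} (hp : p.Prime)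
    (hF : Fintype.card F = p) (H : Subgroup (GL (ZMod 3) F)) (hsc : ∀ c, sc c ∈ H) (hpm : ∀ v, gpm h v ∈ H)
    (hfo : fo h ∈ H) (hrz : rz h 0 ∈ H) :
    (∀ g ∈ H, ∀ v, ∃ c w, g * gpm h v * g⁻¹ = sc c * gpm h w) ∨ Cfsg.Geo.specialLinear (ZMod 3) F ≤ H := by
  haveI : Fact p.Prime := ⟨hp⟩
  haveI : CharP F p := charP_of_card_eq_prime hF
  by_cases hN : NoRoot (H : Subgroup (GL (Fin 3) F))
  · refine Or.inl ?_
    have h2 : (2 : F) ≠ 0 := two_ne_zero_of_char hp fun e => by
      subst e
      -- over two elements there is no primitive cube root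
      have hω : ω = 0 ∨ ω = 1 := by
        have h1 := FiniteField.pow_card ω
        rw [hF] at h1
        have : ω * (ω - 1) = 0 := by linear_combination h1
        exact (mul_eq_zero.1 this).imp id sub_eq_zero.1
      exact hω.elim h.ne_zero h.ne_one
    exact normal_of_noRoot p h2 ⟨hsc, hpm, hfo, hrz⟩ hN
  · refine Or.inr ?_
    simp only [NoRoot] at hN
    push Not at hN
    obtain ⟨u, φ, hu, hne⟩ := hN
    exact specialLinear_le_of_root hp hF (irreducible_of_pm hpm) hu
      (fun e => hne (by rw [e, GeomClasses.tv_zero_left]))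
      (fun e => hne (by rw [e, Mitchell.tv_zero_right]))

/-- Overgroups of the Hessian group with all scalars among similitudes, over the field of order `p ^ 2`. -/
theorem base_unitary {F : Type*} [Field F] [Fintype F] {ω : F} (h : Om ω) {p : ℕ} (hp : p.Prime)
    (hF : Fintype.card F = p ^ 2) (_h32 : p % 3 = 2) (H : Subgroup (GL (ZMod 3) F))
    (hH : H ≤ Cfsg.Geo.similarityGroup (fun u v : ZMod 3 → F => ∑ i, u i * v i ^ p))
    (hsc : ∀ c, sc c ∈ H) (hpm : ∀ v, gpm h v ∈ H) (hfo : fo h ∈ H) (hrz : rz h 0 ∈ H) :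
    (∀ g ∈ H, ∀ v, ∃ c w, g * gpm h v * g⁻¹ = sc c * gpm h w) ∨
      ∀ g : GL (ZMod 3) F, (∀ u v : ZMod 3 → F, (∑ i, (g.val *ᵥ u) i * (g.val *ᵥ v) i ^ p) =
        ∑ i, u i * v i ^ p) → Matrix.det g.val = 1 → g ∈ H := by
  haveI : Fact p.Prime := ⟨hp⟩
  haveI : CharP F p := charP_of_sq hp hF
  by_cases hp2 : p = 2
  · subst hp2
    refine Or.inl fun g hg => ?_
    have h2 : (2 : F) = 0 := by exact_mod_cast CharP.cast_eq_zero F 2
    have hiso : ∀ x ∈ H, ∀ u v : ZMod 3 → F,
        (∑ i, (x.val *ᵥ u) i * (x.val *ᵥ v) i ^ 2) = ∑ i, u i * v i ^ 2 := by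
      intro x hx u v
      obtain ⟨c, hc⟩ := hH hx
      have hc1 : (c : F) = 1 := by
        have e := hc (Pi.single 0 1) (Pi.single 0 1)
        have e1 : (∑ i, (Pi.single 0 1 : ZMod 3 → F) i * (Pi.single 0 1 : ZMod 3 → F) i ^ 2) = 1 := by
          rw [Finset.sum_eq_single 0] <;> simp +contextual
        have e2 : ∀ y : F, (y * y ^ 2) ^ 2 = y * y ^ 2 := fun y => by
          rcases eq_or_ne y 0 with rfl | hy
          · simp
          · rw [← pow_succ', cube_four h (by rw [hF]; rfl) hy, one_pow]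
        have e3 : (c : F) ^ 2 = c := by
          simp only [e1, mul_one] at e
          rw [← e, sum_three]
          rw [show ∀ a b c : F, (a + b + c) ^ 2 = a ^ 2 + b ^ 2 + c ^ 2 + 2 * (a * b + a * c + b * c) from
            fun a b c => by ring, e2, e2, e2, h2, zero_mul, add_zero]
        exact mul_left_cancel₀ c.ne_zero (by rw [← pow_two, e3, mul_one])
      have := hc u v
      simpa only [hc1, one_mul] using this
    exact nor_of_isometry h (by rw [hF]; rfl) h2 (hiso _ hfo) (hiso g hg)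
  by_cases hN : NoRoot (H : Subgroup (GL (Fin 3) F))
  · exact Or.inl (normal_of_noRoot p (two_ne_zero_of_char hp hp2) ⟨hsc, hpm, hfo, hrz⟩ hN)
  · refine Or.inr fun g hg hdet => ?_
    simp only [NoRoot] at hN
    push Not at hN
    obtain ⟨u, φ, hu, hne⟩ := hN
    refine specialUnitary_le_of_root hp hp2 hF hH (irreducible_of_pm hpm) hu
      (fun e => hne (by rw [e, GeomClasses.tv_zero_left]))
      (fun e => hne (by rw [e, Mitchell.tv_zero_right])) ⟨hg, ?_⟩
    exact GeomClasses.mem_specialLinear.2 hdet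

end CfsgLib.NineSymp
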