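import Mathlib
import Cfsg.Prelude.Def_GeometricClasses

/-!
The standard Clifford group of two qutrits: shifts, phases, Fourier matrix, blocks along the first coordinate and
the exchange of the two coordinates.
-/

set_option autoImplicit false
set_option linter.unusedSectionVars false
set_option linter.unusedSimpArgs false
set_option linter.flexible false

namespace CfsgLib.NineSymp

open Matrix

variable {F : Type*} [Field F]

/-- The plane over three elements. -/
abbrev V2 : Type := ZMod 3 × ZMod 3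

/-- The index set of the nine coordinates. -/
abbrev I9 : Type := ZMod 3 × ZMod 3

/-- A primitive cube root of unity. -/
structure Om (ω : F) : Prop where
  sum : 1 + ω + ω * ω = 0
  three : (3 : F) ≠ 0

variable {ω : F}

theorem Om.cube (h : Om ω) : ω ^ 3 = 1 := by linear_combination (ω - 1) * h.sum

theorem Om.ne_one (h : Om ω) : ω ≠ 1 := fun h1 => h.three (by
  have := h.sum; rw [h1] at this; linear_combination this)

theorem Om.ne_zero (h : Om ω) : ω ≠ 0 := fun h0 => by
  have := h.sum; rw [h0] at this; simp at this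

/-- The powers of the root indexed by residues. -/
def ps (ω : F) (k : ZMod 3) : F := ω ^ k.val

theorem ps_zero (ω : F) : ps ω 0 = 1 := by simp [ps]

theorem ps_one (ω : F) : ps ω 1 = ω := by simp [ps, show (1 : ZMod 3).val = 1 from rfl]

theorem ps_two (ω : F) : ps ω 2 = ω ^ 2 := by simp [ps, show (2 : ZMod 3).val = 2 from rfl]

theorem ps_add (h : Om ω) (a b : ZMod 3) : ps ω (a + b) = ps ω a * ps ω b := by
  rw [ps, ps, ps, ← pow_add, ZMod.val_add, ← pow_eq_pow_mod _ h.cube]

theorem ps_ne_zero (h : Om ω) (a : ZMod 3) : ps ω a ≠ 0 := pow_ne_zero _ h.ne_zero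

theorem ps_eq_one (h : Om ω) {a : ZMod 3} : ps ω a = 1 ↔ a = 0 := by
  refine ⟨fun e => ?_, fun e => e ▸ ps_zero ω⟩
  fin_cases a
  · rfl
  · exact absurd ((ps_one ω).symm.trans e) h.ne_one
  · refine absurd (show ω = 1 from ?_) h.ne_one
    linear_combination h.cube - ω * ((ps_two ω).symm.trans e)

theorem ps_cases (k : ZMod 3) : k = 0 ∨ k = 1 ∨ k = 2 := by revert k; decide

/-- A matrix permuting the axes with coefficients. -/
def mono {ι : Type} [DecidableEq ι] (π : ι → ι) (c : ι → F) : Matrix ι ι F :=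
  fun i j => if i = π j then c j else 0

theorem mono_mul {ι : Type} [Fintype ι] [DecidableEq ι] (π π' : ι → ι) (c c' : ι → F) :
    mono π c * mono π' c' = mono (π ∘ π') (fun j => c (π' j) * c' j) := by
  ext i j
  rw [Matrix.mul_apply, Finset.sum_eq_single (π' j)]
  · simp [mono]
  · intro b _ hb
    simp [mono, hb]
  · simp

theorem mono_id {ι : Type} [Fintype ι] [DecidableEq ι] : mono (id : ι → ι) (fun _ => (1 : F)) = 1 := by
  ext i j
  simp [mono, Matrix.one_apply]

theorem mono_mul_apply {ι : Type} [Fintype ι] [DecidableEq ι] (π : ι ≃ ι) (c : ι → F) (M : Matrix ι ι F)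
    (i j : ι) : (mono (π : ι → ι) c * M) i j = c (π.symm i) * M (π.symm i) j := by
  rw [Matrix.mul_apply, Finset.sum_eq_single (π.symm i)]
  · simp [mono]
  · intro b _ hb
    have : i ≠ π b := fun e => hb (by rw [e, Equiv.symm_apply_apply])
    simp [mono, this]
  · simp

theorem mul_mono_apply {ι : Type} [Fintype ι] [DecidableEq ι] (π : ι → ι) (c : ι → F) (M : Matrix ι ι F)
    (i j : ι) : (M * mono π c) i j = M i (π j) * c j := by
  rw [Matrix.mul_apply, Finset.sum_eq_single (π j)]
  · simp [mono]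
  · intro b _ hb
    simp [mono, hb]
  · simp

/-- The shift-and-phase matrix `T^a Z^b`. -/
def pm (ω : F) (v : V2) : Matrix (ZMod 3) (ZMod 3) F := mono (fun j => j + v.1) (fun j => ps ω (v.2 * j))

theorem pm_zero (ω : F) : pm ω 0 = 1 := by
  simp only [pm, Prod.fst_zero, Prod.snd_zero, add_zero, zero_mul, ps_zero]
  exact mono_id

theorem pm_mul (h : Om ω) (v w : V2) : pm ω v * pm ω w = ps ω (v.2 * w.1) • pm ω (v + w) := by
  rw [pm, pm, mono_mul]
  ext i j
  simp only [pm, mono, Matrix.smul_apply, smul_eq_mul, Prod.fst_add, Prod.snd_add, Function.comp_apply]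
  rw [show j + w.1 + v.1 = j + (v.1 + w.1) by ring]
  split_ifs with he
  · rw [← ps_add h, ← ps_add h]; ring_nf
  · rw [mul_zero]

/-- The symplectic product. -/
def sp (v w : V2) : ZMod 3 := v.2 * w.1 - w.2 * v.1

theorem pm_comm (h : Om ω) (v w : V2) : pm ω v * pm ω w = ps ω (sp v w) • (pm ω w * pm ω v) := by
  rw [pm_mul h, pm_mul h, smul_smul, ← ps_add h, sp, add_comm w v]
  ring_nf

/-- `T^a Z^b` in the general linear group. -/
def gpm (h : Om ω) (v : V2) : GL (ZMod 3) F where
  val := pm ω v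
  inv := ps ω (v.2 * v.1) • pm ω (-v)
  val_inv := by
    rw [mul_smul_comm, pm_mul h, smul_smul, ← ps_add h, add_neg_cancel, pm_zero, Prod.fst_neg,
      show v.2 * v.1 + v.2 * -v.1 = 0 by ring, ps_zero, one_smul]
  inv_val := by
    rw [smul_mul_assoc, pm_mul h, smul_smul, ← ps_add h, neg_add_cancel, pm_zero, Prod.snd_neg,
      show v.2 * v.1 + -v.2 * v.1 = 0 by ring, ps_zero, one_smul]

@[simp] theorem coe_gpm (h : Om ω) (v : V2) : (gpm h v : Matrix (ZMod 3) (ZMod 3) F) = pm ω v := rfl

/-- A scalar as an element of the general linear group. -/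
def sc {ι : Type} [Fintype ι] [DecidableEq ι] (c : Fˣ) : GL ι F :=
  Units.map (Matrix.scalar ι : F →+* Matrix ι ι F).toMonoidHom c

theorem sc_mem {ι : Type} [Fintype ι] [DecidableEq ι] (c : Fˣ) : (sc c : GL ι F) ∈ Cfsg.Geo.scalars ι F :=
  ⟨c, rfl⟩

theorem coe_sc {ι : Type} [Fintype ι] [DecidableEq ι] (c : Fˣ) :
    ((sc c : GL ι F) : Matrix ι ι F) = (c : F) • 1 := by
  show Matrix.scalar ι (c : F) = _
  rw [Matrix.scalar_apply, smul_one_eq_diagonal]

theorem sc_comm {ι : Type} [Fintype ι] [DecidableEq ι] (c : Fˣ) (g : GL ι F) : sc c * g = g * sc c :=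
  Units.ext (by simp [coe_sc])

theorem eq_sc_mul {ι : Type} [Fintype ι] [DecidableEq ι] {g h : GL ι F} {c : Fˣ}
    (e : (g : Matrix ι ι F) = (c : F) • (h : Matrix ι ι F)) : g = sc c * h :=
  Units.ext (by simp [coe_sc, e])

theorem coe_sc_mul {ι : Type} [Fintype ι] [DecidableEq ι] (c : Fˣ) (h : GL ι F) :
    ((sc c * h : GL ι F) : Matrix ι ι F) = (c : F) • (h : Matrix ι ι F) := by
  simp [coe_sc]

/-- The root as a unit. -/
def ou (h : Om ω) (k : ZMod 3) : Fˣ := Units.mk0 (ps ω k) (ps_ne_zero h k)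

theorem gpm_mul (h : Om ω) (v w : V2) : gpm h v * gpm h w = sc (ou h (v.2 * w.1)) * gpm h (v + w) :=
  eq_sc_mul (by simp [ou, pm_mul h])

/-- The diagonal element with one entry changed. -/
def rz (h : Om ω) (k : ZMod 3) : GL (ZMod 3) F where
  val := diagonal fun i => if i = k then ω else 1
  inv := diagonal fun i => if i = k then ω ^ 2 else 1
  val_inv := by
    rw [diagonal_mul_diagonal]
    ext i j
    simp only [Matrix.one_apply, diagonal_apply]
    by_cases hij : i = j <;> simp [hij]
    split_ifs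
    · linear_combination h.cube
    · rfl
  inv_val := by
    rw [diagonal_mul_diagonal]
    ext i j
    simp only [Matrix.one_apply, diagonal_apply]
    by_cases hij : i = j <;> simp [hij]
    split_ifs
    · linear_combination h.cube
    · rfl

/-- The Fourier matrix. -/
def fo (h : Om ω) : GL (ZMod 3) F where
  val := Matrix.of fun i j => (ω - ω ^ 2)⁻¹ * ps ω (i * j)
  inv := Matrix.of fun i j => -((ω - ω ^ 2)⁻¹ * ps ω (-(i * j)))
  val_inv := by
    have hne : ω - ω ^ 2 ≠ 0 := by
      rw [show ω - ω ^ 2 = ω * (1 - ω) by ring]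
      exact mul_ne_zero h.ne_zero (sub_ne_zero.2 (Ne.symm h.ne_one))
    ext i j
    simp only [Matrix.mul_apply, Matrix.of_apply]
    rw [show (∑ k : ZMod 3, (ω - ω ^ 2)⁻¹ * ps ω (i * k) * -((ω - ω ^ 2)⁻¹ * ps ω (-(k * j)))) =
      -(((ω - ω ^ 2)⁻¹) ^ 2) * ∑ k : ZMod 3, ps ω ((i - j) * k) by
        rw [Finset.mul_sum]
        refine Finset.sum_congr rfl fun k _ => ?_
        rw [show (i - j) * k = i * k + -(k * j) by ring, ps_add h]
        ring]
    rw [show (∑ k : ZMod 3, ps ω ((i - j) * k)) = ps ω ((i - j) * 0) + ps ω ((i - j) * 1) + ps ω ((i - j) * 2) from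
      Fin.sum_univ_three _, mul_zero, mul_one, ps_zero]
    rcases eq_or_ne i j with rfl | hij
    · simp only [sub_self, zero_mul, ps_zero, Matrix.one_apply_eq]
      have hsq : (ω - ω ^ 2) ^ 2 = -3 := by linear_combination (ω ^ 2 - 3 * ω + 3) * h.sum
      rw [inv_pow, hsq]
      have h3 := h.three
      field_simp
      norm_num
    · rw [Matrix.one_apply_ne hij]
      have hd : i - j = 1 ∨ i - j = 2 := by
        rcases ps_cases (i - j) with e | e
        · exact absurd (sub_eq_zero.1 e) hij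
        · exact e
      have hs : ps ω (i - j) + ps ω ((i - j) * 2) = ω + ω ^ 2 := by
        rcases hd with e | e <;> rw [e]
        · rw [one_mul, ps_one, ps_two]
        · rw [show (2 : ZMod 3) * 2 = 1 from rfl, ps_one, ps_two, add_comm]
      rw [show 1 + ps ω (i - j) + ps ω ((i - j) * 2) = 0 by linear_combination hs + h.sum, mul_zero]
  inv_val := by
    have hne : ω - ω ^ 2 ≠ 0 := by
      rw [show ω - ω ^ 2 = ω * (1 - ω) by ring]
      exact mul_ne_zero h.ne_zero (sub_ne_zero.2 (Ne.symm h.ne_one))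
    ext i j
    simp only [Matrix.mul_apply, Matrix.of_apply]
    rw [show (∑ k : ZMod 3, -((ω - ω ^ 2)⁻¹ * ps ω (-(i * k))) * ((ω - ω ^ 2)⁻¹ * ps ω (k * j))) =
      -(((ω - ω ^ 2)⁻¹) ^ 2) * ∑ k : ZMod 3, ps ω ((j - i) * k) by
        rw [Finset.mul_sum]
        refine Finset.sum_congr rfl fun k _ => ?_
        rw [show (j - i) * k = -(i * k) + k * j by ring, ps_add h]
        ring]
    rw [show (∑ k : ZMod 3, ps ω ((j - i) * k)) = ps ω ((j - i) * 0) + ps ω ((j - i) * 1) + ps ω ((j - i) * 2) from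
      Fin.sum_univ_three _, mul_zero, mul_one, ps_zero]
    rcases eq_or_ne i j with rfl | hij
    · simp only [sub_self, zero_mul, ps_zero, Matrix.one_apply_eq]
      have hsq : (ω - ω ^ 2) ^ 2 = -3 := by linear_combination (ω ^ 2 - 3 * ω + 3) * h.sum
      rw [inv_pow, hsq]
      have h3 := h.three
      field_simp
      norm_num
    · rw [Matrix.one_apply_ne hij]
      have hd : j - i = 1 ∨ j - i = 2 := by
        rcases ps_cases (j - i) with e | e
        · exact absurd (sub_eq_zero.1 e).symm hij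
        · exact e
      have hs : ps ω (j - i) + ps ω ((j - i) * 2) = ω + ω ^ 2 := by
        rcases hd with e | e <;> rw [e]
        · rw [one_mul, ps_one, ps_two]
        · rw [show (2 : ZMod 3) * 2 = 1 from rfl, ps_one, ps_two, add_comm]
      rw [show 1 + ps ω (j - i) + ps ω ((j - i) * 2) = 0 by linear_combination hs + h.sum, mul_zero]

/-- The linear map of the Fourier matrix on the plane. -/
def foL (v : V2) : V2 := (-v.2, v.1)

/-- The linear map of the diagonal element on the plane. -/
def rzL (v : V2) : V2 := (v.1, v.2 + v.1)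

/-- Blocks along the first coordinate. -/
def bd (g : ZMod 3 → Matrix (ZMod 3) (ZMod 3) F) : Matrix I9 I9 F :=
  fun i j => if i.1 = j.1 then g i.1 i.2 j.2 else 0

theorem bd_mul (g g' : ZMod 3 → Matrix (ZMod 3) (ZMod 3) F) : bd g * bd g' = bd fun x => g x * g' x := by
  ext ⟨i, a⟩ ⟨j, b⟩
  rw [Matrix.mul_apply, Fintype.sum_prod_type, Finset.sum_eq_single i]
  · by_cases hij : i = j
    · subst hij; simp [bd, Matrix.mul_apply]
    · simp [bd, hij]
  · intro x _ hx
    simp [bd, Ne.symm hx]
  · simp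

theorem bd_one : bd (fun _ => (1 : Matrix (ZMod 3) (ZMod 3) F)) = 1 := by
  ext ⟨i, a⟩ ⟨j, b⟩
  by_cases hij : i = j
  · subst hij; simp [bd, Matrix.one_apply]
  · simp [bd, Matrix.one_apply, hij]

theorem bd_smul (c : F) (g : ZMod 3 → Matrix (ZMod 3) (ZMod 3) F) : c • bd g = bd fun x => c • g x := by
  ext i j
  simp [bd]

theorem bd_injective : Function.Injective (bd (F := F)) := fun g g' e => funext fun x => by
  ext a b
  simpa [bd] using congrFun (congrFun e (x, a)) (x, b)

/-- Blocks along the first coordinate, in the general linear group. -/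
def gbd : (ZMod 3 → GL (ZMod 3) F) →* GL I9 F where
  toFun g :=
    { val := bd fun x => (g x : Matrix (ZMod 3) (ZMod 3) F)
      inv := bd fun x => ((g x)⁻¹ : GL (ZMod 3) F)
      val_inv := by rw [bd_mul, ← bd_one]; congr 1; funext x; simp
      inv_val := by rw [bd_mul, ← bd_one]; congr 1; funext x; simp }
  map_one' := Units.ext (by simpa using bd_one)
  map_mul' g g' := Units.ext (by simp [bd_mul])

@[simp] theorem coe_gbd (g : ZMod 3 → GL (ZMod 3) F) :
    (gbd g : Matrix I9 I9 F) = bd fun x => (g x : Matrix (ZMod 3) (ZMod 3) F) := rfl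

theorem gbd_injective : Function.Injective (gbd (F := F)) := fun g g' e =>
  funext fun x => Units.ext (congrFun (bd_injective (show bd (fun x => (g x : Matrix (ZMod 3) (ZMod 3) F)) = bd (fun x => (g' x : Matrix (ZMod 3) (ZMod 3) F)) from congrArg Units.val e)) x)

/-- An operator on the second coordinate. -/
def rf : GL (ZMod 3) F →* GL I9 F :=
  gbd.comp (MonoidHom.pi fun _ => MonoidHom.id _)

theorem rf_apply (g : GL (ZMod 3) F) : rf g = gbd fun _ => g := rfl

/-- The exchange of the coordinates. -/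
def sw : GL I9 F where
  val := mono Prod.swap fun _ => 1
  inv := mono Prod.swap fun _ => 1
  val_inv := by rw [mono_mul, mul_one, Prod.swap_swap_eq]; exact mono_id
  inv_val := by rw [mono_mul, mul_one, Prod.swap_swap_eq]; exact mono_id

theorem sw_mul_sw : (sw : GL I9 F) * sw = 1 := Units.ext (by
  show mono Prod.swap (fun _ => (1 : F)) * mono Prod.swap _ = 1
  rw [mono_mul, mul_one, Prod.swap_swap_eq]; exact mono_id)

theorem sw_inv : (sw : GL I9 F)⁻¹ = sw := inv_eq_of_mul_eq_one_right sw_mul_sw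

theorem coe_sw_conj (g : GL I9 F) (i j : I9) :
    ((sw * g * sw⁻¹ : GL I9 F) : Matrix I9 I9 F) i j = (g : Matrix I9 I9 F) i.swap j.swap := by
  rw [sw_inv, Units.val_mul, Units.val_mul]
  show ((mono (Equiv.prodComm (ZMod 3) (ZMod 3) : I9 → I9) (fun _ => (1 : F)) * (g : Matrix I9 I9 F) *
    mono Prod.swap fun _ => 1 : Matrix I9 I9 F)) i j = _
  rw [mul_mono_apply, mono_mul_apply]
  simp

/-- An operator on the first coordinate. -/
def lf : GL (ZMod 3) F →* GL I9 F := (MulAut.conj (sw : GL I9 F)).toMonoidHom.comp rf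

theorem lf_apply (g : GL (ZMod 3) F) : lf g = sw * rf g * sw⁻¹ := rfl

theorem coe_lf (g : GL (ZMod 3) F) (i j : I9) :
    (lf g : Matrix I9 I9 F) i j = if i.2 = j.2 then (g : Matrix (ZMod 3) (ZMod 3) F) i.1 j.1 else 0 := by
  rw [lf_apply, coe_sw_conj, rf_apply, coe_gbd]
  rfl

theorem lf_rf_comm (a b : GL (ZMod 3) F) : lf a * rf b = rf b * lf a := by
  refine Units.ext ?_
  ext ⟨i, u⟩ ⟨j, v⟩
  rw [Units.val_mul, Units.val_mul, Matrix.mul_apply, Matrix.mul_apply, Finset.sum_eq_single (j, u),
    Finset.sum_eq_single (i, v)]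
  · simp [coe_lf, rf_apply, bd, mul_comm]
  · rintro ⟨x, y⟩ _ hne
    simp only [coe_lf, rf_apply, coe_gbd, bd]
    split_ifs with h1 h2 <;> simp_all
  · simp
  · rintro ⟨x, y⟩ _ hne
    simp only [coe_lf, rf_apply, coe_gbd, bd]
    split_ifs with h1 h2 <;> simp_all
  · simp

end CfsgLib.NineSymp
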