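import Cfsg.Agent.Lib.NineSymp.Setup

/-!
The blocks of the centraliser of the phase of the first coordinate normalise the one-qutrit family.
-/

set_option autoImplicit false
set_option linter.unusedSectionVars false
set_option linter.unusedSimpArgs false
set_option linter.flexible false

namespace CfsgLib.NineSymp

open Matrix

variable {F : Type*} [Field F] {ω : F} {h : Om ω}

/-- Reindexing of the blocks. -/
def rix (σ : ZMod 3 → ZMod 3) : (ZMod 3 → GL (ZMod 3) F) →* (ZMod 3 → GL (ZMod 3) F) where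
  toFun g x := g (σ x)
  map_one' := rfl
  map_mul' _ _ := rfl

@[simp] theorem rix_apply (σ : ZMod 3 → ZMod 3) (g : ZMod 3 → GL (ZMod 3) F) (x : ZMod 3) :
    rix σ g x = g (σ x) := rfl

namespace Ctx

variable (K : Ctx h)

/-- The block tuples of the members. -/
def C : Subgroup (ZMod 3 → GL (ZMod 3) F) := K.X.comap gbd

/-- The group of blocks. -/
def H0 : Subgroup (GL (ZMod 3) F) := K.C.map (Pi.evalMonoidHom (fun _ : ZMod 3 => GL (ZMod 3) F) 0)

/-- The commutator tuples. -/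
def D2 : Subgroup (ZMod 3 → GL (ZMod 3) F) := ⁅K.C, K.C⁆

theorem shift_mem {g : ZMod 3 → GL (ZMod 3) F} (hg : g ∈ K.C) (s : ZMod 3) : rix (fun x => x - s) g ∈ K.C := by
  show gbd _ ∈ K.X
  have := K.X.mul_mem (K.X.mul_mem (K.lf_norm (gpm_mem h (s, 0))) hg) (K.X.inv_mem (K.lf_norm (gpm_mem h (s, 0))))
  rwa [shift_conj] at this

theorem refl_mem {g : ZMod 3 → GL (ZMod 3) F} (hg : g ∈ K.C) (a : ZMod 3) : rix (fun x => a - x) g ∈ K.C := by
  have h1 : rix (fun x => -x) g ∈ K.C := by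
    show gbd _ ∈ K.X
    have := K.X.mul_mem (K.X.mul_mem (K.lf_norm (jj_mem_N3 (h := h))) hg) (K.X.inv_mem (K.lf_norm (jj_mem_N3 (h := h))))
    rwa [flip_conj] at this
  convert K.shift_mem h1 a using 1
  funext x
  simp only [rix_apply, neg_sub]

theorem rix_D2 {σ : ZMod 3 → ZMod 3} (hσ : ∀ g ∈ K.C, rix σ g ∈ K.C) {d : ZMod 3 → GL (ZMod 3) F}
    (hd : d ∈ K.D2) : rix σ d ∈ K.D2 := by
  have h1 : K.D2.map (rix σ) ≤ K.D2 := by
    rw [D2, Subgroup.map_commutator]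
    exact Subgroup.commutator_mono (Subgroup.map_le_iff_le_comap.2 hσ) (Subgroup.map_le_iff_le_comap.2 hσ)
  exact h1 ⟨d, hd, rfl⟩

theorem D2_le : K.D2 ≤ K.C := Subgroup.commutator_le.2 fun a ha b hb =>
  K.C.mul_mem (K.C.mul_mem (K.C.mul_mem ha hb) (K.C.inv_mem ha)) (K.C.inv_mem hb)

theorem D2_block {d : ZMod 3 → GL (ZMod 3) F} (hd : d ∈ K.D2) (x : ZMod 3) : d x ∈ K.S3 := by
  have h1 : K.D2.map (Pi.evalMonoidHom (fun _ : ZMod 3 => GL (ZMod 3) F) x) ≤ K.S3 := by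
    rw [D2, Subgroup.map_commutator, Subgroup.commutator_le]
    rintro _ ⟨a, ha, rfl⟩ _ ⟨b, hb, rfl⟩
    exact K.comm _ (K.blk a ha x) _ (K.blk b hb x)
  exact h1 ⟨d, hd, rfl⟩

theorem const_mem {g : GL (ZMod 3) F} (hg : rf g ∈ K.X) : (fun _ => g) ∈ K.C := hg

theorem H0_le : K.H0 ≤ K.G3 := by
  rintro _ ⟨g, hg, rfl⟩
  exact K.blk g hg 0

/-- The blocks are small. -/
theorem not_big (h2 : (2 : F) ≠ 0) : ¬ K.S3 ≤ K.H0 := by
  intro hS
  have hD : ∀ t ∈ K.S3, ∀ x, ∃ d ∈ K.D2, d x = t := by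
    intro t ht x
    have h1 : K.S3 ≤ K.D2.map (Pi.evalMonoidHom (fun _ : ZMod 3 => GL (ZMod 3) F) 0) := by
      refine (K.perfect h2).trans ?_
      rw [D2, Subgroup.map_commutator]
      exact Subgroup.commutator_mono hS hS
    obtain ⟨d, hd, e⟩ := h1 ht
    exact ⟨_, K.rix_D2 (fun g hg => K.shift_mem hg x) hd, by simpa using e⟩
  let K01 : Subgroup (ZMod 3 → GL (ZMod 3) F) :=
    K.D2 ⊓ (Cfsg.Geo.scalars (ZMod 3) F).comap (Pi.evalMonoidHom (fun _ : ZMod 3 => GL (ZMod 3) F) 0)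
  have hNle : K01.map (Pi.evalMonoidHom (fun _ : ZMod 3 => GL (ZMod 3) F) 1) ≤ K.S3 := by
    rintro _ ⟨k, hk, rfl⟩
    exact K.D2_block hk.1 1
  rcases K.simple h2 _ hNle (fun t ht n hn => by
    obtain ⟨k, ⟨hk, c, hc⟩, rfl⟩ := hn
    obtain ⟨d, hd, rfl⟩ := hD t ht 1
    refine ⟨d * k * d⁻¹, ⟨K.D2.mul_mem (K.D2.mul_mem hd hk) (K.D2.inv_mem hd), ⟨c, ?_⟩⟩, rfl⟩
    show sc c = d 0 * k 0 * (d 0)⁻¹
    rw [show k 0 = sc c from hc.symm, ← sc_comm]; group) with hcen | hall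
  · -- every tuple is a scalar multiple of a constant one
    have h01 : ∀ k ∈ K.D2, (∃ c, k 0 = sc c) → ∃ c, k 1 = sc c := fun k hk ⟨c, hc⟩ =>
      hcen _ ⟨k, ⟨hk, c, hc.symm⟩, rfl⟩
    have h21 : ∀ k ∈ K.D2, (∃ c, k 2 = sc c) → ∃ c, k 0 = sc c := fun k hk hc => by
      obtain ⟨c, hc'⟩ := h01 _ (K.rix_D2 (fun g hg => K.refl_mem hg 2) hk) (by simpa using hc)
      rw [rix_apply, show (2 : ZMod 3) - 1 = 1 from rfl] at hc'
      obtain ⟨e, he⟩ := h01 _ (K.rix_D2 (fun g hg => K.refl_mem hg 1) hk) ⟨c, by simpa using hc'⟩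
      exact ⟨e, by simpa using he⟩
    have hprop : ∀ k ∈ K.D2, ∀ x, ∃ c, k x = sc c * k 0 := by
      intro k hk x
      rcases ps_cases x with rfl | rfl | rfl
      · exact ⟨1, by rw [sc_one, one_mul]⟩
      · have hq := K.D2.mul_mem (K.rix_D2 (fun g hg => K.refl_mem hg 1) hk) (K.D2.inv_mem hk)
        obtain ⟨c, hc⟩ := h21 _ hq ⟨1, by simp [sc_one, show (1 : ZMod 3) - 2 = 2 from rfl]⟩
        exact ⟨c, by
          have e : k 1 * (k 0)⁻¹ = sc c := by simpa using hc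
          rw [← e]; group⟩
      · have hq := K.D2.mul_mem (K.rix_D2 (fun g hg => K.refl_mem hg 2) hk) (K.D2.inv_mem hk)
        have hq' := K.rix_D2 (fun g hg => K.refl_mem hg 1) hq
        obtain ⟨c, hc⟩ := h01 _ hq' ⟨1, by simp [sc_one, show (2 : ZMod 3) - 1 = 1 from rfl]⟩
        exact ⟨c, by
          have e : k 2 * (k 0)⁻¹ = sc c := by simpa using hc
          rw [← e]; group⟩
    have hle : K.S3 ≤ K.D2.comap (MonoidHom.pi fun _ : ZMod 3 => MonoidHom.id (GL (ZMod 3) F)) := by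
      refine (K.perfect h2).trans ((Subgroup.commutator_le).2 fun a ha b hb => ?_)
      obtain ⟨k, hk, rfl⟩ := hD a ha 0
      obtain ⟨k', hk', rfl⟩ := hD b hb 0
      have hm : k * k' * k⁻¹ * k'⁻¹ ∈ K.D2 := K.D2.mul_mem (K.D2.mul_mem (K.D2.mul_mem hk hk')
        (K.D2.inv_mem hk)) (K.D2.inv_mem hk')
      have e : k * k' * k⁻¹ * k'⁻¹ = fun _ => k 0 * k' 0 * (k 0)⁻¹ * (k' 0)⁻¹ := by
        funext x
        obtain ⟨c, hc⟩ := hprop k hk x
        obtain ⟨c', hc'⟩ := hprop k' hk' x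
        simp only [Pi.mul_apply, Pi.inv_apply, hc, hc', _root_.mul_inv_rev, sc_inv, sc_mul_mul]
        rw [← sc_comm c⁻¹, ← sc_comm c'⁻¹, sc_mul_mul, sc_mul_mul,
          show c * c' * c⁻¹ * c'⁻¹ = 1 by rw [mul_right_comm c, mul_inv_cancel, one_mul, mul_inv_cancel], sc_one,
          one_mul]
      rw [e] at hm
      exact hm
    -- the controlled phase separates the blocks
    have hd : (fun _ : ZMod 3 => fo h) ∈ K.D2 := hle (K.fo3 h2)
    have hcp : (fun x : ZMod 3 => gpm h (0, x)) ∈ K.C := K.cp_mem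
    have hk : (fun x : ZMod 3 => gpm h (0, x)) * (fun _ => fo h) * (fun x : ZMod 3 => gpm h (0, x))⁻¹ *
        (fun _ : ZMod 3 => fo h)⁻¹ ∈ K.D2 :=
      Subgroup.commutator_mem_commutator hcp (K.D2_le hd)
    obtain ⟨c, hc⟩ := h01 _ hk ⟨1, by
      simp only [Pi.mul_apply, Pi.inv_apply]
      rw [show ((0, 0) : V2) = 0 from rfl, gpm_zero, sc_one]; group⟩
    have e : gpm h (0, 1) * fo h = sc c * fo h * gpm h (0, 1) := by
      rw [← show gpm h (0, 1) * fo h * (gpm h (0, 1))⁻¹ * (fo h)⁻¹ = sc c from hc]; group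
    have e00 := congrArg (fun x : GL (ZMod 3) F => (x : Matrix (ZMod 3) (ZMod 3) F) 0 0) e
    have e10 := congrArg (fun x : GL (ZMod 3) F => (x : Matrix (ZMod 3) (ZMod 3) F) 1 0) e
    simp [fo, coe_sc, pm, mono, Matrix.mul_apply, sum_three, z3_ne, ps_zero, ps_one, Units.val_mul] at e00 e10
    have hkne := inv_ne_zero h.kne
    have hc1 : (c : F) = 1 := by
      refine mul_right_cancel₀ hkne ?_
      linear_combination -e00
    simp only [hc1, mul_one, one_mul] at e10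
    rcases e10 with e1 | e1
    · exact h.ne_one e1
    · exact h.kne e1
  · -- single blocks
    have hone : ∀ a ∈ K.S3, ∀ b ∈ K.S3, Pi.mulSingle (1 : ZMod 3) (a * b * a⁻¹ * b⁻¹) ∈ K.C := by
      intro a ha b hb
      obtain ⟨k, ⟨hk, c, hc⟩, rfl⟩ := hall ha
      obtain ⟨j, ⟨hj, e, he⟩, rfl⟩ := hall hb
      have hj' : rix (fun x => (2 : ZMod 3) - x) j ∈ K.D2 := K.rix_D2 (fun g hg => K.refl_mem hg 2) hj
      have hm := K.D2_le (K.D2.mul_mem (K.D2.mul_mem (K.D2.mul_mem hk hj') (K.D2.inv_mem hk)) (K.D2.inv_mem hj'))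
      convert hm using 1
      funext x
      simp only [Pi.mul_apply, Pi.inv_apply, rix_apply]
      rcases ps_cases x with rfl | rfl | rfl
      · rw [Pi.mulSingle_eq_of_ne (by decide), show k 0 = sc c from hc.symm, sc_comm c, sc_inv]
        rw [mul_assoc (j _), sc_mul, mul_inv_cancel, sc_one, mul_one, mul_inv_cancel]
      · rw [Pi.mulSingle_eq_same, show (2 : ZMod 3) - 1 = 1 from rfl]
        rfl
      · rw [Pi.mulSingle_eq_of_ne (by decide), show (2 : ZMod 3) - 2 = 0 from rfl, show j 0 = sc e from he.symm,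
          ← sc_comm e (k 2), sc_inv, mul_assoc (sc e), mul_inv_cancel, mul_one, sc_mul, mul_inv_cancel, sc_one]
    have hle : K.S3 ≤ K.C.comap (MonoidHom.mulSingle (fun _ : ZMod 3 => GL (ZMod 3) F) 1) :=
      (K.perfect h2).trans ((Subgroup.commutator_le).2 hone)
    refine K.nosingle h2 fun x s hs => ?_
    show Pi.mulSingle x s ∈ K.C
    convert K.shift_mem (hle hs) (x - 1) using 1
    funext y
    simp only [rix_apply, MonoidHom.mulSingle_apply]
    by_cases hyx : y = x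
    · subst hyx; rw [Pi.mulSingle_eq_same, sub_sub_cancel, Pi.mulSingle_eq_same]
    · rw [Pi.mulSingle_eq_of_ne hyx, Pi.mulSingle_eq_of_ne (fun e => hyx (by linear_combination e))]

/-- All blocks lie in the normaliser. -/
theorem small {g : ZMod 3 → GL (ZMod 3) F} (hg : gbd g ∈ K.X) (x : ZMod 3) : g x ∈ N3 h := by
  have hrf : ∀ {u : GL (ZMod 3) F}, u ∈ N3 h → u ∈ K.H0 := fun {u} hu => ⟨fun _ => u, K.rf_norm hu, rfl⟩
  rcases K.base K.H0 K.H0_le (fun c => hrf (Sys.sc_mem_norm (S := sys3 h) c)) (fun v => hrf (gpm_mem h v))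
      (hrf (CfsgLib.NineSymp.fo_mem h)) (hrf (CfsgLib.NineSymp.rz_mem h)) with hsm | hbig
  · refine hsm ⟨rix (fun y => y - -x) g, K.shift_mem hg (-x), ?_⟩
    simp
  · exact absurd hbig.2 (K.not_big hbig.1)

end Ctx

end CfsgLib.NineSymp
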