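import Cfsg.Agent.Lib.NineSymp.Blocks

/-!
The centraliser of a member of the two-qutrit family lies in the normaliser.
-/

set_option autoImplicit false
set_option linter.unusedSectionVars false
set_option linter.unusedSimpArgs false
set_option linter.flexible false
set_option linter.style.haveILetI false

namespace CfsgLib.NineSymp

open Matrix

variable {F : Type*} [Field F] {ω : F} {h : Om ω}

theorem sum_zero_iff : ∀ u₀ u₁ u₂ : V2, u₀ + u₁ + u₂ = 0 → u₂ = u₀ + (2 : ZMod 3) • (u₁ - u₀) := by decide +kernel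

theorem rz_pow_apply (h : Om ω) (x : ZMod 3) :
    ((rz h 0 ^ x.val : GL (ZMod 3) F) : Matrix (ZMod 3) (ZMod 3) F) =
      diagonal fun a => if a = 0 then ps ω x else 1 := by
  rw [coe_rz_pow, RM, ps]

theorem coe_one1 (x : ZMod 3) (g : GL (ZMod 3) F) (i j : I9) :
    (one1 x g : Matrix I9 I9 F) i j =
      if i.1 = j.1 then (if i.1 = x then (g : Matrix (ZMod 3) (ZMod 3) F) i.2 j.2 else if i.2 = j.2 then 1 else 0)
      else 0 := by
  simp only [one1, coe_gbd, bd]
  split_ifs with h1 h2 h3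
  · rw [h2, Pi.mulSingle_eq_same]
  · rw [Pi.mulSingle_eq_of_ne h2, h3, Units.val_one, Matrix.one_apply_eq]
  · rw [Pi.mulSingle_eq_of_ne h2, Units.val_one, Matrix.one_apply_ne h3]
  · rfl

theorem swap_one1_phase (h : Om ω) :
    (sw : GL I9 F) * one1 0 (gpm h (0, 1)) * sw⁻¹ = gbd fun x : ZMod 3 => rz h 0 ^ x.val := by
  refine Units.ext ?_
  ext ⟨i, a⟩ ⟨j, b⟩
  rw [coe_sw_conj, coe_one1, coe_gbd, bd, rz_pow_apply, coe_gpm, pm, mono, Matrix.diagonal_apply]
  simp only [Prod.swap_prod_mk, add_zero, one_mul]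
  by_cases hij : i = j <;> by_cases hab : a = b <;> simp [hij, hab]

theorem lf_diag_unit (h : Om ω) (k : ZMod 3) :
    (lf (rz h k) : GL I9 F) = one1 k (sc (ou h 1)) := by
  refine Units.ext ?_
  ext ⟨i, a⟩ ⟨j, b⟩
  rw [coe_lf, coe_one1, coe_sc]
  simp only [rz, Matrix.diagonal_apply, Matrix.smul_apply, Matrix.one_apply, smul_eq_mul, ou, Units.val_mk0, ps_one]
  by_cases hij : i = j <;> by_cases hab : a = b <;> simp [hij, hab]

theorem dsg_mul_dsg : (dsg : GL (ZMod 3) F) * dsg = 1 := Units.ext dsg.val_inv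

/-- The conjugate of the shift by the sign matrix does not normalise the family. -/
theorem sign_shift_not_mem (h2 : (2 : F) ≠ 0) : dsg * gpm h (1, 0) * dsg⁻¹ ∉ N3 h := by
  intro hN
  have hd : dsg * gpm h (1, 0) * dsg⁻¹ * (gpm h (1, 0))⁻¹ ∈ N3 h :=
    (N3 h).mul_mem hN ((N3 h).inv_mem (gpm_mem h _))
  obtain ⟨w, c, hc⟩ := hd.1 (1, 0)
  have hinv : (dsg : GL (ZMod 3) F)⁻¹ = dsg := inv_eq_of_mul_eq_one_right dsg_mul_dsg
  set d' : GL (ZMod 3) F := dsg * gpm h (1, 0) * dsg⁻¹ * (gpm h (1, 0))⁻¹ with hd'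
  have e : d' * gpm h (1, 0) = sc c * gpm h w * d' := by
    rw [← show d' * gpm h (1, 0) * d'⁻¹ = sc c * gpm h w from hc]; group
  let s : ZMod 3 → F := fun i => if i = 0 then 1 else -1
  have hdm : (d' : Matrix (ZMod 3) (ZMod 3) F) = mono id fun i => s i * s (i - 1) := by
    rw [hd', hinv, show (gpm h (1, 0))⁻¹ = sc (ou h 0) * gpm h (-1, 0) from
      inv_eq_of_mul_eq_one_right (by rw [ou_zero, sc_one, one_mul, gpm_mul]; simp [ou_zero, sc_one, gpm_zero, Prod.mk_zero_zero, show ((0, 0) : V2) = 0 from rfl])]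
    rw [ou_zero, sc_one, one_mul, Units.val_mul, Units.val_mul, Units.val_mul,
      show ((dsg : GL (ZMod 3) F) : Matrix (ZMod 3) (ZMod 3) F) = mono id s by
        ext i j; simp [dsg, mono, Matrix.diagonal_apply, s]
        split_ifs <;> simp_all,
      coe_gpm, coe_gpm, pm, pm, mono_mul, mono_mul, mono_mul]
    ext i j
    simp only [mono, Function.comp_apply, id, zero_mul, ps_zero, mul_one, add_assoc, neg_add_cancel, add_zero,
      ← sub_eq_add_neg, sub_add_cancel]
  have key : ∀ i j : ZMod 3, (if i = j + 1 then s i * s (i - 1) else 0) =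
      (c : F) * ((if i = j + w.1 then ps ω (w.2 * j) else 0) * (s j * s (j - 1))) := by
    intro i j
    have e' := congrArg (fun u : GL (ZMod 3) F => (u : Matrix (ZMod 3) (ZMod 3) F) i j) e
    simp only [Units.val_mul, coe_sc, hdm, Matrix.smul_mul, one_mul, Matrix.smul_apply, smul_eq_mul, coe_gpm, pm,
      mono_mul] at e'
    simp only [mono, Function.comp_apply, id, zero_mul, ps_zero, mul_one] at e'
    convert e' using 1
    · split_ifs with h1
      · subst h1; rfl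
      · rfl
    · split_ifs <;> ring
  have hw : w.1 = 1 := by
    have k1 := key 1 0
    rw [if_pos (zero_add 1).symm, show (1 : ZMod 3) - 1 = 0 from rfl] at k1
    by_contra hne
    rw [if_neg (fun e1 => hne (by rw [zero_add] at e1; exact e1.symm)), zero_mul, mul_zero] at k1
    simp [s] at k1
  have k1 := key 1 0
  have k2 := key 2 1
  have k0 := key 0 2
  rw [hw] at k0 k1 k2
  simp only [s, show (1 : ZMod 3) - 1 = 0 from rfl, show (2 : ZMod 3) - 1 = 1 from rfl,
    show (0 : ZMod 3) - 1 = 2 from rfl, show (0 : ZMod 3) + 1 = 1 from rfl, show (1 : ZMod 3) + 1 = 2 from rfl,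
    show (2 : ZMod 3) + 1 = 0 from rfl, z3_ne, if_true, if_false, mul_one, mul_zero, ps_zero, one_mul] at k0 k1 k2
  have hp : ps ω (w.2 * 2) = ps ω w.2 * ps ω w.2 := by rw [← ps_add h]; ring_nf
  rw [hp] at k0
  apply h2
  linear_combination (1 - ps ω w.2) * k2 - ps ω w.2 * k1 - k0

namespace Ctx

variable (K : Ctx h)

/-- A phase may be removed from a block. -/
theorem phase_mem (x : ZMod 3) (k : ZMod 3) : one1 x (sc (ou h k)) ∈ K.X := by
  have h1 : one1 0 (sc (ou h 1)) ∈ K.X := lf_diag_unit h 0 ▸ K.lf_norm (CfsgLib.NineSymp.rz_mem h)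
  have hx : one1 x (sc (ou h 1)) ∈ K.X := by
    have e : rix (fun y => y - x) (Pi.mulSingle 0 (sc (ou h 1)) : ZMod 3 → GL (ZMod 3) F) =
        Pi.mulSingle x (sc (ou h 1)) := by
      funext y
      rw [rix_apply]
      by_cases hy : y = x
      · subst hy; rw [sub_self, Pi.mulSingle_eq_same, Pi.mulSingle_eq_same]
      · rw [Pi.mulSingle_eq_of_ne hy, Pi.mulSingle_eq_of_ne (sub_ne_zero.2 hy)]
    have := K.shift_mem (g := Pi.mulSingle 0 (sc (ou h 1))) h1 x
    rwa [e] at this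
  have e : one1 x (sc (ou h k) : GL (ZMod 3) F) = one1 x (sc (ou h 1)) ^ k.val := by
    rw [one1, one1, ← map_pow, ← Pi.mulSingle_pow]
    congr 2
    show _ = sc (ou h 1) ^ k.val
    rw [show (sc (ou h 1) : GL (ZMod 3) F) ^ k.val = sc (ou h 1 ^ k.val) from (map_pow _ _ _).symm]
    exact congrArg _ (Units.ext (by simp [ou, ps, show (1 : ZMod 3).val = 1 from rfl]))
  rw [e]
  exact K.X.pow_mem hx _

/-- The controlled translations. -/
theorem ctrl_mem (v : V2) : ∃ g : ZMod 3 → GL (ZMod 3) F, gbd g ∈ K.X ∧ gbd g ∈ N9 h ∧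
    ∀ x, ∃ c, g x = sc c * gpm h (x • v) := by
  by_cases hv : v = 0
  · subst hv
    refine ⟨1, by rw [map_one]; exact K.X.one_mem, by rw [map_one]; exact (N9 h).one_mem, fun x => ⟨1, ?_⟩⟩
    rw [smul_zero, gpm_zero, sc_one, one_mul]; rfl
  obtain ⟨a, k, b, l, e⟩ := wL_trans_two v hv
  have hw : w3 h a k b l ∈ N3 h := w3_mem h (CfsgLib.NineSymp.fo_mem h) (CfsgLib.NineSymp.rz_mem h) a k b l
  refine ⟨fun x => w3 h a k b l * gpm h (0, x) * (w3 h a k b l)⁻¹, ?_, ?_, fun x => ?_⟩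
  · rw [show gbd (fun x => w3 h a k b l * gpm h (0, x) * (w3 h a k b l)⁻¹) = rf (w3 h a k b l) * cp h *
        (rf (w3 h a k b l))⁻¹ by rw [rf_apply, cp, ← map_inv, ← map_mul, ← map_mul]; rfl]
    exact K.X.mul_mem (K.X.mul_mem (K.rf_norm hw) K.cp_mem) (K.X.inv_mem (K.rf_norm hw))
  · rw [show gbd (fun x => w3 h a k b l * gpm h (0, x) * (w3 h a k b l)⁻¹) = rf (w3 h a k b l) * cp h *
        (rf (w3 h a k b l))⁻¹ by rw [rf_apply, cp, ← map_inv, ← map_mul, ← map_mul]; rfl]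
    exact (N9 h).mul_mem ((N9 h).mul_mem (rf_mem h hw) (CfsgLib.NineSymp.cp_mem h)) ((N9 h).inv_mem (rf_mem h hw))
  · have h0 := mv_w3 h a k b l (0, 1)
    rw [e] at h0
    rcases ps_cases x with rfl | rfl | rfl
    · exact ⟨1, by
        show w3 h a k b l * gpm h 0 * (w3 h a k b l)⁻¹ = _
        rw [zero_smul, gpm_zero, sc_one]; group⟩
    · rw [one_smul]; exact h0
    · have h2 := h0.add h0
      rwa [show ((0, 1) : V2) + (0, 1) = (0, 2) from rfl,
        show v + v = (2 : ZMod 3) • v by rw [show (2 : ZMod 3) = 1 + 1 from rfl, add_smul, one_smul]] at h2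

theorem one1_conj (x : ZMod 3) (n g : GL (ZMod 3) F) :
    rf n * one1 x g * (rf n)⁻¹ = one1 x (n * g * n⁻¹) := by
  rw [rf_apply, one1, one1, ← map_inv, ← map_mul, ← map_mul]
  congr 1
  funext y
  by_cases hy : y = x
  · subst hy; simp
  · simp [Pi.mulSingle_eq_of_ne hy]

/-- There are no translations of a single block. -/
theorem no_single {v : V2} (hv : v ≠ 0) : one1 2 (gpm h v) ∉ K.X := by
  intro hv2
  have hscal : ∀ (x : ZMod 3) (c : Fˣ) (u : V2), c ^ 3 = 1 → one1 x (sc c * gpm h u) ∈ K.X →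
      one1 x (gpm h u) ∈ K.X := by
    intro x c u hc hm
    obtain ⟨k, rfl⟩ := exists_ou h hc
    have e : one1 x (gpm h u) = one1 x (sc (ou h (-k))) * one1 x (sc (ou h k) * gpm h u) := by
      rw [one1, one1, one1, ← map_mul, ← Pi.mulSingle_mul, ← mul_assoc, sc_mul, ← ou_add, neg_add_cancel, ou_zero,
        sc_one, one_mul]
    rw [e]
    exact K.X.mul_mem (K.phase_mem x _) hm
  have hmove : ∀ (n : GL (ZMod 3) F) (u u' : V2), n ∈ N3 h → (sys3 h).Mv n u u' → one1 2 (gpm h u) ∈ K.X →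
      one1 2 (gpm h u') ∈ K.X := by
    rintro n u u' hn ⟨c, hc⟩ hu
    refine hscal 2 c u' (Sys.sc_cube (S := sys3 h) (w := u') ?_) ?_
    · rw [← hc, conj_pow, gpm_cube]; simp
    · rw [← show n * gpm h u * n⁻¹ = sc c * gpm h u' from hc, ← one1_conj]
      exact K.X.mul_mem (K.X.mul_mem (K.rf_norm hn) hu) (K.X.inv_mem (K.rf_norm hn))
  have hall2 : ∀ u, one1 2 (gpm h u) ∈ K.X := by
    intro u
    by_cases hu : u = 0
    · rw [hu, gpm_zero, one1, Pi.mulSingle_one, map_one]; exact K.X.one_mem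
    have hw : ∀ a k b l, w3 h a k b l ∈ N3 h := fun a k b l =>
      w3_mem h (CfsgLib.NineSymp.fo_mem h) (CfsgLib.NineSymp.rz_mem h) a k b l
    obtain ⟨a, k, b, l, e⟩ := wL_trans_one v hv
    obtain ⟨a', k', b', l', e'⟩ := wL_trans_one u hu
    have h1 := mv_w3 h a k b l (1, 0)
    have h1' := mv_w3 h a' k' b' l' (1, 0)
    rw [e] at h1
    rw [e'] at h1'
    exact hmove _ _ _ (hw a' k' b' l') h1' (hmove _ _ _ ((N3 h).inv_mem (hw a k b l)) h1.inv hv2)
  have hall : ∀ x u, one1 x (gpm h u) ∈ K.X := by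
    intro x u
    have e : rix (fun y => y - (x - 2)) (Pi.mulSingle 2 (gpm h u) : ZMod 3 → GL (ZMod 3) F) =
        Pi.mulSingle x (gpm h u) := by
      funext y
      rw [rix_apply]
      by_cases hy : y = x
      · subst hy; rw [sub_sub_cancel, Pi.mulSingle_eq_same, Pi.mulSingle_eq_same]
      · rw [Pi.mulSingle_eq_of_ne hy, Pi.mulSingle_eq_of_ne (fun e1 => hy (by linear_combination e1))]
    have := K.shift_mem (g := Pi.mulSingle 2 (gpm h u)) (hall2 u) (x - 2)
    rwa [e] at this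
  have hV1 : gbd (fun x : ZMod 3 => rz h 0 ^ x.val) ∈ K.X := by
    rw [← swap_one1_phase]
    exact K.X.mul_mem (K.X.mul_mem K.sw_mem (hall 0 _)) (K.X.inv_mem K.sw_mem)
  have hV2 : gbd (fun x : ZMod 3 => rzF h ^ x.val) ∈ K.X := by
    have e : gbd (fun x : ZMod 3 => rzF h ^ x.val) = rf (fo h) * gbd (fun x : ZMod 3 => rz h 0 ^ x.val) * (rf (fo h))⁻¹ := by
      rw [rf_apply, ← map_inv, ← map_mul, ← map_mul]
      congr 1
      funext x
      rw [rzF, conj_pow]
      rfl
    rw [e]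
    exact K.X.mul_mem (K.X.mul_mem K.fo_mem hV1) (K.X.inv_mem K.fo_mem)
  have hB : gbd (fun x : ZMod 3 => if x = 0 then 1 else sc (-1) * (jj : GL (ZMod 3) F)) ∈ K.X := by
    have hc := K.X.mul_mem (K.X.mul_mem (K.X.mul_mem hV1 hV2) (K.X.inv_mem hV1)) (K.X.inv_mem hV2)
    convert K.X.mul_mem hc hc using 1
    rw [← map_inv, ← map_inv, ← map_mul, ← map_mul, ← map_mul, ← map_mul]
    congr 1
    funext x
    simp only [Pi.mul_apply, Pi.inv_apply]
    rcases ps_cases x with rfl | rfl | rfl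
    · simp
    · rw [if_neg (by decide), show (1 : ZMod 3).val = 1 from rfl, ← qq_sq h (Or.inl rfl)]; rfl
    · rw [if_neg (by decide), show (2 : ZMod 3).val = 2 from rfl, ← qq_sq h (Or.inr rfl)]; rfl
  by_cases h2 : (2 : F) = 0
  · have hm1 : (sc (-1) : GL (ZMod 3) F) = 1 := by
      rw [show (-1 : Fˣ) = 1 from Units.ext (by rw [Units.val_neg, Units.val_one]; linear_combination -h2), sc_one]
    refine K.nojj h2 ?_ hall
    have hB' := K.shift_mem (g := fun x : ZMod 3 => if x = 0 then 1 else sc (-1) * (jj : GL (ZMod 3) F)) hB 1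
    convert K.X.mul_mem (K.X.mul_mem hB hB') (K.rf_norm (jj_mem_N3 (h := h))) using 1
    rw [one1, rf_apply, ← map_mul, ← map_mul]
    congr 1
    funext x
    simp only [Pi.mul_apply, rix_apply, hm1, one_mul]
    rcases ps_cases x with rfl | rfl | rfl
    · rw [Pi.mulSingle_eq_of_ne (by decide), if_pos rfl, if_neg (by decide), one_mul, jj_mul_jj]
    · rw [Pi.mulSingle_eq_of_ne (by decide), if_neg (by decide), if_pos (by decide), mul_one, jj_mul_jj]
    · rw [Pi.mulSingle_eq_same, if_neg (by decide), if_neg (by decide), jj_mul_jj, one_mul]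
  · refine sign_shift_not_mem (h := h) h2 ?_
    have hm := K.X.mul_mem (K.X.mul_mem K.sw_mem hB) (K.X.inv_mem K.sw_mem)
    have e : one1 0 (dsg * gpm h (1, 0) * dsg⁻¹) =
        (sw * gbd (fun x : ZMod 3 => if x = 0 then 1 else sc (-1) * (jj : GL (ZMod 3) F)) * sw⁻¹) *
          one1 0 (gpm h (1, 0)) *
          (sw * gbd (fun x : ZMod 3 => if x = 0 then 1 else sc (-1) * (jj : GL (ZMod 3) F)) * sw⁻¹)⁻¹ := by
      rw [eq_mul_inv_iff_mul_eq]
      let π : I9 → I9 := fun j => (if j.2 = 0 then j.1 else -j.1, j.2)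
      let ρ : I9 → I9 := fun j => (j.1, if j.1 = 0 then j.2 + 1 else j.2)
      let cB : I9 → F := fun j => if j.2 = 0 then 1 else -1
      let cs : I9 → F := fun j => if j.1 = 0 then
        (if j.2 + 1 = 0 then 1 else -1) * (if j.2 = 0 then 1 else -1) else 1
      have hBm : ((sw * gbd (fun x : ZMod 3 => if x = 0 then 1 else sc (-1) * (jj : GL (ZMod 3) F)) * sw⁻¹ :
          GL I9 F) : Matrix I9 I9 F) = mono π cB := by
        ext ⟨i, a⟩ ⟨j, b⟩
        rw [coe_sw_conj, coe_gbd, bd]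
        simp only [Prod.swap_prod_mk, mono, π, cB, Prod.mk.injEq]
        by_cases hab : a = b
        · subst hab
          by_cases ha : a = 0
          · simp [ha, Matrix.one_apply]
          · rw [if_pos rfl, if_neg ha, coe_sc_mul, Matrix.smul_apply]
            simp [ha, jj, mono]
        · simp [hab]
      have hE : ((one1 0 (gpm h (1, 0)) : GL I9 F) : Matrix I9 I9 F) = mono ρ fun _ => 1 := by
        ext ⟨i, a⟩ ⟨j, b⟩
        rw [coe_one1, coe_gpm, pm]
        simp only [mono, ρ, Prod.mk.injEq, zero_mul, ps_zero]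
        by_cases hij : i = j
        · subst hij
          by_cases hi : i = 0 <;> simp [hi]
        · simp [hij]
      have hS : ((one1 0 (dsg * gpm h (1, 0) * dsg⁻¹) : GL I9 F) : Matrix I9 I9 F) = mono ρ cs := by
        ext ⟨i, a⟩ ⟨j, b⟩
        rw [coe_one1, inv_eq_of_mul_eq_one_right dsg_mul_dsg, Units.val_mul, Units.val_mul, coe_gpm, pm]
        simp only [mono, ρ, cs, Prod.mk.injEq, dsg, Matrix.diagonal_mul, Matrix.mul_diagonal, zero_mul, ps_zero]
        by_cases hij : i = j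
        · subst hij
          by_cases hi : i = 0
          · by_cases hab : a = b + 1
            · subst hab; simp [hi]
            · simp [hi, hab]
          · simp [hi]
        · simp [hij]
      refine Units.ext ?_
      rw [Units.val_mul (one1 0 _), Units.val_mul (sw * _ * _), hBm, hE, hS, mono_mul, mono_mul]
      have hπ : ρ ∘ π = π ∘ ρ := funext fun j => (show ∀ j : I9, ρ (π j) = π (ρ j) by decide +kernel) j
      rw [hπ]
      congr 1
      funext ⟨i, a⟩
      simp only [cs, cB, π, ρ]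
      rcases ps_cases i with rfl | rfl | rfl <;> rcases ps_cases a with rfl | rfl | rfl <;>
        simp [show (-(1 : ZMod 3)) = 2 from rfl, show (-(2 : ZMod 3)) = 1 from rfl,
          show (1 : ZMod 3) + 1 = 2 from rfl, show (2 : ZMod 3) + 1 = 0 from rfl, z3_ne]
    have hmem : one1 0 (dsg * gpm h (1, 0) * dsg⁻¹) ∈ K.X := by
      rw [e]
      exact K.X.mul_mem (K.X.mul_mem hm (hall 0 _)) (K.X.inv_mem hm)
    simpa using K.small hmem 0

/-- Translations are linear along the blocks. -/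
theorem transl {g : ZMod 3 → GL (ZMod 3) F} {u : ZMod 3 → V2} (hg : gbd g ∈ K.X)
    (hu : ∀ x, ∃ c, g x = sc c * gpm h (u x)) : u 0 + u 1 + u 2 = 0 := by
  by_contra hw
  obtain ⟨ct, hct, -, hctv⟩ := K.ctrl_mem (u 1 - u 0)
  have hy := K.X.mul_mem (K.X.mul_mem hg (K.X.inv_mem (K.rf_norm (gpm_mem h (u 0))))) (K.X.inv_mem hct)
  rw [rf_apply, ← map_inv, ← map_inv, ← map_mul, ← map_mul] at hy
  set y : ZMod 3 → GL (ZMod 3) F := g * (fun _ => gpm h (u 0))⁻¹ * ct⁻¹ with hydef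
  have hyx : ∀ x, ∃ c, y x = sc c * gpm h (u x - u 0 - x • (u 1 - u 0)) := by
    intro x
    obtain ⟨c, hc⟩ := hu x
    obtain ⟨d, hd⟩ := hctv x
    obtain ⟨a, ha⟩ := Sys.op_mul_inv (S := sys3 h) (u x) (u 0)
    obtain ⟨b, hb⟩ := Sys.op_mul_inv (S := sys3 h) (u x - u 0) (x • (u 1 - u 0))
    refine ⟨c * a * (d⁻¹ * b), ?_⟩
    rw [hydef, Pi.mul_apply, Pi.mul_apply, Pi.inv_apply, Pi.inv_apply, hc, hd, mul_assoc (sc c),
      show gpm h (u x) * (gpm h (u 0))⁻¹ = _ from ha, _root_.mul_inv_rev, sc_inv, ← sc_comm, ← mul_assoc (sc c), sc_mul,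
      sc_mul_mul, show gpm h (u x - u 0) * (gpm h (x • (u 1 - u 0)))⁻¹ = _ from hb, ← mul_assoc, sc_mul,
      mul_assoc (c * a)]
  obtain ⟨c0, hc0⟩ := hyx 0
  obtain ⟨c1, hc1⟩ := hyx 1
  obtain ⟨c2, hc2⟩ := hyx 2
  rw [zero_smul, sub_zero, sub_self, gpm_zero, mul_one] at hc0
  rw [one_smul, sub_self, gpm_zero, mul_one] at hc1
  set w := u 2 - u 0 - (2 : ZMod 3) • (u 1 - u 0) with hwdef
  have hw0 : w ≠ 0 := fun e => hw (by
    have e2 : u 2 = u 0 + (2 : ZMod 3) • (u 1 - u 0) := by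
      rw [hwdef, sub_eq_zero, sub_eq_iff_eq_add] at e; rw [e]; abel
    rw [e2]
    exact (show ∀ a b : V2, a + b + (a + (2 : ZMod 3) • (b - a)) = 0 by decide) _ _)
  have hJ := K.rf_norm (jj_mem_N3 (h := h))
  have hy' := K.X.mul_mem (K.X.mul_mem hJ hy) (K.X.inv_mem hJ)
  have hq := K.X.mul_mem hy (K.X.inv_mem hy')
  obtain ⟨a, ha⟩ := Sys.op_mul_inv (S := sys3 h) w (-w)
  have e : y * ((fun _ => jj) * y * (fun _ : ZMod 3 => (jj : GL (ZMod 3) F))⁻¹)⁻¹ =
      Pi.mulSingle 2 (sc a * gpm h (w - -w)) := by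
    funext x
    simp only [Pi.mul_apply, Pi.inv_apply]
    rcases ps_cases x with rfl | rfl | rfl
    · rw [Pi.mulSingle_eq_of_ne (by decide), hc0, ← sc_comm c0 jj]; group
    · rw [Pi.mulSingle_eq_of_ne (by decide), hc1, ← sc_comm c1 jj]; group
    · rw [Pi.mulSingle_eq_same, hc2, sc_conj, jj_conj, ← show gpm h w * (gpm h (-w))⁻¹ = _ from ha,
        _root_.mul_inv_rev, sc_inv, ← sc_comm, sc_mul_mul, mul_inv_cancel, sc_one, one_mul]
  rw [rf_apply, ← map_inv, ← map_mul, ← map_mul, ← map_inv, ← map_mul, e] at hq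
  have hne : w - -w ≠ 0 := fun e1 => hw0 ((show ∀ z : V2, z - -z = 0 → z = 0 by decide) w e1)
  refine K.no_single hne ?_
  obtain ⟨k, rfl⟩ := exists_ou h (c := a) (Sys.sc_cube (S := sys3 h) (w := w - -w) (by
    rw [← ha]
    have hcomm : Commute (gpm h w) (gpm h (-w))⁻¹ := by
      refine Commute.inv_right ?_
      show gpm h w * gpm h (-w) = _
      rw [gpm_comm, show sp w (-w) = 0 by simp [sp], ou_zero, sc_one, one_mul]
    rw [hcomm.mul_pow, inv_pow, gpm_cube, gpm_cube, inv_one, mul_one]))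
  have e3 : one1 2 (gpm h (w - -w)) = one1 2 (sc (ou h (-k))) * one1 2 (sc (ou h k) * gpm h (w - -w)) := by
    rw [one1, one1, one1, ← map_mul, ← Pi.mulSingle_mul, ← mul_assoc, sc_mul, ← ou_add, neg_add_cancel, ou_zero,
      sc_one, one_mul]
  rw [e3]
  exact K.X.mul_mem (K.phase_mem 2 _) hq

end Ctx

end CfsgLib.NineSymp
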