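import Cfsg.Agent.Lib.NineSymp.Central

/-!
A member fixing a non-zero index up to a scalar lies in the normaliser.
-/

set_option autoImplicit false
set_option linter.unusedSectionVars false
set_option linter.unusedSimpArgs false
set_option linter.flexible false

namespace CfsgLib.NineSymp

open Matrix

variable {F : Type*} [Field F] {ω : F} {h : Om ω}

theorem pcl_smul (n₁ n₂ : V2) (x : ZMod 3) (v : V2) :
    pcl n₁ n₂ x v = v + x • (v.1 • n₁ + v.2 • n₂) := by
  simp [pcl, Prod.ext_iff, mul_add]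

/-- The diagonal matrix of three scalars. -/
def d3 (c : ZMod 3 → Fˣ) : GL (ZMod 3) F where
  val := diagonal fun x => (c x : F)
  inv := diagonal fun x => ((c x)⁻¹ : Fˣ)
  val_inv := by rw [diagonal_mul_diagonal, ← diagonal_one]; congr 1; funext x; simp
  inv_val := by rw [diagonal_mul_diagonal, ← diagonal_one]; congr 1; funext x; simp

theorem gbd_sc (c : ZMod 3 → Fˣ) : gbd (fun x => sc (c x)) = lf (d3 c) := by
  refine Units.ext ?_
  ext ⟨i, a⟩ ⟨j, b⟩
  rw [coe_gbd, bd, coe_lf]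
  simp only [d3, coe_sc, Matrix.diagonal_apply, Matrix.smul_apply, Matrix.one_apply, smul_eq_mul]
  by_cases hij : i = j <;> by_cases hab : a = b <;> simp [hij, hab]

namespace Ctx

variable (K : Ctx h)

/-- The induced maps are affine along the blocks. -/
theorem act_sum {g : ZMod 3 → GL (ZMod 3) F} (hg : gbd g ∈ K.X) (w : V2) :
    (sys3 h).act (g 0) w + (sys3 h).act (g 1) w + (sys3 h).act (g 2) w = 0 := by
  have hW := K.rf_norm (gpm_mem h w)
  have hm := K.X.mul_mem (K.X.mul_mem (K.X.mul_mem hg hW) (K.X.inv_mem hg)) (K.X.inv_mem hW)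
  rw [rf_apply, ← map_inv, ← map_inv, ← map_mul, ← map_mul, ← map_mul] at hm
  have ht := K.transl (u := fun x => (sys3 h).act (g x) w - w) hm fun x => by
    obtain ⟨c, hc⟩ := Sys.mv_act (K.small hg x) w
    obtain ⟨a, ha⟩ := Sys.op_mul_inv (S := sys3 h) ((sys3 h).act (g x) w) w
    refine ⟨c * a, ?_⟩
    show g x * gpm h w * (g x)⁻¹ * (gpm h w)⁻¹ = _
    rw [show g x * gpm h w * (g x)⁻¹ = sc c * gpm h ((sys3 h).act (g x) w) from hc, mul_assoc,
      show gpm h ((sys3 h).act (g x) w) * (gpm h w)⁻¹ = _ from ha, ← mul_assoc, sc_mul]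
  exact ((show ∀ a b c w : V2, a - w + (b - w) + (c - w) = 0 → a + b + c = 0 by decide +kernel) _ _ _ _ ht)

/-- The affine form of the induced maps. -/
theorem exists_pcl {g : ZMod 3 → GL (ZMod 3) F} (hg : gbd g ∈ K.X) (h0 : ∀ v, (sys3 h).act (g 0) v = v) :
    ∃ n₁ n₂, ∀ x v, (sys3 h).act (g x) v = pcl n₁ n₂ x v := by
  let f : V2 →+ V2 := AddMonoidHom.mk' (fun v => (sys3 h).act (g 1) v - v) fun a b => by
    rw [Sys.act_add (K.small hg 1)]; abel
  refine ⟨f (1, 0), f (0, 1), fun x v => ?_⟩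
  have e : v.1 • f (1, 0) + v.2 • f (0, 1) = f v := by
    rw [← ZMod.map_smul, ← ZMod.map_smul, ← map_add]
    congr 1
    ext <;> simp
  rw [pcl_smul, e]
  rcases ps_cases x with rfl | rfl | rfl
  · rw [h0, zero_smul, add_zero]
  · rw [one_smul]; show _ = v + ((sys3 h).act (g 1) v - v); abel
  · have := sum_zero_iff _ _ _ (K.act_sum hg v)
    rw [this, h0]
    rfl

/-- A commuting element lies in the normaliser. -/
theorem blocks_mem {g : ZMod 3 → GL (ZMod 3) F} (hg : gbd g ∈ K.X) : gbd g ∈ N9 h := by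
  have hn : ∀ x, g x ∈ N3 h := K.small hg
  suffices hh : ∀ g' : ZMod 3 → GL (ZMod 3) F, gbd g' ∈ K.X → g' 0 = 1 → gbd g' ∈ N9 h by
    have e : gbd g = rf (g 0) * gbd (fun x => (g 0)⁻¹ * g x) := by
      rw [rf_apply, ← map_mul]; congr 1; funext x; simp
    rw [e]
    refine (N9 h).mul_mem (rf_mem h (hn 0)) (hh _ ?_ (inv_mul_cancel _))
    have := K.X.mul_mem (K.X.inv_mem (K.rf_norm (hn 0))) hg
    rwa [rf_apply, ← map_inv, ← map_mul] at this
  clear hg hn g
  intro g hg hg0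
  have hn : ∀ x, g x ∈ N3 h := K.small hg
  have h0 : ∀ v, (sys3 h).act (g 0) v = v := fun v => by rw [hg0]; exact Sys.act_eq (Sys.mv_one v)
  obtain ⟨n₁, n₂, hn12⟩ := K.exists_pcl hg h0
  have hsp : ∀ x, sp (pcl n₁ n₂ x (1, 0)) (pcl n₁ n₂ x (0, 1)) = sp (1, 0) (0, 1) := fun x => by
    rw [← hn12, ← hn12]
    exact Sys.Mv.form_eq (Sys.mv_act (hn x) _) (Sys.mv_act (hn x) _)
  have hcomm : ∀ (u : GL (ZMod 3) F) (hL : V2 → V2), u ∈ N3 h → (∀ v, (sys3 h).Mv u v (hL v)) →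
      ∃ m₁ m₂ : V2, ∀ x, ∀ v : V2, pcl n₁ n₂ x (hL v) = pcl m₁ m₂ x (hL (pcl n₁ n₂ x v)) := by
    intro u hL hu hmv
    have hW := K.rf_norm hu
    have hm := K.X.mul_mem (K.X.mul_mem (K.X.mul_mem hg hW) (K.X.inv_mem hg)) (K.X.inv_mem hW)
    rw [rf_apply, ← map_inv, ← map_inv, ← map_mul, ← map_mul, ← map_mul] at hm
    obtain ⟨m₁, m₂, hm12⟩ := K.exists_pcl hm fun v => by
      simp only [Pi.mul_apply, Pi.inv_apply, hg0, one_mul, inv_one, mul_one, mul_inv_cancel]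
      exact Sys.act_eq (Sys.mv_one v)
    refine ⟨m₁, m₂, fun x v => ?_⟩
    have hux : ∀ w, (sys3 h).act u w = hL w := fun w => Sys.act_eq (hmv w)
    rw [← hn12, ← hn12, ← hm12, ← hux, ← hux, ← Sys.act_mul (hn x) hu, ← Sys.act_mul hu (hn x)]
    have e : g x * u = (g * (fun _ : ZMod 3 => u) * g⁻¹ * (fun _ : ZMod 3 => u)⁻¹ : ZMod 3 → GL (ZMod 3) F) x * (u * g x) := by
      simp only [Pi.mul_apply, Pi.inv_apply]; group
    rw [e, Sys.act_mul (K.small hm x) ((N3 h).mul_mem hu (hn x))]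
  obtain ⟨rfl, rfl⟩ := pencil n₁ n₂ hsp (hcomm _ _ (CfsgLib.NineSymp.fo_mem h) (mv_fo h))
    (hcomm _ _ (CfsgLib.NineSymp.rz_mem h) (mv_rz h))
  have hfix : ∀ x v, (sys3 h).Mv (g x) v v := fun x v => by
    have e := hn12 x v
    have e2 : pcl (0 : V2) 0 x v = v := by simp [pcl]
    rw [e2] at e
    have := Sys.mv_act (hn x) v
    rwa [e] at this
  choose c u hcu using fun x => Sys.eq_of_fix (hfix x)
  have hu0 : u 0 = 0 := by
    refine Sys.eq_zero_of_sc (S := sys3 h) (c := (c 0)⁻¹) ?_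
    show gpm h (u 0) = sc (c 0)⁻¹
    have e := (hcu 0).symm
    rw [hg0] at e
    rw [← sc_inv]
    exact eq_inv_of_mul_eq_one_right e
  have hsum := K.transl hg (u := u) fun x => ⟨c x, hcu x⟩
  have hux : ∀ x, u x = x • u 1 := by
    intro x
    rcases ps_cases x with rfl | rfl | rfl
    · rw [hu0, zero_smul]
    · rw [one_smul]
    · rw [sum_zero_iff _ _ _ hsum, hu0, zero_add, sub_zero]
  obtain ⟨ct, hct, hctN, hctv⟩ := K.ctrl_mem (u 1)
  choose d hd using hctv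
  have e : g = (fun x => sc (c x * (d x)⁻¹)) * ct := by
    funext x
    rw [Pi.mul_apply, hd x, hcu x, hux x, ← mul_assoc, sc_mul, inv_mul_cancel_right]
  have hs : gbd (fun x => (sc (c x * (d x)⁻¹) : GL (ZMod 3) F)) ∈ K.X := by
    have := K.X.mul_mem hg (K.X.inv_mem hct)
    rwa [← map_inv, ← map_mul, e, mul_inv_cancel_right] at this
  rw [e, map_mul]
  refine (N9 h).mul_mem ?_ hctN
  rw [gbd_sc] at hs ⊢
  refine lf_mem h ?_
  have hr : rf (d3 fun x => c x * (d x)⁻¹) ∈ K.X := by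
    rw [← swap_lf]
    exact K.X.mul_mem (K.X.mul_mem K.sw_mem hs) (K.X.inv_mem K.sw_mem)
  exact K.small (g := fun _ => _) hr 0

/-- A member fixing the phase of the first coordinate up to a scalar lies in the normaliser. -/
theorem axis_mem {g : GL I9 F} (hg : g ∈ K.X) (hmv : (sys9 h).Mv g ((0, 1), 0) ((0, 1), 0)) : g ∈ N9 h := by
  obtain ⟨c, hc⟩ := hmv
  obtain ⟨k, rfl⟩ := exists_ou h (c := c) (Sys.sc_cube (S := sys9 h) (w := ((0, 1), 0)) (by
    rw [← hc, conj_pow, pe_cube]; simp))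
  set s : GL I9 F := pe h ((k, 0), 0) with hs
  have hcomm : s * g * pe h ((0, 1), 0) = pe h ((0, 1), 0) * (s * g) := by
    have e1 : g * pe h ((0, 1), 0) = sc (ou h k) * pe h ((0, 1), 0) * g := by
      rw [← show g * pe h ((0, 1), 0) * g⁻¹ = sc (ou h k) * pe h ((0, 1), 0) from hc]; group
    have e2 : s * pe h ((0, 1), 0) = sc (ou h (-k)) * (pe h ((0, 1), 0) * s) := by
      rw [hs, pe_comm]
      simp [sp4, sp]
    calc s * g * pe h ((0, 1), 0) = s * (sc (ou h k) * pe h ((0, 1), 0) * g) := by rw [mul_assoc, e1]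
      _ = sc (ou h k) * (s * pe h ((0, 1), 0)) * g := by
        rw [← mul_assoc, ← mul_assoc, ← sc_comm]; group
      _ = _ := by
        rw [e2, ← mul_assoc (sc (ou h k)), sc_mul, ← ou_add, add_neg_cancel, ou_zero, sc_one, one_mul, mul_assoc]
  obtain ⟨gx, hgx⟩ := exists_blocks h hcomm
  have hX : gbd gx ∈ K.X := hgx ▸ K.X.mul_mem (K.pe_mem _) hg
  have := (N9 h).mul_mem ((N9 h).inv_mem (Sys.op_mem_norm (S := sys9 h) ((k, 0), 0))) (K.blocks_mem hX)
  rw [← hgx] at this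
  simpa [hs] using this

/-- A member moving some non-zero index into the family lies in the normaliser. -/
theorem mem_of_mv {g : GL I9 F} (hg : g ∈ K.X) {a b : W4} (ha : a ≠ 0) (hmv : (sys9 h).Mv g a b) : g ∈ N9 h := by
  have hb : b ≠ 0 := fun e => ha (by
    subst e
    have hz : (sys9 h).Mv g⁻¹ 0 0 := ⟨1, by
      show g⁻¹ * pe h 0 * g⁻¹⁻¹ = sc 1 * pe h 0
      rw [pe_zero, sc_one]; group⟩
    exact hmv.inv.unique hz)
  obtain ⟨k1, hk1, hk1N, hk1m⟩ := K.move ha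
  obtain ⟨k2, hk2, hk2N, hk2m⟩ := K.move hb
  have hm := K.axis_mem (K.X.mul_mem (K.X.mul_mem (K.X.inv_mem hk2) hg) hk1) ((hk2m.inv.mul hmv).mul hk1m)
  have := (N9 h).mul_mem ((N9 h).mul_mem hk2N hm) ((N9 h).inv_mem hk1N)
  simpa [mul_assoc] using this

end Ctx

end CfsgLib.NineSymp
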