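import Cfsg.Agent.Lib.NineSymp.Involution

/-!
Descent along the dihedral groups of two inversions: the whole group lies in the normaliser.
-/

set_option autoImplicit false
set_option linter.unusedSectionVars false
set_option linter.unusedSimpArgs false
set_option linter.flexible false
set_option linter.style.haveILetI false

namespace CfsgLib.NineSymp

open Matrix

variable {F : Type*} [Field F] {ω : F} {h : Om ω}

theorem axis_minus : (-((0, 1), 0) - ((0, 1), 0) : W4) ≠ 0 := by decide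

theorem invAll_ne_sc (c : Fˣ) : (invAll : GL I9 F) ≠ sc c := by
  intro e
  have e1 := congrArg (fun x : GL I9 F => (x : Matrix I9 I9 F) (2, 0) (1, 0)) e
  simp [invAll, coe_sc, Matrix.mul_apply, Fintype.sum_prod_type, sum_three, coe_lf, rf_apply_apply, jj, mono,
    show (-(1 : ZMod 3)) = 2 from rfl, show (-(2 : ZMod 3)) = 1 from rfl, z3_ne] at e1

namespace Ctx

variable (K : Ctx h) [Finite F]

/-- What commutes with a conjugate of the first inversion up to a scalar lies in the normaliser. -/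
theorem cent_conj {k g : GL I9 F} (hk : k ∈ K.X) (hkN : k ∈ N9 h) (hg : g ∈ K.X) {c : Fˣ}
    (e : g * (k * lf jj * k⁻¹) * g⁻¹ = sc c * (k * lf jj * k⁻¹)) : g ∈ N9 h := by
  have e' : k⁻¹ * g * k * lf jj * (k⁻¹ * g * k)⁻¹ = sc c * lf jj := by
    calc k⁻¹ * g * k * lf jj * (k⁻¹ * g * k)⁻¹ = k⁻¹ * (g * (k * lf jj * k⁻¹) * g⁻¹) * k := by group
      _ = k⁻¹ * (sc c * (k * lf jj * k⁻¹)) * k := by rw [e]
      _ = sc c * (k⁻¹ * (k * lf jj * k⁻¹) * k) := by rw [← mul_assoc k⁻¹, ← sc_comm]; group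
      _ = _ := by group
  obtain rfl := eq_one_of_conj h e'
  rw [sc_one, one_mul, mul_inv_eq_iff_eq_mul] at e'
  have hm := K.cjj_le (K.X.mul_mem (K.X.mul_mem (K.X.inv_mem hk) hg) hk) (mem_cjj.2 e')
  simpa [mul_assoc] using (N9 h).mul_mem ((N9 h).mul_mem hkN hm) ((N9 h).inv_mem hkN)

/-- A member conjugating the first inversion into the normaliser lies there. -/
theorem conj_inv_mem {f : GL I9 F} (hf : f ∈ K.X) (hfN : f * lf jj * f⁻¹ ∈ N9 h) : f ∈ N9 h := by
  have hsq : f * lf jj * f⁻¹ * (f * lf jj * f⁻¹) = 1 := by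
    calc f * lf jj * f⁻¹ * (f * lf jj * f⁻¹) = f * (lf jj * lf jj) * f⁻¹ := by group
      _ = 1 := by rw [lf_jj_sq]; group
  have hns : ∀ c, f * lf jj * f⁻¹ ≠ sc c := by
    intro c e
    have e1 : (lf jj : GL I9 F) = sc c := by
      calc (lf jj : GL I9 F) = f⁻¹ * (f * lf jj * f⁻¹) * f := by group
        _ = sc c := by rw [e, ← sc_comm]; group
    have e2 : (jj : GL (ZMod 3) F) = sc c := lf_injective (by rw [e1, lf_sc])
    have e3 := congrArg (fun x : GL (ZMod 3) F => (x : Matrix (ZMod 3) (ZMod 3) F) 2 1) e2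
    simp [jj, mono, coe_sc, show (-(1 : ZMod 3)) = 2 from rfl, z3_ne] at e3
  rcases K.inv_cases hfN hsq hns with ⟨k, hk, hkN, c, hc⟩ | ⟨k, hk, hkN, c, hc⟩
  · have e : k⁻¹ * f * lf jj * (k⁻¹ * f)⁻¹ = sc c * lf jj := by
      calc k⁻¹ * f * lf jj * (k⁻¹ * f)⁻¹ = k⁻¹ * (f * lf jj * f⁻¹) * k := by group
        _ = k⁻¹ * (sc c * (k * lf jj * k⁻¹)) * k := by rw [hc]
        _ = sc c * (k⁻¹ * (k * lf jj * k⁻¹) * k) := by rw [← mul_assoc k⁻¹, ← sc_comm]; group
        _ = _ := by group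
    obtain rfl := eq_one_of_conj h e
    rw [sc_one, one_mul, mul_inv_eq_iff_eq_mul] at e
    simpa using (N9 h).mul_mem hkN (K.cjj_le (K.X.mul_mem (K.X.inv_mem hk) hf) (mem_cjj.2 e))
  · exfalso
    refine not_conj (k⁻¹ * f) c ?_
    calc k⁻¹ * f * lf jj * (k⁻¹ * f)⁻¹ = k⁻¹ * (f * lf jj * f⁻¹) * k := by group
      _ = k⁻¹ * (sc c * (k * invAll * k⁻¹)) * k := by rw [hc]
      _ = sc c * (k⁻¹ * (k * invAll * k⁻¹) * k) := by rw [← mul_assoc k⁻¹, ← sc_comm]; group
      _ = _ := by group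

omit [Finite F] in
theorem invAll_memX : invAll ∈ K.X :=
  K.X.mul_mem (K.lf_norm (jj_mem_N3 (h := h))) (K.rf_norm (jj_mem_N3 (h := h)))

/-- All conjugates of the full inversion lie in the normaliser. -/
theorem class_mem {g : GL I9 F} (hg : g ∈ K.X) : g * invAll * g⁻¹ ∈ N9 h := by
  set t : GL I9 F := lf jj with ht
  set s' := g * invAll * g⁻¹ with hs'
  have hs'X : s' ∈ K.X := K.X.mul_mem (K.X.mul_mem hg K.invAll_memX) (K.X.inv_mem hg)
  have htX : t ∈ K.X := K.lf_norm (jj_mem_N3 (h := h))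
  have htN : t ∈ N9 h := lf_mem h (jj_mem_N3 (h := h))
  have htt : t * t = 1 := lf_jj_sq
  have hti : t⁻¹ = t := inv_eq_of_mul_eq_one_right htt
  have hss : s' * s' = 1 := by
    calc s' * s' = g * (invAll * invAll) * g⁻¹ := by rw [hs']; group
      _ = 1 := by rw [invAll_sq]; group
  have hsi : s'⁻¹ = s' := inv_eq_of_mul_eq_one_right hss
  set d := t * s' with hd
  have hdX : d ∈ K.X := K.X.mul_mem htX hs'X
  have hinv : ∀ n : ℕ, t * d ^ n * t⁻¹ = (d ^ n)⁻¹ := fun n => by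
    rw [← conj_pow, ← inv_pow]
    congr 1
    rw [hd, _root_.mul_inv_rev, hsi, ← mul_assoc, htt, one_mul]
  obtain ⟨l, o, ho, hn⟩ := Nat.exists_eq_two_pow_mul_odd (orderOf_pos d).ne'
  have hdn : d ^ (2 ^ l * o) = 1 := hn ▸ pow_orderOf_eq_one d
  -- downward induction along the squarings
  have hdown : ∀ j, j ≤ l → d ^ (2 ^ (l - j) * o) ∈ N9 h := by
    intro j
    induction j with
    | zero => intro _; rw [Nat.sub_zero, hdn]; exact (N9 h).one_mem
    | succ j ih =>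
      intro hj
      refine K.conj_inv_mem (K.X.pow_mem hdX _) ?_
      set f := d ^ (2 ^ (l - (j + 1)) * o) with hf
      have h2 : f * f = d ^ (2 ^ (l - j) * o) := by
        rw [hf, ← pow_add]
        congr 1
        rw [show l - j = l - (j + 1) + 1 by omega, pow_succ]
        ring
      have hfi : f⁻¹ = t * f * t := by rw [hf, ← hinv, hti]
      have e : f * t * f⁻¹ = f * f * t := by
        rw [hfi]
        calc f * t * (t * f * t) = f * (t * t) * f * t := by group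
          _ = _ := by rw [htt, mul_one]
      rw [e, h2]
      exact (N9 h).mul_mem (ih (by omega)) htN
  have hfN : d ^ o ∈ N9 h := by simpa using hdown l le_rfl
  set f := d ^ o with hf
  obtain ⟨m, rfl⟩ := ho
  set s0 := t * f with hs0
  have hs0N : s0 ∈ N9 h := (N9 h).mul_mem htN hfN
  have hs0conj : s0 = (d ^ m)⁻¹ * s' * d ^ m := by
    have e1 : t * d ^ m = (d ^ m)⁻¹ * t := by rw [← hinv m]; group
    have e2 : s' = t * d := by rw [hd, ← mul_assoc, htt, one_mul]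
    rw [hs0, hf, show 2 * m + 1 = m + (1 + m) by ring, pow_add, pow_add, pow_one, ← mul_assoc, e1, e2]
    group
  have hs0sq : s0 * s0 = 1 := by
    rw [hs0conj]
    calc (d ^ m)⁻¹ * s' * d ^ m * ((d ^ m)⁻¹ * s' * d ^ m) = (d ^ m)⁻¹ * (s' * s') * d ^ m := by group
      _ = 1 := by rw [hss]; group
  set P := (d ^ m)⁻¹ * g with hP
  have hsP : s0 = P * invAll * P⁻¹ := by rw [hs0conj, hP, hs']; group
  have hns : ∀ c, s0 ≠ sc c := by
    intro c e
    have e1 : (invAll : GL I9 F) = sc c := by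
      calc (invAll : GL I9 F) = P⁻¹ * (P * invAll * P⁻¹) * P := by group
        _ = sc c := by rw [← hsP, e, ← sc_comm]; group
    exact invAll_ne_sc c e1
  rcases K.inv_cases hs0N hs0sq hns with ⟨k, hk, hkN, c, hc⟩ | ⟨k, hk, hkN, c, hc⟩
  · exfalso
    refine not_conj (P⁻¹ * k) c⁻¹ ?_
    calc P⁻¹ * k * lf jj * (P⁻¹ * k)⁻¹ = P⁻¹ * (k * lf jj * k⁻¹) * P := by group
      _ = P⁻¹ * (sc c⁻¹ * s0) * P := by
        rw [hc, ← mul_assoc (sc c⁻¹), sc_mul, inv_mul_cancel, sc_one, one_mul]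
      _ = sc c⁻¹ * (P⁻¹ * s0 * P) := by rw [← mul_assoc P⁻¹, ← sc_comm]; group
      _ = _ := by rw [hsP]; group
  · -- the odd part is a lift of the inversion of the second coordinate
    have hfe : f = t * s0 := by rw [hs0, ← mul_assoc, htt, one_mul]
    obtain ⟨L, hL⟩ : ∃ L : ℕ, f ^ (2 ^ L) = 1 := ⟨l, by rw [hf, ← pow_mul, mul_comm, hdn]⟩
    obtain ⟨w, a, hfa⟩ : ∃ (w : W4) (a : Fˣ), f = sc a * (rf jj * pe h w) := by
      have hfix : ∀ v, (sys9 h).Mv (rf jj * f) v v := by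
        intro v
        obtain ⟨v', hv'⟩ := ((N9 h).inv_mem hkN).1 v
        have hk' : (sys9 h).Mv k v' v := inv_inv k ▸ hv'.inv
        have hneg : (sys9 h).Mv k (0 - v') (0 - v) := (mv_zero h k).sub hk'
        rw [zero_sub, zero_sub] at hneg
        have m1 : (sys9 h).Mv (k * invAll * k⁻¹) v (-v) := (hneg.mul (mv_invAll h v')).mul hv'
        have m2 : (sys9 h).Mv (t * (sc c * (k * invAll * k⁻¹))) v (- -v.1, -v.2) :=
          (mv_lf h (mv_jj h (-v.1)) (-v.2)).mul ((Sys.mv_sc (S := sys9 h) c (-v)).mul m1)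
        rw [← hc, ← hfe, neg_neg] at m2
        have m4 := (mv_rf h (mv_jj h (-v.2)) v.1).mul m2
        rwa [neg_neg] at m4
      obtain ⟨a, w, hw⟩ := Sys.eq_of_fix hfix
      refine ⟨w, a, ?_⟩
      calc f = rf jj * rf jj * f := by rw [rf_jj_sq, one_mul]
        _ = _ := by rw [mul_assoc, show rf jj * f = sc a * pe h w from hw, ← mul_assoc, ← sc_comm, mul_assoc]
    obtain ⟨w1, w2⟩ := w
    obtain ⟨e1, he1⟩ := mv_rf h (mv_jj h w2) w1
    obtain ⟨e2, he2⟩ := (sys9 h).op_add (w1, -w2) (w1, w2)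
    have hrinv : (rf jj : GL I9 F)⁻¹ = rf jj := inv_eq_of_mul_eq_one_right rf_jj_sq
    have hff : f * f = sc (a * a * (e1 * e2)) * pe h ((w1, -w2) + (w1, w2)) := by
      rw [hfa, sc_mul_mul, show rf jj * pe h (w1, w2) * (rf jj * pe h (w1, w2)) =
          rf jj * pe h (w1, w2) * (rf jj)⁻¹ * pe h (w1, w2) by rw [hrinv]; group,
          show rf jj * pe h (w1, w2) * (rf jj)⁻¹ = _ from he1, mul_assoc (sc e1),
          show pe h (w1, -w2) * pe h (w1, w2) = _ from he2, ← mul_assoc, ← mul_assoc, sc_mul, sc_mul,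
          mul_assoc (a * a)]
    have hw1 : w1 = 0 := by
      by_contra hne
      haveI : Nonempty I9 := ⟨0⟩
      have hu : (((w1, -w2) + (w1, w2)) : W4) ≠ 0 := fun e => hne (neg_fix w1 (congrArg Prod.fst e))
      have hp : (f * f) ^ (2 ^ L) = 1 := by rw [← pow_two, ← pow_mul, mul_comm, pow_mul, hL, one_pow]
      rw [hff, Commute.mul_pow (sc_comm _ _)] at hp
      set z := pe h ((w1, -w2) + (w1, w2)) with hz
      have hz3 : z ^ 3 = 1 := pe_cube h _
      obtain ⟨b, hb⟩ : ∃ b : Fˣ, z ^ (2 ^ L) = sc b :=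
        ⟨((a * a * (e1 * e2)) ^ (2 ^ L))⁻¹, by
          rw [← sc_inv, show (sc ((a * a * (e1 * e2)) ^ (2 ^ L)) : GL I9 F) = sc (a * a * (e1 * e2)) ^ (2 ^ L) from
            map_pow _ _ _]
          exact eq_inv_of_mul_eq_one_right hp⟩
      refine hu ((sys9 h).eq_zero_of_sc (c := if 2 ^ L % 3 = 1 then b else b * b) ?_)
      show z = _
      have hmod : 2 ^ L % 3 = 1 ∨ 2 ^ L % 3 = 2 := by
        have : ¬ 3 ∣ 2 ^ L := fun hd => by
          have := Nat.prime_three.dvd_of_dvd_pow hd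
          omega
        omega
      rcases hmod with h1 | h2
      · rw [if_pos h1, ← hb, pow_eq_pow_mod (2 ^ L) hz3, h1, pow_one]
      · rw [if_neg (by omega), ← sc_mul, ← hb, ← pow_add, pow_eq_pow_mod _ hz3,
          show (2 ^ L + 2 ^ L) % 3 = 1 by omega, pow_one]
    subst hw1
    obtain ⟨d1, hd1⟩ := mv_rf h (mv_jj h w2) 0
    obtain ⟨d2, hd2⟩ := Sys.op_mul_inv (S := sys9 h) (0, -w2) (0, w2)
    have key : pe h (0, w2) * rf jj * (pe h (0, w2))⁻¹ = sc (d1 * d2) * (rf jj * pe h (0, w2)) := by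
      have e1 : pe h (0, w2) * rf jj * (pe h (0, w2))⁻¹ = rf jj * (sc d1 * pe h (0, -w2)) * (pe h (0, w2))⁻¹ := by
        rw [← show rf jj * pe h (0, w2) * (rf jj)⁻¹ = sc d1 * pe h (0, -w2) from hd1, hrinv]
        calc pe h (0, w2) * rf jj * (pe h (0, w2))⁻¹ = (1 : GL I9 F) * pe h (0, w2) * rf jj * (pe h (0, w2))⁻¹ := by
              rw [one_mul]
          _ = _ := by rw [← rf_jj_sq]; group
      have e3 : ((0, -w2) - (0, w2) : W4) = (0, w2) := by
        ext <;> simp <;> exact (show ∀ x : ZMod 3, -x - x = x by decide) _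
      rw [e1, mul_assoc (rf jj), mul_assoc (sc d1), show pe h (0, -w2) * (pe h (0, w2))⁻¹ = _ from hd2, e3,
        ← mul_assoc (sc d1), sc_mul, ← mul_assoc (rf jj) (sc _), ← sc_comm, mul_assoc]
    have hK : f = sc (a * (d1 * d2)⁻¹) * (pe h (0, w2) * sw * lf jj * (pe h (0, w2) * sw)⁻¹) := by
      rw [show pe h (0, w2) * sw * lf jj * (pe h (0, w2) * sw)⁻¹ =
        pe h (0, w2) * (sw * lf jj * sw⁻¹) * (pe h (0, w2))⁻¹ by group, swap_lf, key, ← mul_assoc, sc_mul,
        inv_mul_cancel_right, hfa]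
    have hdN : d ∈ N9 h := by
      refine K.cent_conj (K.X.mul_mem (K.pe_mem (0, w2)) K.sw_mem)
        ((N9 h).mul_mem (Sys.op_mem_norm (S := sys9 h) _) (CfsgLib.NineSymp.sw_mem h)) hdX (c := 1) ?_
      set z := pe h (0, w2) * sw * lf jj * (pe h (0, w2) * sw)⁻¹
      have hz : z = sc (a * (d1 * d2)⁻¹)⁻¹ * f := by rw [hK, ← mul_assoc, sc_mul, inv_mul_cancel, sc_one, one_mul]
      rw [sc_one, one_mul, hz, ← mul_assoc d, ← sc_comm, mul_assoc, hf, mul_assoc, ← mul_assoc d, ← pow_succ', pow_succ]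
      group
    have := (N9 h).mul_mem htN hdN
    rwa [hd, ← mul_assoc, htt, one_mul] at this

/-- The whole group lies in the normaliser. -/
theorem le_norm : K.X ≤ N9 h := by
  intro g hg
  obtain ⟨d, hd⟩ := mv_invAll h ((0, 1), 0)
  set v : W4 := ((0, 1), 0)
  obtain ⟨e, he⟩ := Sys.op_mul_inv (S := sys9 h) (-v) v
  have hprod : invAll * (pe h v * invAll⁻¹ * (pe h v)⁻¹) = sc (d * e) * pe h (-v - v) := by
    rw [← mul_assoc, ← mul_assoc, show invAll * pe h v * invAll⁻¹ = _ from hd, mul_assoc,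
      show pe h (-v) * (pe h v)⁻¹ = _ from he, ← mul_assoc, sc_mul]
  have hm := (N9 h).mul_mem (K.class_mem hg)
    (K.class_mem (g := g * pe h v) (K.X.mul_mem hg (K.pe_mem v)))
  have e2 : g * invAll * g⁻¹ * (g * pe h v * invAll * (g * pe h v)⁻¹) = sc (d * e) * (g * pe h (-v - v) * g⁻¹) := by
    calc g * invAll * g⁻¹ * (g * pe h v * invAll * (g * pe h v)⁻¹) =
        g * (invAll * (pe h v * invAll * (pe h v)⁻¹)) * g⁻¹ := by group
      _ = _ := by
        conv_lhs => rw [show (invAll : GL I9 F) * (pe h v * invAll * (pe h v)⁻¹) =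
          invAll * (pe h v * invAll⁻¹ * (pe h v)⁻¹) by rw [invAll_inv]]
        rw [hprod, sc_conj]
  rw [e2] at hm
  have h3 := (N9 h).mul_mem (Sys.sc_mem_norm (S := sys9 h) (d * e)⁻¹) hm
  rw [← mul_assoc, sc_mul, inv_mul_cancel, sc_one, one_mul] at h3
  exact K.fusion hg (axis_minus) h3

end Ctx

end CfsgLib.NineSymp
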