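import Cfsg.Agent.Lib.NineSymp.Centralizer

/-!
The members of the two-qutrit family are not fused into the normaliser from outside, and three-groups through such a
member lie in the normaliser.
-/

set_option autoImplicit false
set_option linter.unusedSectionVars false
set_option linter.unusedSimpArgs false
set_option linter.flexible false
set_option linter.style.haveILetI false

namespace CfsgLib.NineSymp

open Matrix

variable {F : Type*} [Field F] {ω : F}

theorem card_ker_comp_le {A B C : Type} [AddCommGroup A] [AddCommGroup B] [AddCommGroup C] [Finite A] [Finite B]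
    (f : A →+ B) (g : B →+ C) : Nat.card (g.comp f).ker ≤ Nat.card f.ker * Nat.card g.ker := by
  let φ : (g.comp f).ker →+ g.ker :=
    { toFun := fun a => ⟨f a, a.2⟩
      map_zero' := Subtype.ext (by simp)
      map_add' := fun a b => Subtype.ext (by simp) }
  have h1 := AddSubgroup.card_eq_card_quotient_mul_card_addSubgroup φ.ker
  rw [h1, mul_comm]
  refine Nat.mul_le_mul ?_ ?_
  · exact Nat.card_le_card_of_injective (fun a => (⟨a.1.1, Subtype.ext_iff.1 (a.2 : φ a.1 = 0)⟩ : f.ker))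
      fun a b e => Subtype.ext (Subtype.ext (congrArg Subtype.val e :))
  · rw [Nat.card_congr (QuotientAddGroup.quotientKerEquivRange φ).toEquiv]
    exact Finite.card_subtype_le _

/-- An element of order three of the normaliser commutes with some non-zero member. -/
theorem Sys.exists_centralized {W : Type} [AddCommGroup W] [Fintype W] [DecidableEq W] {ι : Type} [Fintype ι]
    [DecidableEq ι] {S : Sys F W ι} (hW : 27 < Fintype.card W) {x : GL ι F} (hx : x ∈ S.norm) (hx3 : x ^ 3 = 1) :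
    ∃ c, c ≠ 0 ∧ x * S.op c = S.op c * x := by
  let f : W →+ W := AddMonoidHom.mk' (fun v => S.act x v - v) fun a b => by rw [act_add hx]; abel
  have hL3 : ∀ v, S.act x (S.act x (S.act x v)) = v := fun v => by
    rw [← act_mul hx hx, ← act_mul (S.norm.mul_mem hx hx) hx, show x * x * x = 1 by rw [← hx3, pow_succ, pow_two]]
    exact act_eq (mv_one v)
  have hadd : ∀ a b, S.act x (a - b) = S.act x a - S.act x b := fun a b => by
    rw [eq_sub_iff_add_eq, ← act_add hx, sub_add_cancel]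
  have hf3 : ∀ v, (f.comp (f.comp f)) v = 0 := fun v => by
    show S.act x (S.act x (S.act x v - v) - (S.act x v - v)) - (S.act x v - v) |> fun _ => f (f (f v)) = 0
    simp only [f, AddMonoidHom.mk'_apply, hadd, hL3]
    have e1 := S.three_nsmul_eq (S.act x v - S.act x (S.act x v))
    rw [← e1]
    abel
  have hcard : 4 ≤ Nat.card f.ker := by
    by_contra hlt
    have h1 := card_ker_comp_le f f
    have h2 := card_ker_comp_le (f.comp f) f
    have htop : Nat.card (f.comp (f.comp f)).ker = Fintype.card W := by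
      rw [show (f.comp (f.comp f)).ker = ⊤ from eq_top_iff.2 fun v _ => hf3 v]
      simp
    rw [htop] at h2
    have : Fintype.card W ≤ 3 * 3 * 3 := h2.trans (Nat.mul_le_mul (h1.trans (Nat.mul_le_mul (by omega) (by omega))) (by omega))
    omega
  have hfix : ∀ v : f.ker, ∃ k, x * S.op v.1 * x⁻¹ = sc (ou S.hom k) * S.op v.1 := fun v => by
    obtain ⟨c, hc⟩ := mv_act hx v.1
    rw [show S.act x v.1 = v.1 from sub_eq_zero.1 v.2] at hc
    obtain ⟨k, rfl⟩ := exists_ou S.hom (S.sc_cube (c := c) (w := v.1) (by rw [← hc, conj_pow, S.op_cube]; simp))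
    exact ⟨k, hc⟩
  choose χ hχ using hfix
  haveI : Fintype f.ker := Fintype.ofFinite _
  obtain ⟨a, b, hab, hχab⟩ := Fintype.exists_ne_map_eq_of_card_lt χ (by
    rw [ZMod.card, ← Nat.card_eq_fintype_card]; omega)
  obtain ⟨d, hd⟩ := S.op_mul_inv a.1 b.1
  refine ⟨a.1 - b.1, sub_ne_zero.2 fun e => hab (Subtype.ext e), ?_⟩
  have e1 : x * (S.op a.1 * (S.op b.1)⁻¹) * x⁻¹ = S.op a.1 * (S.op b.1)⁻¹ := by
    rw [show x * (S.op a.1 * (S.op b.1)⁻¹) * x⁻¹ = x * S.op a.1 * x⁻¹ * (x * S.op b.1 * x⁻¹)⁻¹ by group, hχ, hχ, hχab,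
      _root_.mul_inv_rev, sc_inv, ← sc_comm, sc_mul_mul, mul_inv_cancel, sc_one, one_mul]
  rw [hd, sc_conj] at e1
  calc x * S.op (a.1 - b.1) = x * S.op (a.1 - b.1) * x⁻¹ * x := by group
    _ = _ := by rw [mul_left_cancel e1]

section rho

variable {ι : Type} [Fintype ι] [DecidableEq ι]

/-- The reflection-like element attached to a matrix of order three. -/
def rhoM (ω : F) (z : GL ι F) : Matrix ι ι F :=
  1 + ((ω - 1) * (3 : F)⁻¹) • (1 + (z : Matrix ι ι F) + (z : Matrix ι ι F) * (z : Matrix ι ι F))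

theorem rho_conj (ω : F) (g z : GL ι F) : (g : Matrix ι ι F) * rhoM ω z = rhoM ω (g * z * g⁻¹) * (g : Matrix ι ι F) := by
  have e1 : ((g * z * g⁻¹ : GL ι F) : Matrix ι ι F) * (g : Matrix ι ι F) = (g : Matrix ι ι F) * (z : Matrix ι ι F) := by
    rw [← Units.val_mul, ← Units.val_mul]; congr 1; group
  simp only [rhoM, mul_add, add_mul, mul_one, one_mul, Matrix.mul_smul, Matrix.smul_mul, smul_add]
  rw [e1, mul_assoc _ _ (g : Matrix ι ι F), e1, ← mul_assoc _ (g : Matrix ι ι F), e1, mul_assoc]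

theorem rho_unique (ω : F) {g z : GL ι F} {y y' : GL ι F} (hy : (y : Matrix ι ι F) = rhoM ω z)
    (hy' : (y' : Matrix ι ι F) = rhoM ω (g * z * g⁻¹)) : g * y * g⁻¹ = y' := by
  rw [mul_inv_eq_iff_eq_mul]
  exact Units.ext (by rw [Units.val_mul, Units.val_mul, hy, hy', rho_conj])

theorem rho_twist (h : Om ω) {z : GL ι F} (hz : z ^ 3 = 1) :
    rhoM ω (sc (ou h 1) * z) = (ω ^ 2) • ((z : Matrix ι ι F) * rhoM ω z) ∧
      rhoM ω (sc (ou h 2) * z) = (ω ^ 2) • ((z : Matrix ι ι F) * (z : Matrix ι ι F) * rhoM ω z) := by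
  have h3 : (z : Matrix ι ι F) * ((z : Matrix ι ι F) * (z : Matrix ι ι F)) = 1 := by
    rw [← Units.val_mul, ← Units.val_mul, ← Units.val_one, ← hz]; congr 1; rw [pow_succ', pow_two]
  have hc := h.cube
  have hs := h.sum
  have hk : (3 : F)⁻¹ * 3 = 1 := inv_mul_cancel₀ h.three
  simp only [rhoM, coe_sc_mul, mul_add, add_mul, mul_one, one_mul, Matrix.mul_smul, Matrix.smul_mul, smul_add,
    mul_assoc, h3, smul_smul, ou, Units.val_mk0, ps_one, ps_two]
  set A := (z : Matrix ι ι F)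
  set B := A * A
  have a1 : (ω ^ 2 * ((ω - 1) * (3 : F)⁻¹)) = 1 + (ω - 1) * (3 : F)⁻¹ := by
    linear_combination (3 : F)⁻¹ * hc + (-(3 : F)⁻¹) * hs + hk
  constructor <;> match_scalars <;> grind

end rho

theorem rho_axis (h : Om ω) (i : ZMod 3) :
    ((lf (rz h (-i)) : GL I9 F) : Matrix I9 I9 F) = rhoM ω (sc (ou h i) * pe h ((0, 1), 0)) := by
  ext ⟨x, a⟩ ⟨y, b⟩
  rw [rhoM, coe_lf, coe_sc_mul, coe_axis, Matrix.smul_mul, Matrix.mul_smul, mono_mul]
  simp only [Matrix.add_apply, Matrix.smul_apply, smul_eq_mul, Matrix.one_apply, mono, Function.comp_apply,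
    Equiv.refl_apply, rz, Matrix.diagonal_apply, ou, Units.val_mk0, Prod.mk.injEq]
  by_cases hxy : x = y
  · subst hxy
    by_cases hab : a = b
    · subst hab
      simp only [and_self, if_true]
      have hsum := sum_ps h (i + x)
      rw [sum_three, mul_zero, mul_one, ps_zero, show (i + x) * 2 = i + x + (i + x) by ring] at hsum
      simp only [ps_add h] at hsum
      have hk : (3 : F)⁻¹ * 3 = 1 := inv_mul_cancel₀ h.three
      by_cases hix : x = -i
      · rw [if_pos hix]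
        rw [if_pos (by rw [hix, add_neg_cancel])] at hsum
        linear_combination -(ω - 1) * (3 : F)⁻¹ * hsum - (ω - 1) * hk
      · rw [if_neg hix]
        rw [if_neg (fun e => hix (eq_neg_of_add_eq_zero_right e))] at hsum
        linear_combination -(ω - 1) * (3 : F)⁻¹ * hsum
    · simp [hab]
  · simp [hxy]

namespace Ctx

variable {h : Om ω} (K : Ctx h)

theorem exists_rho {c : W4} (hc : c ≠ 0) (i : ZMod 3) :
    ∃ y ∈ K.X, y ∈ N9 h ∧ (y : Matrix I9 I9 F) = rhoM ω (sc (ou h i) * pe h c) := by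
  obtain ⟨k, hk, hkN, d, hd⟩ := K.move hc
  obtain ⟨e, rfl⟩ := exists_ou h (c := d) (Sys.sc_cube (S := sys9 h) (w := c) (by rw [← hd, conj_pow, pe_cube]; simp))
  have hlX : lf (rz h (-(i - e))) ∈ K.X := by rw [lf_diag_unit]; exact K.phase_mem _ _
  have hlN : lf (rz h (-(i - e))) ∈ N9 h := by
    rw [lf_diag_unit] at hlX ⊢
    exact K.blocks_mem hlX
  refine ⟨k * lf (rz h (-(i - e))) * k⁻¹, K.X.mul_mem (K.X.mul_mem hk hlX) (K.X.inv_mem hk),
    (N9 h).mul_mem ((N9 h).mul_mem hkN hlN) ((N9 h).inv_mem hkN), ?_⟩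
  have hz : k * (sc (ou h (i - e)) * pe h ((0, 1), 0)) * k⁻¹ = sc (ou h i) * pe h c := by
    rw [sc_conj, show k * pe h ((0, 1), 0) * k⁻¹ = sc (ou h e) * pe h c from hd, ← mul_assoc, sc_mul, ← ou_add,
      sub_add_cancel]
  rw [Units.val_mul, Units.val_mul, rho_axis, rho_conj, hz, mul_assoc, Units.mul_inv, mul_one]

/-- A member conjugated into the normaliser from inside forces the conjugating element inside. -/
theorem fusion {g : GL I9 F} (hg : g ∈ K.X) {a : W4} (ha : a ≠ 0) (hx : g * pe h a * g⁻¹ ∈ N9 h) : g ∈ N9 h := by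
  set x := g * pe h a * g⁻¹ with hxdef
  obtain ⟨c, hc, hcx⟩ := Sys.exists_centralized (S := sys9 h) (by decide) hx (by rw [hxdef, conj_pow, pe_cube]; simp)
  obtain ⟨y, hyX, hyN, hy⟩ := K.exists_rho hc 0
  rw [ou_zero, sc_one, one_mul] at hy
  have hcx' : x * pe h c * x⁻¹ = pe h c := by rw [mul_inv_eq_iff_eq_mul]; exact hcx
  have hyx : x * y * x⁻¹ = y := rho_unique ω hy (by rw [hcx', hy])
  have key : ∀ u ∈ K.X, x * u * x⁻¹ = u → g⁻¹ * u * g ∈ N9 h := by
    intro u hu hxu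
    refine K.mem_of_mv (K.X.mul_mem (K.X.mul_mem (K.X.inv_mem hg) hu) hg) ha (b := a) ⟨1, ?_⟩
    rw [sc_one, one_mul]
    have e : u * x * u⁻¹ = x := by
      calc u * x * u⁻¹ = x * u * x⁻¹ * x * u⁻¹ := by rw [hxu]
        _ = _ := by group
    calc g⁻¹ * u * g * pe h a * (g⁻¹ * u * g)⁻¹ = g⁻¹ * (u * x * u⁻¹) * g := by rw [hxdef]; group
      _ = _ := by rw [e, hxdef]; group
  have hy' : g⁻¹ * y * g ∈ N9 h := key y hyX hyx
  have hc' : g⁻¹ * pe h c * g ∈ N9 h := key _ (K.pe_mem c) hcx'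
  have htr : ((g⁻¹ * pe h c * g : GL I9 F) : Matrix I9 I9 F).trace = 0 := by
    rw [Units.val_mul, Units.val_mul, Matrix.trace_mul_cycle, Units.mul_inv, one_mul, trace_pe h hc]
  obtain ⟨v, k, hk, hv⟩ := Sys.exists_phase hc' htr
  have hu : (g * pe h v * g⁻¹) * pe h c * (g * pe h v * g⁻¹)⁻¹ = sc (ou h (-k)) * pe h c := by
    have hv' : g⁻¹ * pe h c * g * pe h v = sc (ou h k) * (pe h v * (g⁻¹ * pe h c * g)) := by
      rw [← mul_assoc, ← hv]; group
    have e : pe h v * (g⁻¹ * pe h c * g) = sc (ou h (-k)) * (g⁻¹ * pe h c * g * pe h v) := by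
      rw [hv', ← mul_assoc (sc _) (sc _), sc_mul, ← ou_add, neg_add_cancel, ou_zero, sc_one, one_mul]
    calc (g * pe h v * g⁻¹) * pe h c * (g * pe h v * g⁻¹)⁻¹ =
        g * (pe h v * (g⁻¹ * pe h c * g)) * (pe h v)⁻¹ * g⁻¹ := by group
      _ = g * sc (ou h (-k)) * g⁻¹ * pe h c := by rw [e]; group
      _ = _ := by rw [← sc_comm]; group
  have hcomm : ∃ j : ℕ, (j = 1 ∨ j = 2) ∧
      (g * pe h v * g⁻¹) * y * (g * pe h v * g⁻¹)⁻¹ * y⁻¹ = sc (ou h 2) * pe h c ^ j := by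
    rcases ps_cases (-k) with hk0 | hk1 | hk2
    · exact absurd (neg_eq_zero.1 hk0) hk
    · refine ⟨1, Or.inl rfl, ?_⟩
      rw [rho_unique ω (y' := sc (ou h 2) * pe h c * y) hy (by
        rw [hu, hk1, (rho_twist h (pe_cube h c)).1, Units.val_mul, coe_sc_mul, hy, Matrix.smul_mul]
        simp [ou, ps_two]), pow_one]
      group
    · refine ⟨2, Or.inr rfl, ?_⟩
      rw [rho_unique ω (y' := sc (ou h 2) * (pe h c * pe h c) * y) hy (by
        rw [hu, hk2, (rho_twist h (pe_cube h c)).2, Units.val_mul, coe_sc_mul, hy, Matrix.smul_mul, Units.val_mul]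
        simp [ou, ps_two]), pow_two]
      group
  obtain ⟨j, hj, hje⟩ := hcomm
  obtain ⟨w, d, hd⟩ := hy'.1 (-v)
  have hvinv : ∃ e, (pe h v)⁻¹ = sc e * pe h (-v) := by
    obtain ⟨e, he⟩ := Sys.op_mul_inv (S := sys9 h) 0 v
    exact ⟨e, by simpa [pe_zero] using he⟩
  obtain ⟨e, he⟩ := hvinv
  obtain ⟨d', hd'⟩ := (sys9 h).op_add v w
  have hpow : ∃ b u, (g⁻¹ * pe h c * g) ^ j = sc b * pe h u := by
    refine ⟨(ou h 2)⁻¹ * (e * d * d'), v + w, ?_⟩
    have e1 : g⁻¹ * (sc (ou h 2) * pe h c ^ j) * g = sc (ou h 2) * (g⁻¹ * pe h c * g) ^ j := by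
      rw [show (g⁻¹ * pe h c * g) ^ j = g⁻¹ * pe h c ^ j * g by simpa using conj_pow (i := j) (a := g⁻¹) (b := pe h c),
        ← mul_assoc, ← sc_comm]
      group
    rw [← hje, show g⁻¹ * ((g * pe h v * g⁻¹) * y * (g * pe h v * g⁻¹)⁻¹ * y⁻¹) * g =
      pe h v * ((g⁻¹ * y * g) * (pe h v)⁻¹ * (g⁻¹ * y * g)⁻¹) by group, he, sc_conj,
      show g⁻¹ * y * g * pe h (-v) * (g⁻¹ * y * g)⁻¹ = _ from hd, ← mul_assoc (sc e), sc_mul, ← mul_assoc (pe h v),
      ← sc_comm, mul_assoc, show pe h v * pe h w = sc d' * pe h (v + w) from hd', ← mul_assoc, sc_mul] at e1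
    calc (g⁻¹ * pe h c * g) ^ j = sc (ou h 2)⁻¹ * (sc (ou h 2) * (g⁻¹ * pe h c * g) ^ j) := by
          rw [← mul_assoc, sc_mul, inv_mul_cancel, sc_one, one_mul]
      _ = _ := by rw [← e1, ← mul_assoc, sc_mul]
  have hfin : ∃ b u, g⁻¹ * pe h c * g = sc b * pe h u := by
    obtain ⟨b, u, hb⟩ := hpow
    rcases hj with rfl | rfl
    · exact ⟨b, u, by simpa using hb⟩
    · obtain ⟨f, hf⟩ := (sys9 h).op_add u u
      refine ⟨b * b * f, u + u, ?_⟩
      have e3 : (g⁻¹ * pe h c * g) ^ 4 = g⁻¹ * pe h c * g := by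
        have : (g⁻¹ * pe h c * g) ^ 3 = 1 := by
          rw [show (g⁻¹ * pe h c * g) ^ 3 = g⁻¹ * pe h c ^ 3 * g by simpa using conj_pow (i := 3) (a := g⁻¹) (b := pe h c), pe_cube]
          simp
        rw [pow_succ, this, one_mul]
      rw [← e3, show (g⁻¹ * pe h c * g) ^ 4 = (g⁻¹ * pe h c * g) ^ 2 * (g⁻¹ * pe h c * g) ^ 2 by rw [← pow_add], hb,
        sc_mul_mul, show pe h u * pe h u = sc f * pe h (u + u) from hf, ← mul_assoc, sc_mul]
  obtain ⟨b, u, hb⟩ := hfin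
  have hmv : (sys9 h).Mv g⁻¹ c u := ⟨b, by rw [inv_inv]; exact hb⟩
  simpa using (N9 h).inv_mem (K.mem_of_mv (K.X.inv_mem hg) hc hmv)

/-- A three-group through a non-zero member lies in the normaliser. -/
theorem pgroup_le [Finite F] {S : Subgroup (GL I9 F)} (hS : S ≤ K.X) (hp : IsPGroup 3 S) {a : W4} (ha : a ≠ 0)
    (haS : pe h a ∈ S) : S ≤ N9 h := by
  haveI : Fact (Nat.Prime 3) := ⟨Nat.prime_three⟩
  haveI : Group.IsNilpotent S := hp.isNilpotent
  set T := (N9 h).subgroupOf S with hT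
  by_contra hne
  have hlt : T < ⊤ := lt_top_iff_ne_top.2 fun e => hne fun s hs => by
    have : (⟨s, hs⟩ : S) ∈ T := by rw [e]; trivial
    exact this
  obtain ⟨g, hg, hgT⟩ := SetLike.exists_of_lt (Group.normalizerCondition_of_isNilpotent T hlt)
  refine hgT (K.fusion (hS g.2) ha ?_)
  have := (Subgroup.mem_normalizer_iff.1 hg ⟨pe h a, haS⟩).1 (Sys.op_mem_norm (S := sys9 h) a)
  exact this

/-- An element of order three of a subgroup through a non-zero member is conjugate into the normaliser there. -/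
theorem exists_conj_mem [Finite F] {Q : Subgroup (GL I9 F)} (hQ : Q ≤ K.X) {a : W4} (ha : a ≠ 0) (haQ : pe h a ∈ Q)
    {x : GL I9 F} (hxQ : x ∈ Q) (hx : x ^ 3 = 1) : ∃ k ∈ Q, k * x * k⁻¹ ∈ N9 h := by
  haveI : Fact (Nat.Prime 3) := ⟨Nat.prime_three⟩
  haveI : Finite Q := inferInstance
  have hpg : ∀ z : Q, z ^ 3 = 1 → IsPGroup 3 (Subgroup.zpowers z) := by
    rintro z hz ⟨w, k, rfl⟩
    exact ⟨1, Subtype.ext (by show (z ^ k) ^ (3 ^ 1) = 1; rw [pow_one, ← zpow_natCast, ← _root_.zpow_mul, mul_comm, _root_.zpow_mul,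
      zpow_natCast, hz, _root_.one_zpow])⟩
  obtain ⟨P, hP⟩ := (hpg ⟨pe h a, haQ⟩ (Subtype.ext (pe_cube h a))).exists_le_sylow
  obtain ⟨P', hP'⟩ := (hpg ⟨x, hxQ⟩ (Subtype.ext hx)).exists_le_sylow
  obtain ⟨k, hk⟩ := MulAction.exists_smul_eq Q P' P
  refine ⟨k, k.2, ?_⟩
  have hle : (P : Subgroup Q).map Q.subtype ≤ N9 h := by
    refine K.pgroup_le (fun y hy => ?_) (P.2.map _) ha ⟨⟨pe h a, haQ⟩, hP (Subgroup.mem_zpowers _), rfl⟩
    obtain ⟨y', -, rfl⟩ := hy
    exact hQ y'.2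
  have hmem : k * (⟨x, hxQ⟩ : Q) * k⁻¹ ∈ (P : Subgroup Q) := by
    rw [← hk, Sylow.coe_subgroup_smul]
    exact Subgroup.smul_mem_pointwise_smul _ (MulAut.conj k) _ (hP' (Subgroup.mem_zpowers _))
  exact hle ⟨_, hmem, rfl⟩

end Ctx

end CfsgLib.NineSymp
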