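import Cfsg.Agent.Lib.NineSymp.Basic

/-!
The two-qutrit shift-and-phase elements, their conjugates by the generators of the normaliser, and the identities
between the small matrices.
-/

set_option autoImplicit false
set_option linter.unusedSectionVars false
set_option linter.unusedSimpArgs false
set_option linter.flexible false

namespace CfsgLib.NineSymp

open Matrix

variable {F : Type*} [Field F] {ω : F}

/-- The four-dimensional space over three elements. -/
abbrev W4 : Type := V2 × V2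

/-- The shift-and-phase element of the two coordinates. -/
def pe (h : Om ω) (v : W4) : GL I9 F := lf (gpm h v.1) * rf (gpm h v.2)

theorem lf_sc (c : Fˣ) : lf (sc c : GL (ZMod 3) F) = sc c := by
  refine Units.ext ?_
  ext i j
  rw [coe_lf, coe_sc, coe_sc]
  simp [Matrix.one_apply, Prod.ext_iff]
  split_ifs <;> simp_all

theorem rf_sc (c : Fˣ) : rf (sc c : GL (ZMod 3) F) = sc c := by
  refine Units.ext ?_
  ext ⟨i, a⟩ ⟨j, b⟩
  simp [rf_apply, bd, coe_sc, Matrix.one_apply]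
  split_ifs <;> simp_all

theorem sc_mul (c d : Fˣ) {ι : Type} [Fintype ι] [DecidableEq ι] : (sc c : GL ι F) * sc d = sc (c * d) :=
  (map_mul _ _ _).symm

theorem sc_one {ι : Type} [Fintype ι] [DecidableEq ι] : (sc 1 : GL ι F) = 1 := map_one _

theorem sc_inv {ι : Type} [Fintype ι] [DecidableEq ι] (c : Fˣ) : (sc c : GL ι F)⁻¹ = sc c⁻¹ :=
  (map_inv _ _).symm

theorem sc_mul_mul {ι : Type} [Fintype ι] [DecidableEq ι] (c d : Fˣ) (g k : GL ι F) :
    sc c * g * (sc d * k) = sc (c * d) * (g * k) := by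
  rw [← sc_mul, mul_assoc, ← mul_assoc g, ← sc_comm, mul_assoc, ← mul_assoc (sc c)]

theorem pe_zero (h : Om ω) : pe h 0 = 1 := by
  have e : gpm h (0 : V2) = 1 := Units.ext (by simp [pm_zero])
  simp [pe, e]

theorem pe_mul (h : Om ω) (v w : W4) :
    pe h v * pe h w = sc (ou h (v.1.2 * w.1.1) * ou h (v.2.2 * w.2.1)) * pe h (v + w) := by
  rw [pe, pe, pe, mul_assoc, ← mul_assoc (rf (gpm h v.2)), ← lf_rf_comm, mul_assoc, ← mul_assoc,
    ← map_mul lf, ← map_mul rf, gpm_mul h, gpm_mul h, map_mul, map_mul, lf_sc, rf_sc, sc_mul_mul]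
  rfl

/-- The commutator form. -/
def sp4 (v w : W4) : ZMod 3 := sp v.1 w.1 + sp v.2 w.2

theorem pe_comm (h : Om ω) (v w : W4) : pe h v * pe h w = sc (ou h (sp4 v w)) * (pe h w * pe h v) := by
  rw [pe_mul, pe_mul, add_comm w v, ← mul_assoc, sc_mul]
  congr 2
  ext
  simp only [ou, Units.val_mul, Units.val_mk0, sp4, sp, ← ps_add h]
  ring_nf

theorem sp4_self (v : W4) : sp4 v v = 0 := by simp [sp4, sp]

theorem sp4_swap (v w : W4) : sp4 v w = -sp4 w v := by simp [sp4, sp]; ring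

theorem sp4_nondeg {v : W4} (hv : v ≠ 0) : ∃ w, sp4 v w = 1 := by revert v; decide +kernel

/-- `g` moves the element of `v` to that of `w` up to a scalar. -/
def Mv (h : Om ω) (g : GL I9 F) (v w : W4) : Prop := ∃ c, g * pe h v * g⁻¹ = sc c * pe h w

theorem Mv.mul {h : Om ω} {g k : GL I9 F} {u v w : W4} (hg : Mv h g v w) (hk : Mv h k u v) :
    Mv h (g * k) u w := by
  obtain ⟨c, hc⟩ := hg
  obtain ⟨d, hd⟩ := hk
  refine ⟨d * c, ?_⟩
  calc g * k * pe h u * (g * k)⁻¹ = g * (k * pe h u * k⁻¹) * g⁻¹ := by group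
    _ = sc d * (g * pe h v * g⁻¹) := by rw [hd, ← mul_assoc g, ← sc_comm]; group
    _ = _ := by rw [hc, ← mul_assoc, sc_mul]

theorem Mv.inv {h : Om ω} {g : GL I9 F} {v w : W4} (hg : Mv h g v w) : Mv h g⁻¹ w v := by
  obtain ⟨c, hc⟩ := hg
  refine ⟨c⁻¹, ?_⟩
  have : pe h w = sc c⁻¹ * (g * pe h v * g⁻¹) := by rw [hc, ← mul_assoc, sc_mul, inv_mul_cancel, sc_one, one_mul]
  rw [inv_inv, this, ← mul_assoc g⁻¹, ← sc_comm]
  group

theorem mv_one {h : Om ω} (v : W4) : Mv h 1 v v := ⟨1, by simp [sc_one]⟩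

theorem fo_conj (h : Om ω) (v : V2) :
    fo h * gpm h v * (fo h)⁻¹ = sc (ou h (-(v.1 * v.2))) * gpm h (foL v) := by
  rw [mul_inv_eq_iff_eq_mul]
  refine Units.ext ?_
  ext i j
  rw [Units.val_mul, Units.val_mul, Units.val_mul, coe_gpm, coe_gpm, coe_sc, smul_mul_assoc, one_mul,
    smul_mul_assoc, Matrix.smul_apply, smul_eq_mul, pm, mul_mono_apply]
  rw [show pm ω (foL v) = mono (Equiv.addRight (foL v).1 : ZMod 3 → ZMod 3) (fun j => ps ω ((foL v).2 * j)) from rfl,
    mono_mul_apply]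
  simp only [fo, ou, Units.val_mk0, Matrix.of_apply, Equiv.addRight_symm, Equiv.coe_addRight, foL, neg_neg]
  rw [show ∀ a b c k : F, a * (b * (k * c)) = k * (a * b * c) by intros; ring, mul_assoc, ← ps_add h, ← ps_add h,
    ← ps_add h]
  ring_nf

theorem rz_conj (h : Om ω) (v : V2) :
    rz h 0 * gpm h v * (rz h 0)⁻¹ = sc (ou h (-(v.1 * v.1))) * gpm h (rzL v) := by
  rw [mul_inv_eq_iff_eq_mul]
  refine Units.ext ?_
  obtain ⟨a, b⟩ := v
  ext i j
  simp only [Units.val_mul, coe_gpm, coe_sc, rz, ou, Units.val_mk0, rzL, smul_mul_assoc, one_mul,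
    Matrix.smul_apply, smul_eq_mul, Matrix.diagonal_mul, Matrix.mul_diagonal, pm, mono]
  have hd : ∀ k : ZMod 3, (if k = 0 then ω else (1 : F)) = ps ω (1 - k * k) := by
    intro k
    rcases ps_cases k with rfl | rfl | rfl
    · rw [if_pos rfl, mul_zero, sub_zero, ps_one]
    · rw [if_neg (by decide), mul_one, sub_self, ps_zero]
    · rw [if_neg (by decide), show (1 : ZMod 3) - 2 * 2 = 0 from rfl, ps_zero]
  rw [hd, hd]
  by_cases hij : i = j + a
  · subst hij
    rw [if_pos rfl, if_pos rfl, ← ps_add h, ← ps_add h, ← ps_add h]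
    congr 1
    have h30 : (3 : ZMod 3) = 0 := rfl
    linear_combination (-(a * j)) * h30
  · simp [hij]

/-- The inversion of the residues. -/
def jj : GL (ZMod 3) F where
  val := mono (fun j => -j) fun _ => 1
  inv := mono (fun j => -j) fun _ => 1
  val_inv := by rw [mono_mul, mul_one, show ((fun j : ZMod 3 => -j) ∘ fun j => -j) = id from funext neg_neg]; exact mono_id
  inv_val := by rw [mono_mul, mul_one, show ((fun j : ZMod 3 => -j) ∘ fun j => -j) = id from funext neg_neg]; exact mono_id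

theorem jj_mul_jj : (jj : GL (ZMod 3) F) * jj = 1 := Units.ext jj.val_inv

theorem jj_conj (h : Om ω) (v : V2) : jj * gpm h v * jj⁻¹ = gpm h (-v) := by
  rw [mul_inv_eq_iff_eq_mul]
  refine Units.ext ?_
  show mono (fun j => -j) (fun _ => (1 : F)) * pm ω v = pm ω (-v) * mono (fun j => -j) (fun _ => (1 : F))
  rw [pm, pm, mono_mul, mono_mul]
  congr 1
  · funext j; simp; ring
  · funext j; simp

theorem Om.sq (h : Om ω) : Om (ω ^ 2) := ⟨by linear_combination (ω ^ 2 - ω + 1) * h.sum, h.three⟩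

theorem Om.kne (h : Om ω) : ω - ω ^ 2 ≠ 0 := by
  rw [show ω - ω ^ 2 = ω * (1 - ω) by ring]
  exact mul_ne_zero h.ne_zero (sub_ne_zero.2 (Ne.symm h.ne_one))

theorem Om.ksq (h : Om ω) : (ω - ω ^ 2) ^ 2 = -3 := by linear_combination (ω ^ 2 - 3 * ω + 3) * h.sum

theorem sum_ps (h : Om ω) (a : ZMod 3) : (∑ k : ZMod 3, ps ω (a * k)) = if a = 0 then 3 else 0 := by
  rw [show (∑ k : ZMod 3, ps ω (a * k)) = ps ω (a * 0) + ps ω (a * 1) + ps ω (a * 2) from
    Fin.sum_univ_three _, mul_zero, mul_one, ps_zero]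
  rcases ps_cases a with rfl | rfl | rfl
  · rw [if_pos rfl, zero_mul, ps_zero]; norm_num
  · rw [if_neg (by decide), one_mul, ps_one, ps_two]; linear_combination h.sum
  · rw [if_neg (by decide), show (2 : ZMod 3) * 2 = 1 from rfl, ps_one, ps_two]; linear_combination h.sum

theorem fo_diag_fo (h : Om ω) (c : F) :
    (fo h : Matrix (ZMod 3) (ZMod 3) F) * diagonal (fun i => if i = 0 then c else 1) *
      (((fo h)⁻¹ : GL (ZMod 3) F) : Matrix (ZMod 3) (ZMod 3) F) = Matrix.of fun i j => (if i = j then 1 else 0) + (c - 1) * (3 : F)⁻¹ := by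
  ext i j
  rw [Matrix.mul_apply]
  simp only [Matrix.mul_diagonal, fo, Units.inv_mk, Matrix.of_apply]
  have h3 := h.three
  have e : ∀ k : ZMod 3, (ω - ω ^ 2)⁻¹ * ps ω (i * k) * (if k = 0 then c else 1) *
      -((ω - ω ^ 2)⁻¹ * ps ω (-(k * j))) = 3⁻¹ * ps ω ((i - j) * k) + (if k = 0 then 3⁻¹ * (c - 1) else 0) := by
    intro k
    have hk : (ω - ω ^ 2)⁻¹ * (ω - ω ^ 2)⁻¹ = -(3 : F)⁻¹ := by
      rw [← mul_inv, ← pow_two, h.ksq, inv_neg]
    rw [show (i - j) * k = i * k + -(k * j) by ring, ps_add h]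
    split_ifs with h0
    · subst h0
      simp only [mul_zero, zero_mul, neg_zero, ps_zero]
      linear_combination -c * hk
    · linear_combination -(ps ω (i * k) * ps ω (-(k * j))) * hk
  rw [Finset.sum_congr rfl fun k _ => e k, Finset.sum_add_distrib, ← Finset.mul_sum, sum_ps h, Finset.sum_ite_eq']
  simp only [Finset.mem_univ, if_true, sub_eq_zero]
  split_ifs
  · rw [inv_mul_cancel₀ h3, mul_comm]
  · rw [mul_zero, mul_comm]

theorem z3_ne : ((0 : ZMod 3) = 1) = False ∧ ((0 : ZMod 3) = 2) = False ∧ ((1 : ZMod 3) = 0) = False ∧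
    ((1 : ZMod 3) = 2) = False ∧ ((2 : ZMod 3) = 0) = False ∧ ((2 : ZMod 3) = 1) = False := by
  refine ⟨?_, ?_, ?_, ?_, ?_, ?_⟩ <;> exact eq_false (by decide)

theorem sum_three {M : Type*} [AddCommMonoid M] (f : ZMod 3 → M) : (∑ k, f k) = f 0 + f 1 + f 2 := Fin.sum_univ_three f

def RM (ω : F) : Matrix (ZMod 3) (ZMod 3) F := diagonal fun i => if i = 0 then ω else 1

def FM (ω : F) : Matrix (ZMod 3) (ZMod 3) F := fun i j => (if i = j then 3 else 0) + (ω - 1)

def QM (ω : F) : Matrix (ZMod 3) (ZMod 3) F := fun i j =>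
  if i = 0 then (if j = 0 then 1 + 2 * ω else -2 - ω)
  else if j = 0 then 1 - ω else if i = j then 1 - ω else -2 - ω

theorem comm_eq (h : Om ω) : RM ω * FM ω * RM (ω ^ 2) * FM (ω ^ 2) = (3 : F) • QM ω := by
  ext i j
  simp only [Matrix.mul_apply, sum_three, RM, FM, QM, Matrix.smul_apply, smul_eq_mul, diagonal_apply]
  have hs := h.sum
  rcases ps_cases i with rfl | rfl | rfl <;> rcases ps_cases j with rfl | rfl | rfl <;>
    simp only [diagonal_apply, z3_ne, if_true, if_false, mul_zero, zero_mul, add_zero, zero_add, mul_one, one_mul] <;> grind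

theorem QM_sq (h : Om ω) : QM ω * QM ω = fun i j => if i = -j then -9 else 0 := by
  ext i j
  rw [Matrix.mul_apply, sum_three]
  have hs := h.sum
  simp only [QM]
  rcases ps_cases i with rfl | rfl | rfl <;> rcases ps_cases j with rfl | rfl | rfl <;>
    simp only [z3_ne, if_true, if_false, show (-(0 : ZMod 3)) = 0 from rfl, show (-(1 : ZMod 3)) = 2 from rfl,
      show (-(2 : ZMod 3)) = 1 from rfl] <;> grind

theorem fo_mul_fo (h : Om ω) : fo h * fo h = sc (-1) * (jj : GL (ZMod 3) F) := by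
  refine Units.ext ?_
  ext i j
  have h3 := h.three
  rw [Units.val_mul, coe_sc_mul, Matrix.mul_apply]
  simp only [fo, jj, mono, Matrix.of_apply, Matrix.smul_apply, Units.val_neg, Units.val_one, smul_eq_mul]
  have e : ∀ k : ZMod 3, (ω - ω ^ 2)⁻¹ * ps ω (i * k) * ((ω - ω ^ 2)⁻¹ * ps ω (k * j)) =
      -(3 : F)⁻¹ * ps ω ((i + j) * k) := by
    intro k
    rw [mul_mul_mul_comm, ← mul_inv, ← pow_two, h.ksq, inv_neg, ← ps_add h,
      show i * k + k * j = (i + j) * k by ring]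
  rw [Finset.sum_congr rfl fun k _ => e k, ← Finset.mul_sum, sum_ps h]
  by_cases hij : i = -j
  · rw [if_pos hij, if_pos (by rw [hij, neg_add_cancel])]
    field_simp
  · rw [if_neg hij, if_neg (fun e0 => hij (eq_neg_of_add_eq_zero_left e0))]
    simp

/-- The transvection matrix conjugate to the diagonal one by the Fourier matrix. -/
def rzF (h : Om ω) : GL (ZMod 3) F := fo h * rz h 0 * (fo h)⁻¹

theorem coe_rz_pow (h : Om ω) (e : ℕ) :
    ((rz h 0 ^ e : GL (ZMod 3) F) : Matrix (ZMod 3) (ZMod 3) F) = RM (ω ^ e) := by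
  rw [Units.val_pow_eq_pow_val, rz, RM, diagonal_pow]
  congr 1
  funext i
  simp only [Pi.pow_apply]
  split_ifs <;> simp

theorem coe_rzF_pow (h : Om ω) (e : ℕ) :
    ((rzF h ^ e : GL (ZMod 3) F) : Matrix (ZMod 3) (ZMod 3) F) = (3 : F)⁻¹ • FM (ω ^ e) := by
  rw [rzF, conj_pow, Units.val_mul, Units.val_mul, coe_rz_pow, RM, fo_diag_fo h]
  ext i j
  have h3 := h.three
  simp only [FM, Matrix.smul_apply, Matrix.of_apply, smul_eq_mul]
  split_ifs <;> field_simp <;> ring

theorem rz_cube (h : Om ω) (k : ZMod 3) : rz h k ^ 3 = 1 := by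
  refine Units.ext ?_
  rw [Units.val_pow_eq_pow_val, Units.val_one, rz, diagonal_pow]
  ext i j
  simp [Matrix.diagonal_apply, Matrix.one_apply]
  split_ifs <;> simp [h.cube]

theorem rzF_cube (h : Om ω) : rzF h ^ 3 = 1 := by rw [rzF, conj_pow, rz_cube]; simp

/-- The commutator of the two transvection matrices, of exponent `e`. -/
def qq (h : Om ω) (e : ℕ) : GL (ZMod 3) F :=
  rz h 0 ^ e * rzF h ^ e * (rz h 0 ^ e)⁻¹ * (rzF h ^ e)⁻¹

theorem qq_sq (h : Om ω) {e : ℕ} (he : e = 1 ∨ e = 2) : qq h e * qq h e = sc (-1) * (jj : GL (ZMod 3) F) := by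
  have hi : ∀ g : GL (ZMod 3) F, g ^ 3 = 1 → (g ^ e)⁻¹ = g ^ (2 * e) := fun g hg =>
    inv_eq_of_mul_eq_one_right (by rw [← pow_add, show e + 2 * e = 3 * e by ring, pow_mul, hg, one_pow])
  have ha : Om (ω ^ e) := by
    rcases he with rfl | rfl
    · rwa [pow_one]
    · exact h.sq
  have h2 : ω ^ (2 * e) = (ω ^ e) ^ 2 := by rw [← pow_mul, mul_comm]
  have h3 := h.three
  have hq : ((qq h e : GL (ZMod 3) F) : Matrix (ZMod 3) (ZMod 3) F) = (3 : F)⁻¹ • QM (ω ^ e) := by
    rw [qq, hi _ (rz_cube h 0), hi _ (rzF_cube h), Units.val_mul, Units.val_mul, Units.val_mul, coe_rz_pow,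
      coe_rz_pow, coe_rzF_pow, coe_rzF_pow, h2]
    simp only [Matrix.mul_smul, Matrix.smul_mul]
    rw [comm_eq ha, smul_smul, smul_smul]
    congr 1
    field_simp
  refine Units.ext ?_
  rw [Units.val_mul, hq, coe_sc_mul, Matrix.mul_smul, Matrix.smul_mul, smul_smul, QM_sq ha]
  ext i j
  have h9 : (3 : F)⁻¹ * 3⁻¹ * 9 = 1 := by rw [show (9 : F) = 3 * 3 by norm_num]; field_simp
  show (3 : F)⁻¹ * 3⁻¹ * (if i = -j then (-9 : F) else 0) = _
  simp only [Matrix.smul_apply, jj, mono, smul_eq_mul, Units.val_neg, Units.val_one]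
  split_ifs
  · linear_combination -h9
  · simp

theorem pe_swap (h : Om ω) (v : W4) : sw * pe h v * sw⁻¹ = pe h v.swap := by
  have e : ∀ g : GL (ZMod 3) F, (sw : GL I9 F) * lf g * sw⁻¹ = rf g := fun g => by
    rw [lf_apply, sw_inv]
    calc (sw : GL I9 F) * (sw * rf g * sw) * sw = sw * sw * rf g * (sw * sw) := by group
      _ = _ := by rw [sw_mul_sw, one_mul, mul_one]
  calc sw * pe h v * sw⁻¹ = (sw * lf (gpm h v.1) * sw⁻¹) * (sw * rf (gpm h v.2) * sw⁻¹) := by rw [pe]; group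
    _ = rf (gpm h v.1) * lf (gpm h v.2) := by rw [e, ← lf_apply]
    _ = _ := (lf_rf_comm _ _).symm

/-- The controlled phase. -/
def cp (h : Om ω) : GL I9 F := gbd fun x => gpm h (0, x)

/-- The linear map of the controlled phase. -/
def cpL (v : W4) : W4 := ((v.1.1, v.1.2 + v.2.1), (v.2.1, v.2.2 + v.1.1))

theorem rf_apply_apply (g : GL (ZMod 3) F) (i j : I9) :
    (rf g : Matrix I9 I9 F) i j = if i.1 = j.1 then (g : Matrix (ZMod 3) (ZMod 3) F) i.2 j.2 else 0 := rfl

theorem coe_pe (h : Om ω) (v : W4) :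
    (pe h v : Matrix I9 I9 F) =
      mono (fun j => (j.1 + v.1.1, j.2 + v.2.1)) (fun j => ps ω (v.1.2 * j.1) * ps ω (v.2.2 * j.2)) := by
  ext ⟨i, a⟩ ⟨j, b⟩
  rw [pe, Units.val_mul, Matrix.mul_apply, Finset.sum_eq_single (j, a)]
  · simp only [coe_lf, rf_apply_apply, coe_gpm, pm, mono, Prod.mk.injEq]
    split_ifs <;> simp_all
  · rintro ⟨x, y⟩ _ hne
    simp only [coe_lf, rf_apply_apply]
    split_ifs <;> simp_all
  · simp

theorem coe_cp (h : Om ω) : (cp h : Matrix I9 I9 F) = mono id fun j => ps ω (j.1 * j.2) := by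
  ext ⟨i, a⟩ ⟨j, b⟩
  simp [cp, bd, coe_gpm, pm, mono, Prod.ext_iff]
  split_ifs <;> simp_all

theorem cp_conj (h : Om ω) (v : W4) : cp h * pe h v * (cp h)⁻¹ =
    sc (ou h (v.1.1 * v.2.1)) * pe h (cpL v) := by
  rw [mul_inv_eq_iff_eq_mul]
  refine Units.ext ?_
  rw [Units.val_mul, Units.val_mul, coe_sc_mul, coe_pe, coe_pe, coe_cp, mono_mul, smul_mul_assoc, mono_mul]
  ext i j
  simp only [mono, Matrix.smul_apply, Function.comp_apply, id, cpL, ou, Units.val_mk0, smul_eq_mul]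
  split_ifs
  · rw [← ps_add h, ← ps_add h, ← ps_add h, ← ps_add h, ← ps_add h]
    ring_nf
  · rw [mul_zero]

theorem trace_pe (h : Om ω) {v : W4} (hv : v ≠ 0) : (pe h v : Matrix I9 I9 F).trace = 0 := by
  rw [coe_pe]
  simp only [Matrix.trace, Matrix.diag, mono]
  by_cases ha : v.1.1 = 0 ∧ v.2.1 = 0
  · obtain ⟨⟨a, b⟩, c, d⟩ := v
    obtain ⟨rfl, rfl⟩ : a = 0 ∧ c = 0 := ha
    simp only [add_zero, Prod.mk.eta, if_true]
    rw [Fintype.sum_prod_type]
    simp only [← Finset.mul_sum, ← Finset.sum_mul]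
    have hs : ∀ k : ZMod 3, k ≠ 0 → ∑ x : ZMod 3, ps ω (k * x) = 0 := by
      intro k hk
      rw [show (∑ x : ZMod 3, ps ω (k * x)) = ps ω (k * 0) + ps ω (k * 1) + ps ω (k * 2) from Fin.sum_univ_three _,
        mul_zero, mul_one, ps_zero]
      rcases ps_cases k with rfl | rfl | rfl
      · exact absurd rfl hk
      · rw [one_mul, ps_one, ps_two]; linear_combination h.sum
      · rw [show (2 : ZMod 3) * 2 = 1 from rfl, ps_one, ps_two]; linear_combination h.sum
    rcases eq_or_ne b 0 with rfl | hb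
    · rw [hs d (by rintro rfl; exact hv rfl), mul_zero]
    · rw [hs b hb, zero_mul]
  · refine Finset.sum_eq_zero fun x _ => if_neg fun e => ha ?_
    rw [Prod.ext_iff] at e
    exact ⟨by linear_combination -e.1, by linear_combination -e.2⟩

theorem pe_eq_sc {h : Om ω} {v : W4} {c : Fˣ} (e : pe h v = sc c) : v = 0 := by
  by_contra hv
  have := trace_pe h hv
  rw [e, coe_sc, Matrix.trace_smul, Matrix.trace_one, smul_eq_mul] at this
  have h9 : ((Fintype.card I9 : ℕ) : F) = 3 * 3 := by norm_num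
  rw [h9] at this
  exact mul_ne_zero c.ne_zero (mul_ne_zero h.three h.three) this

end CfsgLib.NineSymp
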