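import Cfsg.Agent.Lib.NineSymp.Kernel

/-!
The involutions of the two-qutrit normaliser.
-/

set_option autoImplicit false
set_option linter.unusedSectionVars false
set_option linter.unusedSimpArgs false
set_option linter.flexible false
set_option linter.style.haveILetI false

namespace CfsgLib.NineSymp

open Matrix

variable {F : Type*} [Field F] {ω : F}

/-- The inversion of both coordinates. -/
def invAll : GL I9 F := lf jj * rf jj

theorem lf_jj_sq : (lf jj : GL I9 F) * lf jj = 1 := by rw [← map_mul, jj_mul_jj, map_one]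

theorem rf_jj_sq : (rf jj : GL I9 F) * rf jj = 1 := by rw [← map_mul, jj_mul_jj, map_one]

theorem invAll_sq : (invAll : GL I9 F) * invAll = 1 := by
  calc (lf jj : GL I9 F) * rf jj * (lf jj * rf jj) = lf jj * (rf jj * lf jj) * rf jj := by group
    _ = lf jj * lf jj * (rf jj * rf jj) := by rw [← lf_rf_comm]; group
    _ = _ := by rw [lf_jj_sq, rf_jj_sq, one_mul]

theorem invAll_inv : (invAll : GL I9 F)⁻¹ = invAll := inv_eq_of_mul_eq_one_right invAll_sq

theorem trace_jj : ((jj : GL (ZMod 3) F) : Matrix (ZMod 3) (ZMod 3) F).trace = 1 := by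
  rw [Matrix.trace, sum_three]
  simp [jj, Matrix.diag, mono, show (-(1 : ZMod 3)) = 2 from rfl, show (-(2 : ZMod 3)) = 1 from rfl, z3_ne]

theorem trace_lf_rf (a b : GL (ZMod 3) F) :
    ((lf a * rf b : GL I9 F) : Matrix I9 I9 F).trace =
      (a : Matrix (ZMod 3) (ZMod 3) F).trace * (b : Matrix (ZMod 3) (ZMod 3) F).trace := by
  simp only [Units.val_mul, Matrix.trace, Matrix.diag, Matrix.mul_apply, coe_lf, rf_apply_apply,
    Fintype.sum_prod_type, sum_three, z3_ne, if_true, if_false, mul_zero, zero_mul, add_zero, zero_add]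
  ring

theorem eq_one_of_conj (h : Om ω) {g : GL I9 F} {c : Fˣ} (e : g * lf jj * g⁻¹ = sc c * lf jj) : c = 1 := by
  have h1 := congrArg (fun x : GL I9 F => (x : Matrix I9 I9 F).trace) e
  simp only [Units.val_mul, Matrix.trace_units_conj, coe_sc, Matrix.smul_mul, one_mul, Matrix.trace_smul, trace_lf,
    trace_jj, mul_one, smul_eq_mul] at h1
  exact Units.ext (mul_right_cancel₀ h.three (by rw [Units.val_one, one_mul]; exact h1.symm))

/-- The two inversions are not conjugate, even up to a scalar. -/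
theorem not_conj (g : GL I9 F) (c : Fˣ) : g * lf jj * g⁻¹ ≠ sc c * invAll := by
  intro e
  haveI : Nonempty I9 := ⟨0⟩
  have hc2 : c * c = 1 := sc_injective (F := F) (ι := I9) (by
    have h1 : g * lf jj * g⁻¹ * (g * lf jj * g⁻¹) = 1 := by
      calc g * lf jj * g⁻¹ * (g * lf jj * g⁻¹) = g * (lf jj * lf jj) * g⁻¹ := by group
        _ = 1 := by rw [lf_jj_sq]; group
    rw [e, sc_mul_mul, invAll_sq, mul_one] at h1
    rw [h1, sc_one])
  have h1 := congrArg (fun x : GL I9 F => (x : Matrix I9 I9 F).trace) e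
  simp only [invAll] at h1
  rw [Units.val_mul, Units.val_mul, Matrix.trace_units_conj, coe_sc_mul, Matrix.trace_smul, trace_lf_rf, trace_lf,
    trace_jj, mul_one, mul_one, smul_eq_mul, mul_one] at h1
  have hc2' : (c : F) * (c : F) = 1 := by rw [← Units.val_mul, hc2, Units.val_one]
  have h8 : (2 : F) = 0 := by
    have : (2 : F) ^ 3 = 0 := by linear_combination hc2' + ((c : F) + 3) * h1
    exact (pow_eq_zero_iff (by norm_num)).1 this
  have hc1 : c = 1 := Units.ext (by rw [Units.val_one]; linear_combination -h1 + h8)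
  subst hc1
  rw [sc_one, one_mul] at e
  have e' : g * lf jj = invAll * g := by rw [← e]; group
  have hT : ((lf jj : GL I9 F) : Matrix I9 I9 F) =
      mono (((Equiv.neg (ZMod 3)).prodCongr (Equiv.refl (ZMod 3)) : I9 ≃ I9) : I9 → I9) fun _ => 1 :=
    coe_lf_perm (Equiv.neg (ZMod 3)) jj rfl
  have hS : ((invAll : GL I9 F) : Matrix I9 I9 F) = mono ((Equiv.neg I9 : I9 ≃ I9) : I9 → I9) fun _ => 1 := by
    have hR : ((rf jj : GL I9 F) : Matrix I9 I9 F) = mono (fun j : I9 => (j.1, -j.2)) fun _ => 1 := by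
      ext ⟨i, a⟩ ⟨j, b⟩
      simp only [rf_apply_apply, jj, mono, Prod.mk.injEq]
      split_ifs <;> simp_all
    rw [invAll, Units.val_mul, hT, hR, mono_mul, mul_one]
    rfl
  let emb : (Bool × ZMod 3 → F) →ₗ[F] (I9 → F) :=
    { toFun := fun v p => if p.1 = 0 then v (false, p.2) else v (true, p.2)
      map_add' := fun u v => funext fun p => by dsimp only [Pi.add_apply]; split_ifs <;> rfl
      map_smul' := fun a v => funext fun p => by dsimp only [Pi.smul_apply, RingHom.id_apply]; split_ifs <;> rfl }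
  let rep : Fin 5 → I9 := ![(0, 0), (0, 1), (1, 0), (1, 1), (1, 2)]
  let proj : (I9 → F) →ₗ[F] (Fin 5 → F) := LinearMap.funLeft F F rep
  let f := proj.comp ((Matrix.mulVecLin (g : Matrix I9 I9 F)).comp emb)
  have hf : Function.Injective f := by
    rw [injective_iff_map_eq_zero]
    intro v hv
    have ht : ((lf jj : GL I9 F) : Matrix I9 I9 F) *ᵥ emb v = emb v := by
      funext p
      rw [hT, Matrix.mulVec, dotProduct, Finset.sum_eq_single (-p.1, p.2)]
      · simp [mono, emb, neg_eq_zero]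
      · intro q _ hq
        simp only [mono, Equiv.prodCongr_apply, Prod.map, Equiv.neg_apply, Equiv.refl_apply]
        rw [if_neg, zero_mul]
        rintro rfl
        exact hq (by simp)
      · simp
    have hy : ((invAll : GL I9 F) : Matrix I9 I9 F) *ᵥ ((g : Matrix I9 I9 F) *ᵥ emb v) = (g : Matrix I9 I9 F) *ᵥ emb v := by
      rw [Matrix.mulVec_mulVec, ← Units.val_mul, ← e', Units.val_mul, ← Matrix.mulVec_mulVec, ht]
    set y := (g : Matrix I9 I9 F) *ᵥ emb v with hydef
    have hyn : ∀ p, y (-p) = y p := fun p => by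
      have := congrFun hy p
      rw [hS, Matrix.mulVec, dotProduct, Finset.sum_eq_single (-p)] at this
      · simpa [mono] using this
      · intro q _ hq
        simp only [mono, Equiv.neg_apply]
        rw [if_neg, zero_mul]
        rintro rfl
        exact hq (by simp)
      · simp
    have hy0 : ∀ p, y p = 0 := fun p => by
      have hr : (∃ i, rep i = p) ∨ ∃ i, rep i = -p :=
        (show ∀ q : I9, (∃ i : Fin 5, (![(0, 0), (0, 1), (1, 0), (1, 1), (1, 2)] : Fin 5 → I9) i = q) ∨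
          ∃ i : Fin 5, (![(0, 0), (0, 1), (1, 0), (1, 1), (1, 2)] : Fin 5 → I9) i = -q by decide) p
      rcases hr with ⟨i, hi⟩ | ⟨i, hi⟩
      · rw [← hi]; exact congrFun hv i
      · rw [← hyn, ← hi]; exact congrFun hv i
    have he : emb v = 0 := Matrix.mulVec_injective_iff_isUnit.2 g.isUnit (by
      rw [Matrix.mulVec_zero]; exact funext hy0)
    funext ⟨b, a⟩
    cases b
    · simpa [emb] using congrFun he (0, a)
    · simpa [emb, z3_ne] using congrFun he (1, a)
  have := LinearMap.finrank_le_finrank_of_injective hf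
  simp at this

set_option synthInstance.maxSize 2048 in
set_option synthInstance.maxHeartbeats 200000 in
theorem inv_two : ∀ a b : V2, sp a b = sp (1, 0) (0, 1) → a.1 • a + a.2 • b = (1, 0) → b.1 • a + b.2 • b = (0, 1) →
    (a = (1, 0) ∧ b = (0, 1)) ∨ (a = (-1, 0) ∧ b = (0, -1)) := by decide +kernel

variable {h : Om ω}

theorem mv_invAll (h : Om ω) (v : W4) : (sys9 h).Mv invAll v (-v) :=
  (mv_lf h (mv_jj h v.1) (-v.2)).mul (mv_rf h (mv_jj h v.2) v.1)

theorem invAll_mem (h : Om ω) : invAll ∈ N9 h := Sys.mem_norm fun v => ⟨_, mv_invAll h v⟩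

theorem mv_zero (h : Om ω) (g : GL I9 F) : (sys9 h).Mv g 0 0 := ⟨1, by
  show g * pe h 0 * g⁻¹ = sc 1 * pe h 0
  rw [pe_zero, sc_one]; group⟩

/-- A scalar multiple of a member of square one is scalar. -/
theorem scalar_of_sq {x : GL I9 F} {c : Fˣ} {w : W4} (e : x = sc c * pe h w) (hx : x * x = 1) : x = sc c := by
  obtain ⟨d, hd⟩ := (sys9 h).op_add w w
  rw [e, sc_mul_mul, show pe h w * pe h w = sc d * pe h (w + w) from hd, ← mul_assoc, sc_mul] at hx
  have h2 : w + w = 0 := (sys9 h).eq_zero_of_sc (c := (c * c * d)⁻¹) (by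
    show pe h (w + w) = _
    rw [← sc_inv]; exact eq_inv_of_mul_eq_one_right hx)
  have hw : w = 0 := by
    have h3 := (sys9 h).three_nsmul_eq w
    rwa [succ_nsmul, two_nsmul, h2, zero_add] at h3
  rw [e, hw, pe_zero, mul_one]

theorem neg_fix : ∀ z : V2, z + z = 0 → z = 0 := by decide

namespace Ctx

variable (K : Ctx h)

theorem move_pair {v u : W4} (hvu : sp4 v u = 1) :
    ∃ k ∈ K.X, k ∈ N9 h ∧ (sys9 h).Mv k ((0, 1), 0) v ∧ (sys9 h).Mv k ((1, 0), 0) u := by
  have hv : v ≠ 0 := by rintro rfl; exact one_ne_zero (hvu.symm.trans (by simp [sp4, sp]))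
  obtain ⟨k1, hk1, hk1N, hm1⟩ := K.move hv
  obtain ⟨⟨⟨a, b⟩, z⟩, hu'⟩ := ((N9 h).inv_mem hk1N).1 u
  have hform : sp4 ((0, 1), 0) ((a, b), z) = sp4 v u := Sys.Mv.form_eq hm1.inv hu'
  obtain rfl : a = 1 := by rw [hvu] at hform; simpa [sp4, sp] using hform
  -- clear the second factor
  have hz : ∃ k ∈ K.X, k ∈ N9 h ∧ (sys9 h).Mv k ((0, 1), 0) ((0, 1), 0) ∧
      ∀ y, (sys9 h).Mv k ((1, y), 0) ((1, y), z) := by
    by_cases hz0 : z = 0
    · exact ⟨1, K.X.one_mem, (N9 h).one_mem, Sys.mv_one _, fun y => hz0 ▸ Sys.mv_one _⟩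
    obtain ⟨a, k, c, l, e⟩ := wL_trans_two z hz0
    have hw : w3 h a k c l ∈ N3 h := w3_mem h (CfsgLib.NineSymp.fo_mem h) (CfsgLib.NineSymp.rz_mem h) a k c l
    have h01 := mv_w3 h a k c l (0, 1)
    rw [e] at h01
    have hz3 : (sys3 h).Mv (w3 h a k c l) 0 0 := ⟨1, by
      show _ * gpm h 0 * _ = sc 1 * gpm h 0
      rw [gpm_zero, sc_one]; group⟩
    refine ⟨rf (w3 h a k c l) * cp h * (rf (w3 h a k c l))⁻¹,
      K.X.mul_mem (K.X.mul_mem (K.rf_norm hw) K.cp_mem) (K.X.inv_mem (K.rf_norm hw)),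
      (N9 h).mul_mem ((N9 h).mul_mem (rf_mem h hw) (CfsgLib.NineSymp.cp_mem h)) ((N9 h).inv_mem (rf_mem h hw)), ?_, fun y => ?_⟩
    · have s1 := (mv_rf h hz3 ((0, 1) : V2)).inv
      have s2 : (sys9 h).Mv (cp h) ((0, 1), 0) ((0, 1), 0) := by simpa [cpL, Prod.mk_zero_zero, show ((0, 0) : V2) = 0 from rfl] using mv_cp h ((0, 1), 0)
      exact ((mv_rf h hz3 (0, 1)).mul s2).mul s1
    · have s1 := (mv_rf h hz3 ((1, y) : V2)).inv
      have s2 : (sys9 h).Mv (cp h) ((1, y), 0) ((1, y), (0, 1)) := by simpa [cpL] using mv_cp h ((1, y), 0)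
      exact ((mv_rf h h01 (1, y)).mul s2).mul s1
  obtain ⟨k2, hk2, hk2N, hk2e, hk2y⟩ := hz
  have hit : ∀ (n : ℕ), rzL^[n] (0, 1) = (0, 1) ∧ rzL^[n] (1, 0) = (1, (n : ZMod 3)) := by
    intro n
    induction n with
    | zero => simp
    | succ n ih =>
      rw [Function.iterate_succ_apply', Function.iterate_succ_apply', ih.1, ih.2]
      simp [rzL]
  have hr : rz h 0 ^ b.val ∈ N3 h := (N3 h).pow_mem (CfsgLib.NineSymp.rz_mem h) _
  refine ⟨k1 * k2 * lf (rz h 0 ^ b.val), K.X.mul_mem (K.X.mul_mem hk1 hk2) (K.lf_norm hr),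
    (N9 h).mul_mem ((N9 h).mul_mem hk1N hk2N) (lf_mem h hr), ?_, ?_⟩
  · refine (hm1.mul hk2e).mul ?_
    have := mv_lf h (Sys.Mv.iterate (mv_rz h) b.val (0, 1)) 0
    rwa [(hit b.val).1] at this
  · have h5 : (sys9 h).Mv k1 ((1, b), z) u := by simpa using hu'.inv
    refine (h5.mul (hk2y b)).mul ?_
    have := mv_lf h (Sys.Mv.iterate (mv_rz h) b.val (1, 0)) 0
    rwa [(hit b.val).2, ZMod.natCast_zmod_val] at this

/-- An involution of the normaliser is a conjugate of one of the two inversions, up to a scalar. -/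
theorem inv_cases {x : GL I9 F} (hx : x ∈ N9 h) (hx2 : x * x = 1) (hns : ∀ c, x ≠ sc c) :
    (∃ k ∈ K.X, k ∈ N9 h ∧ ∃ c, x = sc c * (k * lf jj * k⁻¹)) ∨
      ∃ k ∈ K.X, k ∈ N9 h ∧ ∃ c, x = sc c * (k * invAll * k⁻¹) := by
  have hLL : ∀ v, (sys9 h).act x ((sys9 h).act x v) = v := fun v => by
    rw [← Sys.act_mul hx hx, hx2]; exact Sys.act_eq (Sys.mv_one v)
  by_cases hfix : ∃ v, v ≠ 0 ∧ (sys9 h).act x v = v
  · left
    obtain ⟨v, hv, hxv⟩ := hfix
    obtain ⟨w, hw⟩ := sp4_nondeg hv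
    set u : W4 := -(w + (sys9 h).act x w) with hu
    have hxu : (sys9 h).Mv x u u := by
      have h1 := ((Sys.mv_act hx w).add (Sys.mv_act hx ((sys9 h).act x w)))
      rw [hLL, add_comm ((sys9 h).act x w)] at h1
      have h2 := (mv_zero h x).sub h1
      rwa [zero_sub, ← hu] at h2
    have hvm : (sys9 h).Mv x v v := by
      have := Sys.mv_act hx v
      rwa [hxv] at this
    have hvu : sp4 v u = 1 := by
      have e2 : sp4 v ((sys9 h).act x w) = 1 := by rw [← hw]; exact Sys.Mv.form_eq hvm (Sys.mv_act hx w)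
      have : sp4 v u = -(sp4 v w + sp4 v ((sys9 h).act x w)) := by simp [hu, sp4, sp]; ring
      rw [this, hw, e2]; rfl
    obtain ⟨k, hk, hkN, hke, hku⟩ := K.move_pair hvu
    set y := k⁻¹ * x * k with hy
    have hyN : y ∈ N9 h := (N9 h).mul_mem ((N9 h).mul_mem ((N9 h).inv_mem hkN) hx) hkN
    have hy2 : y * y = 1 := by
      rw [hy, show k⁻¹ * x * k * (k⁻¹ * x * k) = k⁻¹ * (x * x) * k by group, hx2]; group
    have hye : (sys9 h).Mv y ((0, 1), 0) ((0, 1), 0) := (hke.inv.mul hvm).mul hke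
    have hyu : (sys9 h).Mv y ((1, 0), 0) ((1, 0), 0) := (hku.inv.mul hxu).mul hku
    have hsec : ∀ z : V2, ∃ z', (sys9 h).Mv y (0, z) (0, z') := by
      intro z
      obtain ⟨⟨⟨a, b⟩, z'⟩, hz⟩ := hyN.1 (0, z)
      have e1 : sp4 ((0, 1), 0) ((a, b), z') = sp4 ((0, 1), 0) (0, z) := Sys.Mv.form_eq hye hz
      have e2 : sp4 ((1, 0), 0) ((a, b), z') = sp4 ((1, 0), 0) (0, z) := Sys.Mv.form_eq hyu hz
      obtain rfl : a = 0 := by simpa [sp4, sp] using e1
      obtain rfl : b = 0 := by simpa [sp4, sp] using e2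
      exact ⟨z', hz⟩
    choose M hM using hsec
    let f : V2 →+ V2 := AddMonoidHom.mk' M fun z z' => by
      have := (hM z).add (hM z')
      rw [show (((0, z) : W4) + (0, z')) = (0, z + z') from Prod.ext (zero_add _) rfl,
        show (((0, M z) : W4) + (0, M z')) = (0, M z + M z') from Prod.ext (zero_add _) rfl] at this
      exact congrArg Prod.snd ((hM (z + z')).unique this)
    have hlin : ∀ z : V2, M z = z.1 • M (1, 0) + z.2 • M (0, 1) := by
      intro z
      show f z = z.1 • f (1, 0) + z.2 • f (0, 1)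
      rw [← ZMod.map_smul, ← ZMod.map_smul, ← map_add]
      congr 1
      ext <;> simp
    have hMM : ∀ z, M (M z) = z := fun z => by
      have h1 := (hM (M z)).mul (hM z)
      rw [hy2] at h1
      exact congrArg Prod.snd (h1.unique (Sys.mv_one (S := sys9 h) _))
    have hsp : sp (M (1, 0)) (M (0, 1)) = sp (1, 0) (0, 1) := by
      have := Sys.Mv.form_eq (hM (1, 0)) (hM (0, 1))
      simpa [sp4, sp] using this
    have hall : ∀ (c : W4 → W4), (∀ v, c v = (v.1, c (0, v.2) |>.2)) →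
        (∀ z, M z = (c (0, z)).2) → ∀ v, (sys9 h).Mv y v (c v) := by
      intro c hc hcM v
      obtain ⟨⟨a, b⟩, z⟩ := v
      have p : ∀ e : W4, (sys9 h).Mv y e e → ∀ n : ZMod 3, (sys9 h).Mv y (n • e) (n • e) := fun e he n => by
        rcases ps_cases n with rfl | rfl | rfl
        · simpa using mv_zero h y
        · simpa using he
        · rw [show (2 : ZMod 3) = 1 + 1 from rfl, add_smul, one_smul]; exact he.add he
      have := ((p _ hyu a).add (p _ hye b)).add (hM z)
      rw [hc ((a, b), z), ← hcM]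
      simpa [Prod.smul_mk] using this
    rcases inv_two (M (1, 0)) (M (0, 1)) hsp (by rw [← hlin]; exact hMM _) (by rw [← hlin]; exact hMM _) with
      ⟨ha, hb⟩ | ⟨ha, hb⟩
    · exfalso
      have hMid : ∀ z, M z = z := fun z => by rw [hlin, ha, hb]; ext <;> simp
      have hid : ∀ v, (sys9 h).Mv y v v := fun v => hall id (fun v => rfl) (fun z => hMid z) v
      obtain ⟨c, w', hcw⟩ := Sys.eq_of_fix hid
      refine hns c ?_
      calc x = k * y * k⁻¹ := by rw [hy]; group
        _ = k * sc c * k⁻¹ := by rw [scalar_of_sq hcw hy2]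
        _ = sc c := by rw [← sc_comm]; group
    · have hMneg : ∀ z, M z = -z := fun z => by rw [hlin, ha, hb]; ext <;> simp
      have hneg : ∀ v, (sys9 h).Mv y v (v.1, -v.2) := fun v =>
        hall (fun v => (v.1, -v.2)) (fun v => rfl) (fun z => hMneg z) v
      have hr2 : ∀ v, (sys9 h).Mv (rf jj * y) v v := fun v => by
        have := (mv_rf h (mv_jj h (-v.2)) v.1).mul (hneg v)
        rwa [neg_neg] at this
      obtain ⟨c, ⟨w1, w2⟩, hcw⟩ := Sys.eq_of_fix hr2
      have hyeq : y = sc c * (rf jj * pe h (w1, w2)) := by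
        calc y = rf jj * rf jj * y := by rw [rf_jj_sq, one_mul]
          _ = _ := by rw [mul_assoc, show rf jj * y = sc c * pe h (w1, w2) from hcw, ← mul_assoc, ← sc_comm, mul_assoc]
      obtain ⟨d, hd⟩ := mv_rf h (mv_jj h w2) w1
      obtain ⟨d', hd'⟩ := (sys9 h).op_add (w1, -w2) (w1, w2)
      have hrinv : (rf jj : GL I9 F)⁻¹ = rf jj := inv_eq_of_mul_eq_one_right rf_jj_sq
      have hsq : y * y = sc (c * c * (d * d')) * pe h ((w1, -w2) + (w1, w2)) := by
        rw [hyeq, sc_mul_mul, show rf jj * pe h (w1, w2) * (rf jj * pe h (w1, w2)) =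
          rf jj * pe h (w1, w2) * (rf jj)⁻¹ * pe h (w1, w2) by rw [hrinv]; group,
          show rf jj * pe h (w1, w2) * (rf jj)⁻¹ = _ from hd, mul_assoc (sc d),
          show pe h (w1, -w2) * pe h (w1, w2) = _ from hd', ← mul_assoc, ← mul_assoc, sc_mul, sc_mul,
          mul_assoc (c * c)]
      have hw1 : w1 = 0 := by
        rw [hy2] at hsq
        have h0 : ((w1, -w2) + (w1, w2) : W4) = 0 := (sys9 h).eq_zero_of_sc (c := (c * c * (d * d'))⁻¹) (by
          show pe h _ = _
          rw [← sc_inv]; exact eq_inv_of_mul_eq_one_right hsq.symm)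
        exact neg_fix w1 (congrArg Prod.fst h0)
      subst hw1
      obtain ⟨d1, hd1⟩ := mv_rf h (mv_jj h w2) 0
      obtain ⟨d2, hd2⟩ := Sys.op_mul_inv (S := sys9 h) (0, -w2) (0, w2)
      refine ⟨k * pe h (0, w2) * sw, K.X.mul_mem (K.X.mul_mem hk (K.pe_mem _)) K.sw_mem,
        (N9 h).mul_mem ((N9 h).mul_mem hkN (Sys.op_mem_norm (S := sys9 h) _)) (CfsgLib.NineSymp.sw_mem h),
        c * (d1 * d2)⁻¹, ?_⟩
      have key : rf jj * (pe h (0, w2)) = sc (d1 * d2)⁻¹ * (pe h (0, w2) * rf jj * (pe h (0, w2))⁻¹) := by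
        have e1 : pe h (0, w2) * rf jj * (pe h (0, w2))⁻¹ = rf jj * (sc d1 * pe h (0, -w2)) * (pe h (0, w2))⁻¹ := by
          rw [← show rf jj * pe h (0, w2) * (rf jj)⁻¹ = sc d1 * pe h (0, -w2) from hd1, hrinv]
          calc pe h (0, w2) * rf jj * (pe h (0, w2))⁻¹ = (1 : GL I9 F) * pe h (0, w2) * rf jj * (pe h (0, w2))⁻¹ := by
                rw [one_mul]
            _ = _ := by rw [← rf_jj_sq]; group
        have e2 : ((0, -w2) - (0, w2) : W4) = (0, w2) := by
          ext <;> simp <;> exact (show ∀ x : ZMod 3, -x - x = x by decide) _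
        rw [e1, mul_assoc (rf jj), mul_assoc (sc d1), show pe h (0, -w2) * (pe h (0, w2))⁻¹ = _ from hd2, e2,
          ← mul_assoc (sc d1), sc_mul, ← mul_assoc (rf jj) (sc _), ← sc_comm, mul_assoc, ← mul_assoc, sc_mul,
          inv_mul_cancel, sc_one, one_mul]
      calc x = k * y * k⁻¹ := by rw [hy]; group
        _ = k * (sc c * sc (d1 * d2)⁻¹ * (pe h (0, w2) * (sw * lf jj * sw⁻¹) * (pe h (0, w2))⁻¹)) * k⁻¹ := by
          rw [hyeq, key, swap_lf, mul_assoc (sc c)]
        _ = _ := by rw [sc_mul, sc_conj]; group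
  · right
    push Not at hfix
    have hneg : ∀ v, (sys9 h).act x v = -v := by
      intro v
      refine eq_neg_of_add_eq_zero_right ?_
      by_contra hne
      refine hfix _ hne ?_
      rw [Sys.act_add hx, hLL, add_comm]
    have hid : ∀ v, (sys9 h).Mv (invAll * x) v v := fun v => by
      have := (mv_invAll h (-v)).mul (by have := Sys.mv_act hx v; rwa [hneg] at this)
      rwa [neg_neg] at this
    obtain ⟨c, w, hcw⟩ := Sys.eq_of_fix hid
    have hxe : x = sc c * (invAll * pe h w) := by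
      calc x = invAll * invAll * x := by rw [invAll_sq, one_mul]
        _ = _ := by rw [mul_assoc, show invAll * x = sc c * pe h w from hcw, ← mul_assoc, ← sc_comm, mul_assoc]
    obtain ⟨d1, hd1⟩ := mv_invAll h w
    obtain ⟨d2, hd2⟩ := Sys.op_mul_inv (S := sys9 h) (-w) w
    refine ⟨pe h w, K.pe_mem _, Sys.op_mem_norm (S := sys9 h) _, c * (d1 * d2)⁻¹, ?_⟩
    have e1 : pe h w * invAll * (pe h w)⁻¹ = invAll * (sc d1 * pe h (-w)) * (pe h w)⁻¹ := by
      rw [← show invAll * pe h w * invAll⁻¹ = sc d1 * pe h (-w) from hd1, invAll_inv]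
      calc pe h w * invAll * (pe h w)⁻¹ = (1 : GL I9 F) * pe h w * invAll * (pe h w)⁻¹ := by rw [one_mul]
        _ = _ := by rw [← invAll_sq]; group
    have e2 : (-w - w : W4) = w := by
      ext <;> simp <;> exact (show ∀ x : ZMod 3, -x - x = x by decide) _
    rw [hxe, e1, mul_assoc invAll, mul_assoc (sc d1), show pe h (-w) * (pe h w)⁻¹ = _ from hd2, e2,
      ← mul_assoc (sc d1), sc_mul, ← mul_assoc invAll (sc _), ← sc_comm, mul_assoc (sc (d1 * d2)), ← mul_assoc,
      ← mul_assoc, sc_mul, inv_mul_cancel_right, mul_assoc]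

end Ctx

end CfsgLib.NineSymp
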