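import Cfsg.Agent.Lib.NineSymp.Phi
import Cfsg.Agent.Lib.Solvable.CoprimeGeneration

/-!
The kernel of the small representation lies in the normaliser.
-/

set_option autoImplicit false
set_option linter.unusedSectionVars false
set_option linter.unusedSimpArgs false
set_option linter.flexible false
set_option linter.style.haveILetI false

namespace CfsgLib.NineSymp

open Matrix

variable {F : Type*} [Field F] {ω : F}

/-- The projective group. -/
abbrev PG9 (F : Type*) [Field F] : Type _ := GL I9 F ⧸ Cfsg.Geo.scalars I9 F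

/-- The projection. -/
abbrev pj : GL I9 F →* PG9 F := QuotientGroup.mk' (Cfsg.Geo.scalars I9 F)

theorem pj_eq_one {g : GL I9 F} (e : pj g = 1) : ∃ c, g = sc c := by
  obtain ⟨c, hc⟩ := (QuotientGroup.eq_one_iff g).1 e
  exact ⟨c, hc.symm⟩

theorem pj_sc (c : Fˣ) : pj (sc c : GL I9 F) = 1 := (QuotientGroup.eq_one_iff _).2 (sc_mem c)

theorem exists_of_pj_eq {g k : GL I9 F} (e : pj g = pj k) : ∃ c, g = sc c * k := by
  obtain ⟨c, hc⟩ := pj_eq_one (g := g * k⁻¹) (by rw [map_mul, map_inv, e, mul_inv_cancel])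
  exact ⟨c, by rw [← hc]; group⟩

theorem mem_of_pj_mem {H : Subgroup (GL I9 F)} (hH : ∀ c, sc c ∈ H) {g : GL I9 F} (hg : pj g ∈ H.map pj) : g ∈ H := by
  obtain ⟨k, hk, e⟩ := hg
  obtain ⟨c, rfl⟩ := exists_of_pj_eq e.symm
  exact H.mul_mem (hH c) hk

theorem rf_injective : Function.Injective (rf (F := F)) := fun a b e => congrFun (gbd_injective e) 0

theorem lf_injective : Function.Injective (lf (F := F)) := fun a b e =>
  rf_injective (by rw [← swap_lf, ← swap_lf, e])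

theorem eq_zero_of_neg : ∀ z : V2, -z = z → z = 0 := by decide

theorem axis_ne : ((0, (0, 1)) : W4) ≠ 0 := by decide

variable (h : Om ω)

/-- A matrix commuting with all members on the second coordinate acts on the first. -/
theorem exists_lf {n : GL I9 F} (hn : ∀ w, n * rf (gpm h w) = rf (gpm h w) * n) : ∃ α, n = lf α := by
  set u := sw * n * sw⁻¹ with hu
  have hu' : ∀ w, u * lf (gpm h w) = lf (gpm h w) * u := fun w => by
    rw [← swap_rf, hu]
    calc sw * n * sw⁻¹ * (sw * rf (gpm h w) * sw⁻¹) = sw * (n * rf (gpm h w)) * sw⁻¹ := by group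
      _ = _ := by rw [hn]; group
  obtain ⟨g, hg⟩ := exists_blocks h (g := u) (by rw [← (lf_rf_eq (h := h) (0, 1)).1]; exact hu' (0, 1))
  refine ⟨g 0, ?_⟩
  have hconst : g = fun _ => g 0 := by
    funext x
    have e : gbd (fun y => g (y - x)) = gbd g := by
      rw [← shift_conj h, ← hg, ← hu' (x, 0), mul_inv_cancel_right]
    simpa using (congrFun (gbd_injective e) x).symm
  rw [← swap_rf, rf_apply, ← hconst, ← hg, hu, sw_inv]
  calc n = (sw * sw) * n * (sw * sw) := by rw [sw_mul_sw, one_mul, mul_one]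
    _ = _ := by group

theorem trace_lf (g : GL (ZMod 3) F) :
    (lf g : Matrix I9 I9 F).trace = 3 * (g : Matrix (ZMod 3) (ZMod 3) F).trace := by
  simp only [Matrix.trace, Matrix.diag, Fintype.sum_prod_type, coe_lf, if_true, sum_three]
  ring

/-- The lifted transvection is not conjugate to its inverse, even up to a scalar. -/
theorem tau_not_inv (g : GL I9 F) (c : Fˣ) : g * lf (rz h 0) * g⁻¹ ≠ sc c * (lf (rz h 0))⁻¹ := by
  intro e
  haveI : Nonempty I9 := ⟨0⟩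
  have hinv : (lf (rz h 0) : GL I9 F)⁻¹ = lf (rz h 0 ^ 2) := by
    refine inv_eq_of_mul_eq_one_right ?_
    rw [← map_mul, ← pow_succ', rz_cube, map_one]
  obtain ⟨k, rfl⟩ : ∃ k, c = ou h k := exists_ou h (sc_injective (F := F) (ι := I9) (by
    have h3 : (g * lf (rz h 0) * g⁻¹) ^ 3 = 1 := by rw [conj_pow, ← map_pow, rz_cube, map_one]; group
    rw [e, Commute.mul_pow (sc_comm c _), hinv, ← map_pow, ← pow_mul, show 2 * 3 = 3 * 2 by rfl, pow_mul,
      rz_cube, one_pow, map_one, mul_one] at h3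
    rw [show (sc (c ^ 3) : GL I9 F) = sc c ^ 3 from map_pow _ _ _, h3, sc_one]))
  have h3 := h.three
  have htr := congrArg (fun x : GL I9 F => (x : Matrix I9 I9 F).trace) e
  simp only [Units.val_mul, Matrix.trace_units_conj, hinv, coe_sc, Matrix.smul_mul, one_mul, Matrix.trace_smul,
    smul_eq_mul, trace_lf] at htr
  rw [coe_rz_pow, RM, show (rz h 0 : Matrix (ZMod 3) (ZMod 3) F) = diagonal fun i => if i = 0 then ω else 1 from rfl,
    Matrix.trace_diagonal, Matrix.trace_diagonal, sum_three, sum_three] at htr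
  simp only [z3_ne, if_true, if_false, ou, Units.val_mk0] at htr
  have hs := h.sum
  rcases ps_cases k with rfl | rfl | rfl
  · rw [ps_zero] at htr
    have : (ω - ω ^ 2) * 3 = 0 := by linear_combination htr
    rcases mul_eq_zero.1 this with h1 | h1
    · exact h.kne h1
    · exact h3 h1
  · rw [ps_one] at htr
    have : (1 - ω) * 3 = 0 := by linear_combination htr + (3 * ω - 3) * hs
    rcases mul_eq_zero.1 this with h1 | h1
    · exact h.ne_one (sub_eq_zero.1 h1).symm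
    · exact h3 h1
  · -- the fixed vector would be lost
    have e' : g * lf (rz h 0) = sc (ou h 2) * lf (rz h 0 ^ 2) * g := by rw [← hinv, ← e]; group
    have hz : ∀ i : I9, (g : Matrix I9 I9 F) i (1, 0) = 0 := by
      intro i
      have e2 := congrArg (fun x : GL I9 F => (x : Matrix I9 I9 F) i (1, 0)) e'
      have hA : ∀ e : ℕ, ((lf (rz h 0 ^ e) : GL I9 F) : Matrix I9 I9 F) =
          diagonal fun j => if j.1 = 0 then ω ^ e else 1 := by
        intro e
        ext a b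
        rw [coe_lf, coe_rz_pow, RM, Matrix.diagonal_apply, Matrix.diagonal_apply]
        by_cases h1 : a.1 = b.1 <;> by_cases h2 : a.2 = b.2 <;> simp [h1, h2, Prod.ext_iff]
      have hA1 := hA 1
      rw [pow_one] at hA1
      simp only [Units.val_mul, coe_sc, Matrix.smul_mul, one_mul, Matrix.smul_apply, smul_eq_mul, hA, hA1,
        Matrix.mul_diagonal, Matrix.diagonal_mul, z3_ne, if_false, mul_one, ou, Units.val_mk0, ps_two] at e2
      split_ifs at e2
      · exact (mul_eq_zero.1 (show (1 - ω) * (g : Matrix I9 I9 F) i (1, 0) = 0 by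
          linear_combination e2 + (g : Matrix I9 I9 F) i (1, 0) * ω * h.cube)).resolve_left
          (fun h1 => h.ne_one (sub_eq_zero.1 h1).symm)
      · exact (mul_eq_zero.1 (show (1 - ω ^ 2) * (g : Matrix I9 I9 F) i (1, 0) = 0 by
          linear_combination e2)).resolve_left
          (fun h1 => h.sq.ne_one (sub_eq_zero.1 h1).symm)
    have hone : (((g⁻¹ : GL I9 F) : Matrix I9 I9 F) * (g : Matrix I9 I9 F)) (1, 0) (1, 0) = 1 := by
      rw [Units.inv_mul, Matrix.one_apply_eq]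
    rw [Matrix.mul_apply, Finset.sum_eq_zero fun i _ => by rw [hz, mul_zero]] at hone
    exact zero_ne_one hone

/-- The linear map of a member of the one-qutrit normaliser, as a matrix. -/
noncomputable def actMat (h : Om ω) (α : GL (ZMod 3) F) : Matrix (Fin 2) (Fin 2) (ZMod 3) :=
  !![((sys3 h).act α (1, 0)).1, ((sys3 h).act α (0, 1)).1; ((sys3 h).act α (1, 0)).2, ((sys3 h).act α (0, 1)).2]

theorem act_linear {α : GL (ZMod 3) F} (hα : α ∈ N3 h) (v : V2) :
    (sys3 h).act α v = v.1 • (sys3 h).act α (1, 0) + v.2 • (sys3 h).act α (0, 1) := by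
  let f : V2 →+ V2 := AddMonoidHom.mk' (fun v => (sys3 h).act α v) (Sys.act_add hα)
  show f v = v.1 • f (1, 0) + v.2 • f (0, 1)
  rw [← ZMod.map_smul, ← ZMod.map_smul, ← map_add]
  congr 1
  ext <;> simp

theorem actMat_one : actMat h 1 = 1 := by
  rw [actMat, Sys.act_eq (Sys.mv_one (S := sys3 h) _), Sys.act_eq (Sys.mv_one (S := sys3 h) _)]
  ext i j
  fin_cases i <;> fin_cases j <;> rfl

theorem actMat_mul {α β : GL (ZMod 3) F} (hα : α ∈ N3 h) (hβ : β ∈ N3 h) :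
    actMat h (α * β) = actMat h α * actMat h β := by
  rw [actMat, actMat, actMat, Sys.act_mul hα hβ, Sys.act_mul hα hβ,
    act_linear h hα ((sys3 h).act β (1, 0)), act_linear h hα ((sys3 h).act β (0, 1))]
  ext i j
  fin_cases i <;> fin_cases j <;> simp [Matrix.mul_apply, Fin.sum_univ_two] <;> ring

theorem actMat_eq_one {α : GL (ZMod 3) F} (hα : α ∈ N3 h) (hj : α * jj = jj * α) :
    actMat h α = 1 ↔ ∃ c, α = sc c := by
  constructor
  · intro e
    have e00 := congrFun (congrFun e 0) 0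
    have e10 := congrFun (congrFun e 1) 0
    have e01 := congrFun (congrFun e 0) 1
    have e11 := congrFun (congrFun e 1) 1
    simp [actMat] at e00 e10 e01 e11
    have hx : (sys3 h).act α (1, 0) = (1, 0) := Prod.ext e00 e10
    have hy : (sys3 h).act α (0, 1) = (0, 1) := Prod.ext e01 e11
    have m1 := Sys.mv_act (S := sys3 h) hα (1, 0)
    have m2 := Sys.mv_act (S := sys3 h) hα (0, 1)
    rw [hx] at m1
    rw [hy] at m2
    obtain ⟨c, u, hcu⟩ := Sys.eq_of_fix (S := sys3 h) (mv_of_basis h m1 m2)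
    have hju : jj * (sc c * gpm h u) * jj⁻¹ = sc c * gpm h u := by
      rw [mul_inv_eq_iff_eq_mul, ← show α = sc c * gpm h u from hcu]
      exact hj.symm
    rw [sc_conj, jj_conj] at hju
    have hu : u = 0 := eq_zero_of_neg u ((sys3 h).op_ne_sc_mul (c := 1) (by
      rw [sc_one, one_mul]; exact mul_left_cancel hju))
    refine ⟨c, ?_⟩
    rw [show α = sc c * gpm h u from hcu, hu, gpm_zero, mul_one]
  · rintro ⟨c, rfl⟩
    rw [actMat, Sys.act_eq (Sys.mv_sc (S := sys3 h) c _), Sys.act_eq (Sys.mv_sc (S := sys3 h) c _)]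
    ext i j; fin_cases i <;> fin_cases j <;> rfl

namespace Ctx

variable {h} (K : Ctx h)

/-- The members commuting with the inversion whose small representation is scalar. -/
noncomputable def kphi : Subgroup (GL I9 F) :=
  (((Cfsg.Geo.scalars (ZMod 3) F).comap phi).map (cjj (F := F)).subtype) ⊓ K.X

theorem mem_kphi {g : GL I9 F} :
    g ∈ K.kphi ↔ g ∈ K.X ∧ ∃ (hg : g ∈ cjj (F := F)), ∃ c, phi ⟨g, hg⟩ = sc c := by
  constructor
  · rintro ⟨⟨⟨k, hk⟩, ⟨c, hc⟩, rfl⟩, hX⟩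
    exact ⟨hX, hk, c, hc.symm⟩
  · rintro ⟨hX, hg, c, hc⟩
    exact ⟨⟨⟨g, hg⟩, ⟨c, hc.symm⟩, rfl⟩, hX⟩

theorem kphi_conj {g n : GL I9 F} (hgX : g ∈ K.X) (hg : g ∈ cjj (F := F)) (hn : n ∈ K.kphi) :
    g * n * g⁻¹ ∈ K.kphi := by
  obtain ⟨hX, hn', c, hc⟩ := K.mem_kphi.1 hn
  refine K.mem_kphi.2 ⟨K.X.mul_mem (K.X.mul_mem hgX hX) (K.X.inv_mem hgX),
    cjj.mul_mem (cjj.mul_mem hg hn') (cjj.inv_mem hg), c, ?_⟩
  rw [show (⟨g * n * g⁻¹, cjj.mul_mem (cjj.mul_mem hg hn') (cjj.inv_mem hg)⟩ : cjj (F := F)) =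
    ⟨g, hg⟩ * ⟨n, hn'⟩ * ⟨g, hg⟩⁻¹ from rfl, map_mul, map_mul, map_inv, hc, ← sc_comm, mul_inv_cancel_right]

theorem sc_mem_kphi (c : Fˣ) : sc c ∈ K.kphi :=
  K.mem_kphi.2 ⟨K.sc_mem c, mem_cjj.2 (sc_comm c _), c, phi_sc c _⟩

/-- A member commuting with the inversion keeps the second factor. -/
theorem second_factor {n : GL I9 F} (hn : n ∈ N9 h) (hn' : n ∈ cjj (F := F)) (w : V2) :
    ∃ c v, n * pe h (0, w) * n⁻¹ = sc c * pe h (0, v) := by
  obtain ⟨⟨v1, v2⟩, c, hc⟩ := hn.1 (0, w)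
  have ht : (sys9 h).Mv (lf jj) (0, w) (-(0 : V2), w) := mv_lf h (mv_jj h 0) w
  rw [neg_zero] at ht
  have hjn : ∀ u, (sys9 h).Mv (lf jj) (0, w) u → u = (0, w) := fun u hu => hu.unique ht
  have h1 : (sys9 h).Mv (n * lf jj) (0, w) (v1, v2) := Sys.Mv.mul ⟨c, hc⟩ ht
  rw [mem_cjj.1 hn'] at h1
  have h2 : (sys9 h).Mv (lf jj * n) (0, w) (-v1, v2) := Sys.Mv.mul (mv_lf h (mv_jj h v1) v2) ⟨c, hc⟩
  have e : v1 = -v1 := congrArg Prod.fst (h1.unique h2)
  have hv1 : v1 = 0 := (show ∀ z : V2, z = -z → z = 0 by decide) v1 e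
  subst hv1
  exact ⟨c, v2, hc⟩

theorem phi_pe (w : V2) (hw : pe h (0, w) ∈ cjj (F := F)) : phi ⟨pe h (0, w), hw⟩ = gpm h w := by
  have e : (⟨pe h (0, w), hw⟩ : cjj (F := F)) = ⟨rf (gpm h w), rf_mem_cjj _⟩ :=
    Subtype.ext (lf_rf_eq w).2.symm
  rw [e, phi_rf]

theorem pe_mem_cjj (w : V2) : pe h (0, w) ∈ cjj (F := F) := by
  rw [← (lf_rf_eq w).2]; exact rf_mem_cjj _

theorem kphi_fix {n : GL I9 F} (hn : n ∈ K.kphi) (hnN : n ∈ N9 h) :
    ∃ α, α ∈ N3 h ∧ α * jj = jj * α ∧ n = lf α := by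
  haveI : Nonempty (ZMod 3) := ⟨0⟩
  obtain ⟨-, hn', d, hd⟩ := K.mem_kphi.1 hn
  have hfix : ∀ w, n * pe h (0, w) * n⁻¹ = pe h (0, w) := by
    intro w
    obtain ⟨c, v, hc⟩ := second_factor hnN hn' w
    have e : (⟨n, hn'⟩ * ⟨pe h (0, w), pe_mem_cjj w⟩ * ⟨n, hn'⟩⁻¹ : cjj (F := F)) =
        ⟨sc c, mem_cjj.2 (sc_comm c _)⟩ * ⟨pe h (0, v), pe_mem_cjj v⟩ := Subtype.ext hc
    have e2 := congrArg phi e
    simp only [map_mul, map_inv, phi_pe, phi_sc, hd] at e2
    rw [sc_comm d, mul_inv_cancel_right] at e2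
    have hwv : w = v := (sys3 h).op_ne_sc_mul e2
    subst hwv
    have hc1 : (sc c : GL (ZMod 3) F) = 1 := mul_right_cancel (b := gpm h w) (by rw [one_mul]; exact e2.symm)
    rw [hc, show c = 1 from sc_injective (hc1.trans sc_one.symm), sc_one, one_mul]
  obtain ⟨α, rfl⟩ := exists_lf h (n := n) fun w => by
    rw [(lf_rf_eq (h := h) w).2, ← mul_inv_eq_iff_eq_mul]; exact hfix w
  refine ⟨α, Sys.mem_norm fun v => ?_, lf_injective (by rw [map_mul, map_mul]; exact mem_cjj.1 hn'), rfl⟩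
  obtain ⟨⟨v1, v2⟩, c, hc⟩ := hnN.1 (v, 0)
  have hv2 : v2 = 0 := by
    have hf : ∀ u, sp4 ((v1, v2) : W4) (0, u) = sp4 ((v, 0) : W4) (0, u) := fun u =>
      Sys.Mv.form_eq (S := sys9 h) ⟨c, hc⟩ ⟨1, by rw [sc_one, one_mul]; exact hfix u⟩
    refine (show ∀ z : V2, (∀ u, sp z u = 0) → z = 0 by decide) v2 fun u => ?_
    simpa [sp4, sp] using hf u
  subst hv2
  refine ⟨v1, c, lf_injective ?_⟩
  rw [map_mul, map_mul, map_inv, map_mul, lf_sc, (lf_rf_eq (h := h) v).1, (lf_rf_eq (h := h) v1).1]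
  exact hc

/-- The elements of order three in the kernel form a group of order at most three modulo scalars. -/
theorem card_pgroup_kphi [Finite F] {P : Subgroup (PG9 F)} (hP : IsPGroup 3 P) (hle : P ≤ K.kphi.map pj)
    (hN : P ≤ (N9 h).map pj) : Nat.card P ≤ 3 := by
  haveI : Fact (Nat.Prime 3) := ⟨Nat.prime_three⟩
  haveI : Nonempty (ZMod 3) := ⟨0⟩
  let A : Subgroup (GL (ZMod 3) F) := (P.comap (pj.comp lf)) ⊓ N3 h ⊓ Subgroup.centralizer {jj}
  let ψ₀ : A →* Matrix (Fin 2) (Fin 2) (ZMod 3) :=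
    { toFun := fun α => actMat h α
      map_one' := actMat_one h
      map_mul' := fun α β => actMat_mul h α.2.1.2 β.2.1.2 }
  let f : A →* PG9 F := (pj.comp lf).comp A.subtype
  have hrange : f.range = P := by
    refine le_antisymm (by rintro _ ⟨α, rfl⟩; exact α.2.1.1) fun y hy => ?_
    obtain ⟨n, hn, rfl⟩ := hle hy
    have hnN : n ∈ N9 h := mem_of_pj_mem (fun c => Sys.sc_mem_norm (S := sys9 h) c) (hN hy)
    obtain ⟨α, hα, hαj, rfl⟩ := K.kphi_fix hn hnN
    exact ⟨⟨α, ⟨hy, hα⟩, Subgroup.mem_centralizer_singleton_iff.2 hαj⟩, rfl⟩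
  have hker : f.ker = ψ₀.toHomUnits.ker := by
    ext α
    rw [MonoidHom.mem_ker, MonoidHom.mem_ker]
    have hiff := actMat_eq_one h (α := (α : GL (ZMod 3) F)) α.2.1.2
      (Subgroup.mem_centralizer_singleton_iff.1 α.2.2)
    constructor
    · intro e
      obtain ⟨c, hc⟩ := pj_eq_one (g := lf (α : GL (ZMod 3) F)) e
      exact Units.ext (hiff.2 ⟨c, lf_injective (by rw [hc, lf_sc])⟩)
    · intro e
      obtain ⟨c, hc⟩ := hiff.1 (congrArg Units.val e)
      show pj (lf (α : GL (ZMod 3) F)) = 1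
      rw [hc, lf_sc, pj_sc]
  have hdvd : Nat.card P ∣ 48 := by
    rw [← hrange, ← Subgroup.index_ker, hker, Subgroup.index_ker]
    refine dvd_trans (Subgroup.card_subgroup_dvd_card _) (dvd_of_eq ?_)
    rw [show Nat.card (Matrix (Fin 2) (Fin 2) (ZMod 3))ˣ = Nat.card (GL (Fin 2) (ZMod 3)) from rfl,
      Matrix.card_GL_field]
    simp [Fin.prod_univ_two]
  obtain ⟨m, hm⟩ := IsPGroup.iff_card.1 hP
  rw [hm] at hdvd ⊢
  rcases Nat.lt_or_ge m 2 with hlt | hge
  · interval_cases m <;> norm_num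
  · exact absurd ((pow_dvd_pow 3 hge).trans hdvd) (by norm_num)

/-- Three-groups modulo scalars through a non-zero member lie in the normaliser. -/
theorem pj_pgroup_le [Finite F] {S : Subgroup (PG9 F)} (hS : S ≤ K.X.map pj) (hp : IsPGroup 3 S) {a : W4}
    (ha : a ≠ 0) (haS : pj (pe h a) ∈ S) : S ≤ (N9 h).map pj := by
  haveI : Fact (Nat.Prime 3) := ⟨Nat.prime_three⟩
  haveI : Group.IsNilpotent S := hp.isNilpotent
  set T := ((N9 h).map pj).subgroupOf S
  by_contra hne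
  have hlt : T < ⊤ := lt_top_iff_ne_top.2 fun e => hne fun s hs => by
    have : (⟨s, hs⟩ : S) ∈ T := by rw [e]; trivial
    exact this
  obtain ⟨g, hg, hgT⟩ := SetLike.exists_of_lt (Group.normalizerCondition_of_isNilpotent T hlt)
  obtain ⟨g0, hg0, hg0e⟩ := hS g.2
  have hm : (g : PG9 F) * pj (pe h a) * (g : PG9 F)⁻¹ ∈ (N9 h).map pj :=
    (Subgroup.mem_normalizer_iff.1 hg ⟨pj (pe h a), haS⟩).1
      (show pj (pe h a) ∈ (N9 h).map pj from ⟨_, Sys.op_mem_norm (S := sys9 h) a, rfl⟩)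
  rw [← hg0e, ← map_inv, ← map_mul, ← map_mul] at hm
  refine hgT (show (g : PG9 F) ∈ (N9 h).map pj from ⟨g0, K.fusion hg0 ha ?_, hg0e⟩)
  exact mem_of_pj_mem (fun c => Sys.sc_mem_norm (S := sys9 h) c) hm

/-- The kernel of the small representation lies in the normaliser. -/
theorem kphi_le [Finite F] : K.kphi ≤ N9 h := by
  haveI : Fact (Nat.Prime 3) := ⟨Nat.prime_three⟩
  haveI : Nonempty I9 := ⟨0⟩
  let N := K.kphi.map pj
  let W2 : Subgroup (PG9 F) := ((⊤ : Subgroup (GL (ZMod 3) F)) ⊓ (N3 h)).map (pj.comp rf)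
  set τ : PG9 F := pj (lf (rz h 0)) with hτdef
  have hcjjrz : lf (rz h 0) ∈ cjj (F := F) := mem_cjj.2 (by
    rw [← map_mul, ← map_mul]
    congr 1
    refine Units.ext ?_
    ext i j
    simp only [Units.val_mul, rz, jj, Matrix.diagonal_mul, Matrix.mul_diagonal, mono]
    by_cases hij : i = -j
    · subst hij
      simp [neg_eq_zero, mul_comm]
    · simp [hij])
  have hτK : lf (rz h 0) ∈ K.kphi :=
    K.mem_kphi.2 ⟨K.lf_norm (CfsgLib.NineSymp.rz_mem h), hcjjrz, phi_lf hcjjrz⟩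
  have hτN : τ ∈ N := ⟨_, hτK, rfl⟩
  have hτne : τ ≠ 1 := by
    intro e
    obtain ⟨c, hc⟩ := pj_eq_one e
    have e1 : rz h 0 = sc c := lf_injective (by rw [hc, lf_sc])
    have e00 := congrArg (fun x : GL (ZMod 3) F => (x : Matrix (ZMod 3) (ZMod 3) F) 0 0) e1
    have e11 := congrArg (fun x : GL (ZMod 3) F => (x : Matrix (ZMod 3) (ZMod 3) F) 1 1) e1
    simp [rz, coe_sc, z3_ne] at e00 e11
    exact h.ne_one (e00.trans e11.symm)
  have hτ3 : orderOf τ = 3 := orderOf_eq_prime (by rw [hτdef, ← map_pow, ← map_pow, rz_cube, map_one, map_one]) hτne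
  have hτpow : τ ^ 3 = 1 := by rw [hτdef, ← map_pow, ← map_pow, rz_cube, map_one, map_one]
  set b : PG9 F := pj (pe h (0, (0, 1))) with hbdef
  have hb3 : b ^ 3 = 1 := by rw [hbdef, ← map_pow, pe_cube, map_one]
  have hbτ : Commute b τ := by
    show b * τ = τ * b
    rw [hbdef, hτdef, ← map_mul, ← map_mul, ← (lf_rf_eq (h := h) (0, 1)).2, lf_rf_comm]
  -- a Sylow subgroup of the extension by the second factor
  let Q : Subgroup (PG9 F) := (K.X ⊓ cjj).map pj
  have hNQ : N ≤ Q := Subgroup.map_mono fun g hg => by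
    obtain ⟨hX, hc, -⟩ := K.mem_kphi.1 hg
    exact ⟨hX, hc⟩
  have hNnorm : ∀ q ∈ Q, ∀ n ∈ N, q * n * q⁻¹ ∈ N := by
    rintro _ ⟨q, ⟨hqX, hqc⟩, rfl⟩ _ ⟨n, hn, rfl⟩
    exact ⟨q * n * q⁻¹, K.kphi_conj hqX hqc hn, by rw [map_mul, map_mul, map_inv]⟩
  have hbQ : b ∈ Q := ⟨_, ⟨K.pe_mem _, pe_mem_cjj _⟩, rfl⟩
  let R0 : Subgroup (PG9 F) := Subgroup.zpowers b ⊔ Subgroup.zpowers τ
  have hR0Q : R0 ≤ Q := sup_le (Subgroup.zpowers_le.2 hbQ) (Subgroup.zpowers_le.2 (hNQ hτN))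
  have hR0 : IsPGroup 3 R0 := by
    have hz : ∀ z : PG9 F, z ^ 3 = 1 → IsPGroup 3 (Subgroup.zpowers z) := by
      rintro z hz ⟨w, k, rfl⟩
      exact ⟨1, Subtype.ext (by show (z ^ k) ^ (3 ^ 1) = 1; rw [pow_one, ← zpow_natCast, ← _root_.zpow_mul, mul_comm,
        _root_.zpow_mul, zpow_natCast, hz, _root_.one_zpow])⟩
    refine (hz b hb3).to_sup_of_normal_right' (hz τ hτpow) ?_
    rw [Subgroup.zpowers_le]
    refine Subgroup.mem_normalizer_iff.2 fun x => ?_
    constructor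
    · rintro ⟨k, rfl⟩
      exact ⟨k, by rw [(hbτ.zpow_right k).eq, mul_inv_cancel_right]⟩
    · rintro ⟨k, hk⟩
      refine ⟨k, ?_⟩
      have : x = b⁻¹ * (b * x * b⁻¹) * b := by group
      rw [this, ← hk, (hbτ.zpow_right k).inv_left.eq, inv_mul_cancel_right]
  obtain ⟨R, hR⟩ := (hR0.comap_of_injective Q.subtype Subtype.coe_injective).exists_le_sylow
  let R1 : Subgroup (PG9 F) := (R : Subgroup Q).map Q.subtype
  have hR1p : IsPGroup 3 R1 := R.2.map _
  have hR01 : R0 ≤ R1 := fun x hx => ⟨⟨x, hR0Q hx⟩, hR hx, rfl⟩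
  have hR1N : R1 ≤ (N9 h).map pj := by
    refine K.pj_pgroup_le ?_ hR1p (a := (0, (0, 1))) axis_ne (hR01 (Subgroup.mem_sup_left (Subgroup.mem_zpowers b)))
    rintro _ ⟨x, -, rfl⟩
    obtain ⟨g, hg, e⟩ := x.2
    exact ⟨g, hg.1, e⟩
  let P1 : Subgroup (PG9 F) := R1 ⊓ N
  have hP1p : IsPGroup 3 P1 := hR1p.to_le inf_le_left
  have hP1le : Nat.card P1 ≤ 3 := K.card_pgroup_kphi hP1p inf_le_right (inf_le_left.trans hR1N)
  have hzle : Subgroup.zpowers τ ≤ P1 := le_inf ((le_sup_right).trans hR01) (Subgroup.zpowers_le.2 hτN)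
  have hP1 : Subgroup.zpowers τ = P1 :=
    Subgroup.eq_of_le_of_card_ge hzle (by rw [Nat.card_zpowers, hτ3]; exact hP1le)
  -- it is a Sylow subgroup of the kernel
  let Z : Subgroup N := (Subgroup.zpowers τ).subgroupOf N
  have hZcard : Nat.card Z = 3 := by
    rw [Nat.card_congr (Subgroup.subgroupOfEquivOfLe (Subgroup.zpowers_le.2 hτN)).toEquiv, Nat.card_zpowers, hτ3]
  have hmax : ∀ P : Subgroup N, IsPGroup 3 P → Nat.card P ≤ 3 := by
    intro P hP
    let PQ : Subgroup Q := (P.map N.subtype).subgroupOf Q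
    obtain ⟨R', hR'⟩ := ((hP.map N.subtype).comap_of_injective Q.subtype Subtype.coe_injective).exists_le_sylow
    obtain ⟨q, hq⟩ := MulAction.exists_smul_eq Q R' R
    have hinj : Nat.card P ≤ Nat.card P1 := by
      refine Nat.card_le_card_of_injective (fun x => (⟨(q : PG9 F) * ((x : N) : PG9 F) * (q : PG9 F)⁻¹, ?_, ?_⟩ : P1)) ?_
      · have hx : (⟨((x : N) : PG9 F), hNQ (x : N).2⟩ : Q) ∈ (R' : Subgroup Q) := hR' ⟨(x : N), x.2, rfl⟩
        refine ⟨q * ⟨((x : N) : PG9 F), hNQ (x : N).2⟩ * q⁻¹, ?_, rfl⟩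
        rw [← hq, Sylow.coe_subgroup_smul]
        exact Subgroup.smul_mem_pointwise_smul _ (MulAut.conj q) _ hx
      · exact hNnorm _ q.2 _ (x : N).2
      · intro x y e
        have e' := mul_left_cancel (mul_right_cancel (congrArg Subtype.val e))
        exact Subtype.ext (Subtype.ext e')
    omega
  have hZp : IsPGroup 3 Z := IsPGroup.of_card (n := 1) (by rw [hZcard, pow_one])
  obtain ⟨PS, hPS⟩ := hZp.exists_le_sylow
  have hPSeq : Z = (PS : Subgroup N) :=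
    Subgroup.eq_of_le_of_card_ge hPS (by rw [hZcard]; exact hmax _ PS.2)
  have hτZ : ∀ x : N, x ∈ (PS : Subgroup N) ↔ ∃ k : ℤ, τ ^ k = (x : PG9 F) := fun x => by
    rw [← hPSeq]; exact Subgroup.mem_zpowers_iff
  have hnc : Subgroup.normalizer ((PS : Subgroup N) : Set N) ≤ Subgroup.centralizer (PS : Set N) := by
    intro n hn
    obtain ⟨n0, hn0, hn0e⟩ := n.2
    have hn' := (Subgroup.mem_normalizer_iff.1 hn ⟨τ, hτN⟩).1 ((hτZ _).2 ⟨1, zpow_one τ⟩)
    obtain ⟨k, hk⟩ := (hτZ _).1 hn'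
    have hcomm : (n : PG9 F) * τ = τ * (n : PG9 F) := by
      have hk' : τ ^ k = (n : PG9 F) * τ * (n : PG9 F)⁻¹ := hk
      rw [← zpow_mod_orderOf, hτ3] at hk'
      rcases (by omega : k % 3 = 0 ∨ k % 3 = 1 ∨ k % 3 = 2) with h0 | h1 | h2
      · exfalso
        have h00 : k % ((3 : ℕ) : ℤ) = 0 := by push_cast; exact h0
        rw [h00, zpow_zero] at hk'
        refine hτne ?_
        calc τ = (n : PG9 F)⁻¹ * ((n : PG9 F) * τ * (n : PG9 F)⁻¹) * (n : PG9 F) := by group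
          _ = 1 := by rw [← hk']; group
      · have h00 : k % ((3 : ℕ) : ℤ) = 1 := by push_cast; exact h1
        rw [h00, zpow_one] at hk'
        exact (mul_inv_eq_iff_eq_mul.1 hk'.symm)
      · exfalso
        have h00 : k % ((3 : ℕ) : ℤ) = ((2 : ℕ) : ℤ) := by push_cast; exact h2
        rw [h00, zpow_natCast] at hk'
        have hinv : τ ^ 2 = τ⁻¹ := eq_inv_of_mul_eq_one_left (by rw [← pow_succ]; exact hτpow)
        rw [hinv, hτdef, ← hn0e, ← map_inv pj (lf (rz h 0)), ← map_inv pj n0, ← map_mul, ← map_mul] at hk'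
        obtain ⟨c, hc⟩ := exists_of_pj_eq hk'.symm
        exact tau_not_inv h n0 c hc
    rw [Subgroup.mem_centralizer_iff]
    intro x hx
    obtain ⟨j, hj⟩ := (hτZ x).1 hx
    refine Subtype.ext ?_
    show (x : PG9 F) * n = n * x
    rw [← hj]
    exact ((show Commute (n : PG9 F) τ from hcomm).zpow_right j).eq.symm
  -- the normal complement
  set M := (MonoidHom.transferSylow PS hnc).ker with hMdef
  have hMcop : ¬ 3 ∣ Nat.card M := MonoidHom.not_dvd_card_ker_transferSylow PS hnc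
  have hcompl := MonoidHom.ker_transferSylow_isComplement' PS hnc
  let M1 : Subgroup (PG9 F) := M.map N.subtype
  have hM1card : Nat.card M1 = Nat.card M := Subgroup.card_map_of_injective Subtype.coe_injective
  have hM1 : ∀ n : N, (n : PG9 F) ∈ M1 ↔ n ∈ M := fun n => by
    constructor
    · rintro ⟨m, hm, e⟩
      rwa [← Subtype.ext e]
    · exact fun hn => ⟨n, hn, rfl⟩
  have hchar : ∀ q ∈ Q, ∀ m ∈ M1, q * m * q⁻¹ ∈ M1 := by
    rintro q hq _ ⟨m, hm, rfl⟩
    refine (hM1 ⟨_, hNnorm q hq _ m.2⟩).2 (MonoidHom.mem_ker.2 ?_)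
    set z : N := ⟨_, hNnorm q hq _ m.2⟩
    have hz : z ^ Nat.card M = 1 := by
      have hm' : (⟨m, hm⟩ : M) ^ Nat.card M = 1 := pow_card_eq_one'
      refine Subtype.ext ?_
      show (q * (m : PG9 F) * q⁻¹) ^ Nat.card M = 1
      rw [conj_pow, show (m : PG9 F) ^ Nat.card M = 1 from congrArg (fun u : M => ((u : N) : PG9 F)) hm']
      group
    have h1 : MonoidHom.transferSylow PS hnc z ^ Nat.card M = 1 := by rw [← map_pow, hz, map_one]
    have h2 : MonoidHom.transferSylow PS hnc z ^ 3 = 1 := by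
      have hc : Nat.card (PS : Subgroup N) = 3 :=
        (Nat.card_congr (MulEquiv.subgroupCongr hPSeq).toEquiv).symm.trans hZcard
      exact (congrArg (fun n : ℕ => MonoidHom.transferSylow PS hnc z ^ n) hc).symm.trans pow_card_eq_one'
    have h3 := pow_gcd_eq_one.2 ⟨h1, h2⟩
    rwa [Nat.Coprime.gcd_eq_one ((Nat.prime_three.coprime_iff_not_dvd.2 hMcop).symm), pow_one] at h3
  let ab : Multiplicative V2 →* PG9 F :=
    { toFun := fun w => pj (pe h (0, Multiplicative.toAdd w))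
      map_one' := by rw [toAdd_one, show ((0, 0) : W4) = 0 from rfl, pe_zero, map_one]
      map_mul' := fun v w => by
        rw [← map_mul, pe_mul, map_mul pj (sc _), pj_sc, one_mul]
        congr 2 }
  have hab : Function.Injective ab := fun v w e => by
    obtain ⟨c, hc⟩ := exists_of_pj_eq e
    have := congrArg Prod.snd ((sys9 h).op_ne_sc_mul hc)
    exact Multiplicative.toAdd.injective this
  haveI : IsMulCommutative ab.range :=
    ⟨⟨fun x y => by
      obtain ⟨v, hv⟩ := x.2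
      obtain ⟨w, hw⟩ := y.2
      refine Subtype.ext ?_
      show (x : PG9 F) * y = y * x
      rw [← hv, ← hw, ← map_mul, ← map_mul, mul_comm]⟩⟩
  have hAcard : Nat.card ab.range = 9 := by
    rw [← Nat.card_congr (MonoidHom.ofInjective hab).toEquiv, Nat.card_eq_fintype_card]; rfl
  have hAcyc : ¬ IsCyclic ab.range := by
    intro hc
    obtain ⟨g, hg⟩ := hc.exists_ofOrder_eq_natCard
    obtain ⟨v, hv⟩ := g.2
    have h3 : (g : PG9 F) ^ 3 = 1 := by
      rw [← hv]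
      show (pj (pe h _)) ^ 3 = 1
      rw [← map_pow, pe_cube, map_one]
    have h3' : g ^ 3 = 1 := Subtype.ext h3
    have := Nat.le_of_dvd (by norm_num) (orderOf_dvd_of_pow_eq_one h3')
    omega
  have hAQ : ab.range ≤ Q := by
    rintro _ ⟨v, rfl⟩
    exact ⟨_, ⟨K.pe_mem _, pe_mem_cjj _⟩, rfl⟩
  have hAM : ab.range ≤ Subgroup.normalizer (M1 : Set (PG9 F)) := fun q hq =>
    Subgroup.mem_normalizer_iff.2 fun m => ⟨hchar q (hAQ hq) m, fun hm => by
      have := hchar q⁻¹ (Q.inv_mem (hAQ hq)) _ hm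
      rwa [show q⁻¹ * (q * m * q⁻¹) * q⁻¹⁻¹ = m by group] at this⟩
  have hcop : (Nat.card ab.range).Coprime (Nat.card M1) := by
    rw [hAcard, hM1card, show 9 = 3 ^ 2 by rfl]
    exact (Nat.prime_three.coprime_iff_not_dvd.2 hMcop).pow_left 2
  have hM1le : M1 ≤ (N9 h).map pj := by
    rw [← CfsgLib.CoprimeGeneration.iSup_centralizer_eq ab.range M1 hAcyc hAM hcop]
    refine iSup₂_le fun x hx y hy => ?_
    obtain ⟨⟨v, rfl⟩, hx1⟩ := hx
    obtain ⟨u, -, hu⟩ := hy.1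
    obtain ⟨g, hg, hge⟩ := u.2
    rw [show (N.subtype u : PG9 F) = pj g from hge.symm] at hu
    have hv : Multiplicative.toAdd v ≠ 0 := fun e => hx1 (by
      show pj (pe h (0, Multiplicative.toAdd v)) = 1
      rw [e, show ((0, 0) : W4) = 0 from rfl, pe_zero, map_one])
    have hcm := Subgroup.mem_centralizer_singleton_iff.1 hy.2
    rw [← hu, show ab v = pj (pe h (0, Multiplicative.toAdd v)) from rfl, ← map_mul, ← map_mul] at hcm
    obtain ⟨c, hc⟩ := exists_of_pj_eq hcm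
    have hgX : g ∈ K.X := (K.mem_kphi.1 hg).1
    refine ⟨g, K.mem_of_mv hgX (a := (0, Multiplicative.toAdd v)) (fun e => hv (congrArg Prod.snd e))
      (b := (0, Multiplicative.toAdd v)) ⟨c, ?_⟩, hu⟩
    show g * pe h _ * g⁻¹ = _
    rw [hc]; group
  intro g hg
  refine mem_of_pj_mem (fun c => Sys.sc_mem_norm (S := sys9 h) c) ?_
  have hgN : pj g ∈ N := ⟨g, hg, rfl⟩
  obtain ⟨⟨m, p⟩, hmp⟩ := hcompl.2 ⟨pj g, hgN⟩
  have hp : ((p : N) : PG9 F) ∈ (N9 h).map pj := by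
    obtain ⟨k, hk⟩ := (hτZ p.1).1 p.2
    rw [← hk]
    exact Subgroup.zpow_mem _ (show τ ∈ (N9 h).map pj from ⟨_, lf_mem h (CfsgLib.NineSymp.rz_mem h), rfl⟩) k
  have e : ((m : N) : PG9 F) * ((p : N) : PG9 F) = pj g := congrArg Subtype.val hmp
  rw [← e]
  exact Subgroup.mul_mem _ (hM1le ((hM1 m.1).2 m.2)) hp

/-- The centraliser of the first-coordinate inversion lies in the normaliser. -/
theorem cjj_le [Finite F] {g : GL I9 F} (hgX : g ∈ K.X) (hg : g ∈ cjj (F := F)) : g ∈ N9 h := by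
  have core : ∀ k ∈ K.X, ∀ hk : k ∈ cjj (F := F), (∃ c w, phi ⟨k, hk⟩ * gpm h (0, 1) * (phi ⟨k, hk⟩)⁻¹ =
      sc c * gpm h w) → k ∈ N9 h := by
    rintro k hkX hk ⟨c, w, he⟩
    refine K.fusion hkX (a := (0, (0, 1))) axis_ne ?_
    have hxc : k * pe h (0, (0, 1)) * k⁻¹ ∈ cjj (F := F) := cjj.mul_mem (cjj.mul_mem hk (pe_mem_cjj _)) (cjj.inv_mem hk)
    have hy : k * pe h (0, (0, 1)) * k⁻¹ * (pe h (0, w))⁻¹ ∈ K.kphi := by
      refine K.mem_kphi.2 ⟨K.X.mul_mem (K.X.mul_mem (K.X.mul_mem hkX (K.pe_mem _)) (K.X.inv_mem hkX))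
        (K.X.inv_mem (K.pe_mem _)), cjj.mul_mem hxc (cjj.inv_mem (pe_mem_cjj w)), c, ?_⟩
      rw [show (⟨k * pe h (0, (0, 1)) * k⁻¹ * (pe h (0, w))⁻¹, cjj.mul_mem hxc (cjj.inv_mem (pe_mem_cjj w))⟩ :
        cjj (F := F)) = ⟨k, hk⟩ * ⟨_, pe_mem_cjj (0, 1)⟩ * ⟨k, hk⟩⁻¹ * ⟨_, pe_mem_cjj w⟩⁻¹ from rfl]
      rw [map_mul, map_mul, map_mul, map_inv, map_inv, phi_pe, phi_pe, he, mul_inv_cancel_right]
    have := (N9 h).mul_mem (K.kphi_le hy) (Sys.op_mem_norm (S := sys9 h) (0, w))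
    simpa using this
  let H : Subgroup (GL (ZMod 3) F) := ((K.X.comap (cjj (F := F)).subtype)).map phi
  have hH3 : H ≤ K.G3 := by
    rintro _ ⟨⟨k, hk⟩, hkX, rfl⟩
    obtain ⟨u, hu, hue⟩ := K.mid k hkX (mem_cjj.1 hk)
    rwa [← show u = phi ⟨k, hk⟩ from Units.ext (hue.trans (coe_phi (F := F) ⟨k, hk⟩).symm)]
  have hrf : ∀ {u : GL (ZMod 3) F}, u ∈ N3 h → u ∈ H := fun {u} hu =>
    ⟨⟨rf u, rf_mem_cjj u⟩, K.rf_norm hu, phi_rf u⟩
  rcases K.base H hH3 (fun c => hrf (Sys.sc_mem_norm (S := sys3 h) c)) (fun v => hrf (gpm_mem h v))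
      (hrf (CfsgLib.NineSymp.fo_mem h)) (hrf (CfsgLib.NineSymp.rz_mem h)) with hsm | ⟨h2, hbig⟩
  · obtain ⟨w, c, hw⟩ := (hsm ⟨⟨g, hg⟩, hgX, rfl⟩).1 (0, 1)
    exact core g hgX hg ⟨c, w, hw⟩
  · exfalso
    obtain ⟨⟨d, hd⟩, hdX, hde⟩ := hbig (K.sgn h2)
    have hdN : d ∈ N9 h := by
      refine core d hdX hd ⟨1, (0, 1), ?_⟩
      rw [hde, sc_one, one_mul, mul_inv_eq_iff_eq_mul]
      refine Units.ext ?_
      ext i j
      simp only [Units.val_mul, coe_gpm, pm, dsg, Matrix.diagonal_mul, Matrix.mul_diagonal, mono, add_zero]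
      by_cases hij : i = j
      · subst hij; ring
      · simp [hij]
    refine sign_shift_not_mem (h := h) h2 ((N3 h).mul_mem ((N3 h).mul_mem ?_ (gpm_mem h _)) ((N3 h).inv_mem ?_)) <;>
      (refine Sys.mem_norm fun v => ?_
       obtain ⟨c, u, hu⟩ := second_factor hdN hd v
       have e : (⟨d, hd⟩ * ⟨pe h (0, v), pe_mem_cjj v⟩ * ⟨d, hd⟩⁻¹ : cjj (F := F)) =
           ⟨sc c, mem_cjj.2 (sc_comm c _)⟩ * ⟨pe h (0, u), pe_mem_cjj u⟩ := Subtype.ext hu
       have e2 := congrArg phi e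
       simp only [map_mul, map_inv, phi_pe, phi_sc, hde] at e2
       exact ⟨u, c, e2⟩)

end Ctx

end CfsgLib.NineSymp
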