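import Cfsg.Agent.Lib.NineSymp.Maximal
import Cfsg.Agent.Lib.NineSymp.BaseThree
import Cfsg.Agent.Lib.DimThreeMax.C6Normal
import Cfsg.Agent.Lib.GeomClasses.Basic
import Cfsg.Agent.Lib.Components.SLQuasisimple
import Cfsg.Agent.Classical.SLBasic
import Cfsg.Agent.Classical.SLGen

/-!
The two-qutrit normaliser is maximal in the special linear group over a prime field.
-/

set_option autoImplicit false
set_option linter.unusedSectionVars false
set_option linter.unusedSimpArgs false
set_option linter.flexible false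
set_option linter.style.haveILetI false

namespace CfsgLib.NineSymp

open Matrix
open scoped commutatorElement

variable {F : Type*} [Field F]

theorem isMaximalIn_equiv {G G' : Type*} [Group G] [Group G'] (e : G ≃* G') {K H : Subgroup G}
    (h : Cfsg.Geo.IsMaximalIn K H) : Cfsg.Geo.IsMaximalIn (K.map e.toMonoidHom) (H.map e.toMonoidHom) := by
  have hinj : Function.Injective e.toMonoidHom := e.injective
  refine ⟨lt_of_le_of_ne (Subgroup.map_mono h.1.le) fun heq => h.1.ne (Subgroup.map_injective hinj heq),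
    fun M h1 h2 => ?_⟩
  have h3 : M = (M.comap e.toMonoidHom).map e.toMonoidHom :=
    (Subgroup.map_comap_eq_self_of_surjective e.surjective M).symm
  rcases h.2 (M.comap e.toMonoidHom) (Subgroup.map_le_iff_le_comap.1 h1)
    (by rw [← Subgroup.map_le_map_iff_of_injective hinj, ← h3]; exact h2) with h' | h'
  · exact Or.inl (by rw [h3, h'])
  · exact Or.inr (by rw [h3, h'])

/-- An absolutely irreducible group spans the whole matrix algebra. -/
theorem algOf_top_of_absIrred [Fintype F] {ι : Type} [Fintype ι] [DecidableEq ι] [Nonempty ι]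
    {R : Subgroup (GL ι F)} (hirr : Cfsg.Geo.ActsAbsolutelyIrreducibly (Cfsg.Geo.matrixSet R)) :
    Geo.Asch.algOf R = ⊤ := by
  classical
  have hA : Geo.Asch.Normalized R (Geo.Asch.algOf R) :=
    Geo.Asch.normalized_algOf fun g hg x hx => R.mul_mem (R.mul_mem hg hx) (R.inv_mem hg)
  obtain ⟨a, ha, φ, hφi, hφr⟩ := Geo.Asch.exists_matrix_hom hirr.1 hA (fun z _ hc => by
    obtain ⟨c, rfl⟩ := hirr.2 z (by rintro _ ⟨g, hg, rfl⟩; exact hc _ (Geo.Asch.mem_algOf hg))
    exact Algebra.mem_bot.2 ⟨c, by rw [Algebra.algebraMap_eq_smul_one]⟩)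
  obtain ⟨b, e, P, hb, rfl⟩ := Geo.Asch.exists_tensorEmb φ
  haveI : NeZero b := ⟨by omega⟩
  have hb1 : b = 1 := by
    by_contra hne
    obtain ⟨c, hc⟩ := hirr.2 (Geo.Asch.conjHom P (Matrix.reindexAlgEquiv F F e.symm
        ((1 : Matrix (Fin a) (Fin a) F).kronecker (Matrix.single (0 : Fin b) 0 (1 : F))))) (by
      rintro _ ⟨g, hg, rfl⟩
      show _ * (g : Matrix ι ι F) = (g : Matrix ι ι F) * _
      have hm := Geo.Asch.mem_algOf hg
      rw [← hφr] at hm
      obtain ⟨X, hX⟩ := hm
      rw [← hX]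
      show _ * Geo.Asch.conjHom P (Matrix.reindexAlgEquiv F F e.symm (Matrix.kroneckerMap (fun x y => x * y) X 1)) =
        Geo.Asch.conjHom P (Matrix.reindexAlgEquiv F F e.symm (Matrix.kroneckerMap (fun x y => x * y) X 1)) * _
      rw [← map_mul, ← map_mul (Matrix.reindexAlgEquiv F F e.symm), ← map_mul, ← map_mul (Matrix.reindexAlgEquiv F F e.symm)]
      show Geo.Asch.conjHom P (Matrix.reindexAlgEquiv F F e.symm (Matrix.kroneckerMap (fun x y => x * y) _ _ *
        Matrix.kroneckerMap (fun x y => x * y) _ _)) = Geo.Asch.conjHom P (Matrix.reindexAlgEquiv F F e.symm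
        (Matrix.kroneckerMap (fun x y => x * y) _ _ * Matrix.kroneckerMap (fun x y => x * y) _ _))
      rw [← Matrix.mul_kronecker_mul, ← Matrix.mul_kronecker_mul]
      simp)
    have hc' := congrArg (Geo.Asch.conjHom P⁻¹) hc
    have hcan : ∀ a' : Matrix ι ι F, Geo.Asch.conjHom P⁻¹ (Geo.Asch.conjHom P a') = a' := fun a' => by
      simpa using Geo.Asch.conjHom_cancel P⁻¹ a'
    rw [hcan, map_smul, map_one] at hc'
    have hc'' := congrArg (Matrix.reindexAlgEquiv F F e) hc'
    rw [map_smul, map_one] at hc''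
    have h0 := congrFun (congrFun hc'' (0, 0)) (0, 0)
    have h1 := congrFun (congrFun hc'' (0, ⟨1, by omega⟩)) (0, ⟨1, by omega⟩)
    have h01 : ((0 : Fin b) = ⟨1, by omega⟩) = False := eq_false fun e => by simpa using congrArg Fin.val e
    simp [h01] at h0 h1
    rw [← h0] at h1
    exact one_ne_zero h1.symm
  subst hb1
  have hcard := Fintype.card_congr e
  simp only [Fintype.card_prod, Fintype.card_fin, mul_one] at hcard
  rw [← Algebra.toSubmodule_eq_top, ← hφr]
  apply Submodule.eq_top_of_finrank_eq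
  show Module.finrank F (LinearMap.range (Geo.Asch.tensorEmb a 1 e P).toLinearMap) = _
  rw [LinearMap.finrank_range_of_inj hφi, Module.finrank_matrix, Module.finrank_matrix]
  simp [hcard]

/-- What the normal form needs, in the linear case. -/
theorem linear_facts [Fintype F] {R : Subgroup (GL (Fin 9) F)} (hd : Cfsg.Geo.IsLinearSymplecticTypeData 3 R)
    (e : I9 ≃ Fin 9) :
    let R' := R.comap (Cfsg.Geo.glReindex e).toMonoidHom
    (∀ x ∈ R', x ^ 3 = 1) ∧ (∀ x ∈ R', ∀ y ∈ R', ∃ c, x * y * x⁻¹ * y⁻¹ = sc c) ∧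
      (∀ M : Matrix I9 I9 F, (∀ x ∈ R', M * (x : Matrix I9 I9 F) = (x : Matrix I9 I9 F) * M) → ∃ c : F, M = c • 1) ∧
      Nat.card R' = 243 ∧ Nat.card (Subgroup.center R') = 3 := by
  intro R'
  haveI : Fact (Nat.Prime 3) := ⟨Nat.prime_three⟩
  haveI : Nonempty (Fin 9) := ⟨0⟩
  have hexp' : ∀ x : R, x ^ 3 = 1 := fun x => by
    have h1 := Monoid.pow_exponent_eq_one x
    rwa [hd.symplecticType.exponent_eq] at h1
  obtain ⟨p, k, -, -, hcase⟩ := hd.field
  have hc : Nat.card (Subgroup.center R) = 3 := by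
    rcases hcase with ⟨-, -, hc, -⟩ | ⟨h2, -⟩ | ⟨h2, -⟩
    · exact hc
    · exact absurd h2 (by norm_num)
    · exact absurd h2 (by norm_num)
  have hspan := algOf_top_of_absIrred hd.absIrred
  have hsc : Subgroup.center R = (Cfsg.Geo.scalars (Fin 9) F).subgroupOf R := by
    ext x
    rw [Subgroup.mem_center_iff, Subgroup.mem_subgroupOf]
    exact ⟨fun hx => Geo.Asch.mem_scalars_of_commute hspan fun y hy => congrArg Subtype.val (hx ⟨y, hy⟩).symm,
      fun hx y => Subtype.ext (Geo.Asch.scalars_comm hx _).symm⟩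
  have hcls : ∀ x ∈ R, ∀ y ∈ R, x * y * x⁻¹ * y⁻¹ ∈ Cfsg.Geo.scalars (Fin 9) F := by
    intro x hx y hy
    have h1 : ⁅(⟨x, hx⟩ : R), ⟨y, hy⟩⁆ ∈ Subgroup.center R :=
      DimThreeMax.commutator_le_center_of_symplecticType hd.symplecticType.pGroup hexp'
        hd.symplecticType.cyclic_of_characteristic
        (Subgroup.commutator_mem_commutator (Subgroup.mem_top _) (Subgroup.mem_top _))
    rw [hsc, Subgroup.mem_subgroupOf] at h1
    simpa [commutatorElement_def] using h1
  have hcard : Nat.card R = 243 := by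
    rw [Subgroup.card_eq_card_quotient_mul_card_subgroup ((Cfsg.Geo.scalars (Fin 9) F).subgroupOf R),
      Geo.Asch.card_quotient_eq_sq hspan hcls, ← hsc, hc, Fintype.card_fin]
    norm_num
  let f : R' ≃* R :=
    { toFun := fun x => ⟨Cfsg.Geo.glReindex e x, x.2⟩
      invFun := fun x => ⟨(Cfsg.Geo.glReindex e).symm x, by
        show Cfsg.Geo.glReindex e ((Cfsg.Geo.glReindex e).symm x) ∈ R
        rw [MulEquiv.apply_symm_apply]
        exact x.2⟩
      left_inv := fun x => Subtype.ext (MulEquiv.symm_apply_apply _ _)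
      right_inv := fun x => Subtype.ext (MulEquiv.apply_symm_apply _ _)
      map_mul' := fun x y => Subtype.ext (map_mul _ _ _) }
  refine ⟨fun x hx => (Cfsg.Geo.glReindex e).injective ?_, fun x hx y hy => ?_, fun M hM => ?_, ?_, ?_⟩
  · rw [map_pow, map_one]
    exact congrArg Subtype.val (hexp' ⟨_, hx⟩)
  · obtain ⟨c, hc'⟩ := hcls _ hx _ hy
    refine ⟨c, (Cfsg.Geo.glReindex e).injective ?_⟩
    rw [map_mul, map_mul, map_mul, map_inv, map_inv]
    refine hc'.symm.trans (Units.ext ?_)
    ext i j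
    simp [Cfsg.Geo.glReindex, coe_sc, Matrix.one_apply, Matrix.diagonal_apply]
  · obtain ⟨c, hc'⟩ := hd.absIrred.2 (Matrix.reindexAlgEquiv F F e M) (by
      rintro _ ⟨g, hg, rfl⟩
      have h1 := congrArg (Matrix.reindexAlgEquiv F F e) (hM ((Cfsg.Geo.glReindex e).symm g) (by
        show Cfsg.Geo.glReindex e ((Cfsg.Geo.glReindex e).symm g) ∈ R
        rw [MulEquiv.apply_symm_apply]
        exact hg))
      rw [map_mul, map_mul] at h1
      have h2 : Matrix.reindexAlgEquiv F F e (((Cfsg.Geo.glReindex e).symm g : GL I9 F) : Matrix I9 I9 F) =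
          (g : Matrix (Fin 9) (Fin 9) F) := congrArg Units.val (MulEquiv.apply_symm_apply (Cfsg.Geo.glReindex e) g)
      rwa [h2] at h1)
    exact ⟨c, (Matrix.reindexAlgEquiv F F e).injective (by rw [hc', map_smul, map_one])⟩
  · rw [Nat.card_congr f.toEquiv, hcard]
  · rw [Nat.card_congr (Subgroup.centerCongr f).toEquiv, hc]

variable [Fintype F] {ω : F}

theorem det_one_mem {ι : Type} [Fintype ι] [DecidableEq ι] {g : GL ι F}
    (hg : Matrix.GeneralLinearGroup.det g = 1) : g ∈ Cfsg.Geo.specialLinear ι F := hg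

theorem det_dsg : Matrix.GeneralLinearGroup.det (dsg : GL (ZMod 3) F) = 1 := by
  refine Units.ext ?_
  show (diagonal fun i : ZMod 3 => if i = 0 then (1 : F) else -1).det = 1
  rw [det_diagonal]
  refine (Fin.prod_univ_three (fun i : ZMod 3 => if i = 0 then (1 : F) else -1)).trans ?_
  show (if (0 : ZMod 3) = 0 then (1 : F) else -1) * (if (1 : ZMod 3) = 0 then (1 : F) else -1) *
    (if (2 : ZMod 3) = 0 then (1 : F) else -1) = 1
  simp [z3_ne]

theorem sl_le_commutator {ι : Type} [Fintype ι] [DecidableEq ι] (h3 : 3 ≤ Fintype.card ι) :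
    Cfsg.Geo.specialLinear ι F ≤ ⁅Cfsg.Geo.specialLinear ι F, Cfsg.Geo.specialLinear ι F⁆ := by
  have h1 : (Matrix.SpecialLinearGroup.toGL : SpecialLinearGroup ι F →* GL ι F).range = Cfsg.Geo.specialLinear ι F :=
    Cfsg.Agent.Classical.range_toGL_eq_ker_det
  rw [← h1, MonoidHom.range_eq_map, ← Subgroup.map_commutator,
    show ⁅(⊤ : Subgroup (SpecialLinearGroup ι F)), ⊤⁆ = commutator _ from rfl,
    Cfsg.Agent.Classical.sl_commutator_eq_top h3]

/-- The normal subgroups of the three-dimensional special linear group. -/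
theorem sl3_normal (N : Subgroup (GL (Fin 3) F)) (hN : N ≤ Cfsg.Geo.specialLinear (Fin 3) F)
    (hconj : ∀ s ∈ Cfsg.Geo.specialLinear (Fin 3) F, ∀ n ∈ N, s * n * s⁻¹ ∈ N) :
    (∀ n ∈ N, n ∈ Cfsg.Geo.scalars (Fin 3) F) ∨ Cfsg.Geo.specialLinear (Fin 3) F ≤ N := by
  have hn : (N.subgroupOf (Cfsg.Geo.specialLinear (Fin 3) F)).Normal :=
    ⟨fun n hn s => hconj s s.2 n hn⟩
  rcases CfsgLib.Components.quasisimple_normal_eq_top_or_le_center
      ((CfsgLib.Components.isQuasisimple_congr Cfsg.Agent.Classical.slEquivKerDet).1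
        (CfsgLib.Components39.sl_isQuasisimple (F := F) (n := 3) (by norm_num) (by norm_num)))
      (N.subgroupOf (Cfsg.Geo.specialLinear (Fin 3) F)) (hN := hn) with h | h
  · exact Or.inr (Subgroup.subgroupOf_eq_top.1 h)
  · refine Or.inl fun n hn' => ?_
    have hcen := Subgroup.mem_center_iff.1 (h (show (⟨n, hN hn'⟩ : Cfsg.Geo.specialLinear (Fin 3) F) ∈ _ from hn'))
    have hcomm : ∀ (i j : Fin 3) (hij : i ≠ j) (c : F), Matrix.transvection i j c * n.val =
        n.val * Matrix.transvection i j c := fun i j hij c => by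
      have := hcen ⟨SpecialLinearGroup.toGL (SpecialLinearGroup.transvection hij c),
        GeomClasses.mem_specialLinear.2 (SpecialLinearGroup.transvection hij c).2⟩
      exact congrArg (fun g : Cfsg.Geo.specialLinear (Fin 3) F => g.val.val) this
    obtain ⟨c, hc⟩ := Matrix.mem_range_scalar_of_commute_transvectionStruct (M := n.val) fun t => hcomm _ _ t.hij _
    refine (Cfsg.Geo.mem_scalars_iff _).2 ?_
    have hc0 : c ≠ 0 := fun e => n.ne_zero (by rw [← hc, e, map_zero])
    exact ⟨Units.mk0 c hc0, by rw [← hc, Matrix.scalar_apply, Matrix.smul_one_eq_diagonal]; rfl⟩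

/-- Singles in every block give the special linear group. -/
theorem sl_le_of_singles {h : Om ω} {X : Subgroup (GL I9 F)} (hsw : sw ∈ X)
    (hall : ∀ x, ∀ s ∈ Cfsg.Geo.specialLinear (ZMod 3) F, one1 x s ∈ X) : Cfsg.Geo.specialLinear I9 F ≤ X := by
  have hlf : ∀ s ∈ Cfsg.Geo.specialLinear (ZMod 3) F, lf s ∈ X := fun s hs => by
    rw [← swap_rf]
    refine X.mul_mem (X.mul_mem hsw ?_) (X.inv_mem hsw)
    rw [rf_apply, prod_one1]
    exact X.mul_mem (X.mul_mem (hall 0 s hs) (hall 1 s hs)) (hall 2 s hs)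
  let T : Subgroup (SpecialLinearGroup I9 F) := X.comap SpecialLinearGroup.toGL
  let tr : ∀ {ι : Type} [Fintype ι] [DecidableEq ι] {i j : ι}, i ≠ j → F → GL ι F :=
    fun hij c => SpecialLinearGroup.toGL (SpecialLinearGroup.transvection hij c)
  have htrv : ∀ {ι : Type} [Fintype ι] [DecidableEq ι] {i j : ι} (hij : i ≠ j) (c : F),
      ((tr hij c : GL ι F) : Matrix ι ι F) = Matrix.transvection i j c := fun _ _ => rfl
  have htr : ∀ {i j : ZMod 3} (hij : i ≠ j) (c : F), tr hij c ∈ Cfsg.Geo.specialLinear (ZMod 3) F := fun hij c =>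
    GeomClasses.mem_specialLinear.2 (SpecialLinearGroup.transvection hij c).2
  have hsame : ∀ (x a b : ZMod 3) (hab : a ≠ b) (c : F), tr (show ((x, a) : I9) ≠ (x, b) by simpa using hab) c ∈ X := by
    intro x a b hab c
    convert hall x _ (htr hab c) using 1
    refine Units.ext ?_
    ext ⟨i, u⟩ ⟨j, v⟩
    simp only [one1, coe_gbd, bd, htrv,
      Matrix.transvection, Matrix.add_apply, Matrix.single_apply, Matrix.one_apply, Pi.mulSingle_apply]
    by_cases hij : i = j
    · subst hij
      by_cases hix : i = x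
      · subst hix; simp [htrv, Matrix.transvection, Matrix.add_apply, Matrix.single_apply,
          Matrix.one_apply]
      · simp [hix, Matrix.one_apply, Prod.ext_iff, Ne.symm hix]
    · simp only [hij, if_false, Prod.mk.injEq, false_and, zero_add]
      split_ifs with h1
      · exact absurd (h1.1.1.symm.trans h1.2.1) hij
      · rfl
  have hdiff : ∀ (i j a b : ZMod 3) (hij : i ≠ j) (_ : a ≠ b) (c : F),
      tr (show ((i, a) : I9) ≠ (j, b) by simp [hij]) c ∈ X := by
    intro i j a b hij hab c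
    have hA := hsame i a b hab c
    have hB := hlf _ (htr hij 1)
    have e : tr (show ((i, a) : I9) ≠ (i, b) by simpa using hab) c * lf (tr hij 1) =
        tr (show ((i, a) : I9) ≠ (j, b) by simp [hij]) c * (lf (tr hij 1) * tr (show ((i, a) : I9) ≠ (i, b) by simpa using hab) c) := by
      refine Units.ext ?_
      have hl : (lf (tr hij 1) : Matrix I9 I9 F) = 1 + ∑ y, Matrix.single (i, y) (j, y) 1 := by
        ext ⟨k, u⟩ ⟨l, v⟩
        simp only [coe_lf, htrv, Matrix.transvection,
          Matrix.add_apply, Matrix.sum_apply, Matrix.single_apply, Matrix.one_apply, Prod.mk.injEq]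
        by_cases huv : u = v
        · subst huv
          rw [Finset.sum_eq_single u (fun y _ hy => by simp [hy]) (by simp)]
          simp
        · rw [if_neg huv, Finset.sum_eq_zero fun y _ => if_neg fun e => huv (e.1.2.symm.trans e.2.2)]
          simp [huv]
      simp only [Units.val_mul, htrv, hl]
      show (Matrix.transvection (i, a) (i, b) c) * (1 + ∑ y, Matrix.single (i, y) (j, y) 1) =
        Matrix.transvection (i, a) (j, b) c * ((1 + ∑ y, Matrix.single (i, y) (j, y) 1) * Matrix.transvection (i, a) (i, b) c)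
      set S : Matrix I9 I9 F := ∑ y, Matrix.single (i, y) (j, y) 1 with hS
      set A : Matrix I9 I9 F := Matrix.single (i, a) (i, b) c with hA'
      set C : Matrix I9 I9 F := Matrix.single (i, a) (j, b) c with hC
      have h2 : ∀ (p q r s : I9) (c d : F), q ≠ r → Matrix.single p q c * Matrix.single r s d = 0 :=
        fun p q r s c d hh => Matrix.single_mul_single_of_ne _ _ _ _ hh _
      have eAS : A * S = C := by
        rw [hS, Finset.mul_sum, Finset.sum_eq_single b (fun y _ hy => h2 _ _ _ _ _ _ (by simp [Ne.symm hy])) (by simp)]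
        exact (Matrix.single_mul_single_same ..).trans (by rw [mul_one])
      have eSA : S * A = 0 := by
        rw [hS, Finset.sum_mul]
        exact Finset.sum_eq_zero fun y _ => h2 _ _ _ _ _ _ (by simp [Ne.symm hij])
      have eCS : C * S = 0 := by
        rw [hS, Finset.mul_sum]
        exact Finset.sum_eq_zero fun y _ => h2 _ _ _ _ _ _ (by simp [Ne.symm hij])
      have eCA : C * A = 0 := h2 _ _ _ _ _ _ (by simp [Ne.symm hij])
      simp only [Matrix.transvection, ← hA', ← hC, add_mul, mul_add, one_mul, mul_one, eAS, eSA, eCS, eCA,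
        mul_zero, add_zero]
      abel
    have := X.mul_mem (X.mul_mem hA hB) (X.inv_mem (X.mul_mem hB hA))
    rwa [e, mul_inv_cancel_right] at this
  have hgen : T = ⊤ := by
    refine Cfsg.Agent.Classical.sl_subgroup_eq_top_of_transvection_mem T ?_
    rintro ⟨i, a⟩ ⟨j, b⟩ hne c
    show tr hne c ∈ X
    by_cases hij : i = j
    · subst hij
      exact hsame i a b (fun e => hne (by rw [e])) c
    by_cases hab : a = b
    · subst hab
      have hy : a + 1 ≠ a := by simp
      have hA := hdiff i j a (a + 1) hij (Ne.symm hy) c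
      have hB := hsame j (a + 1) a hy 1
      have e : tr (show ((i, a) : I9) ≠ (j, a + 1) by simp [hij]) c * tr (show ((j, a + 1) : I9) ≠ (j, a) by simpa using hy) 1 =
          tr hne c * (tr (show ((j, a + 1) : I9) ≠ (j, a) by simpa using hy) 1 *
            tr (show ((i, a) : I9) ≠ (j, a + 1) by simp [hij]) c) := by
        refine Units.ext ?_
        show Matrix.transvection (i, a) (j, a + 1) c * Matrix.transvection (j, a + 1) (j, a) 1 =
          Matrix.transvection (i, a) (j, a) c * (Matrix.transvection (j, a + 1) (j, a) 1 *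
            Matrix.transvection (i, a) (j, a + 1) c)
        simp only [Matrix.transvection, add_mul, mul_add, one_mul, mul_one]
        rw [Matrix.single_mul_single_same, Matrix.single_mul_single_of_ne (h := by simp [Ne.symm hij]),
          Matrix.single_mul_single_of_ne (h := by simp [Ne.symm hij]),
          Matrix.single_mul_single_of_ne (h := by simp [Ne.symm hij])]
        simp only [mul_one, mul_zero, add_zero]
        abel
      have := X.mul_mem (X.mul_mem hA hB) (X.inv_mem (X.mul_mem hB hA))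
      rwa [e, mul_inv_cancel_right] at this
    · exact hdiff i j a b hij hab c
  intro g hg
  have : g = SpecialLinearGroup.toGL (⟨g, GeomClasses.mem_specialLinear.1 hg⟩ : SpecialLinearGroup I9 F) :=
    Units.ext rfl
  rw [this]
  exact (hgen.ge (Subgroup.mem_top _) : _ ∈ T)

/-- The two-qutrit normaliser is maximal in `SL₉` over a prime field of odd characteristic. -/
theorem maximal_linear (h : Om ω) {p : ℕ} (hp : p.Prime) (hF : Fintype.card F = p) (h2 : (2 : F) ≠ 0) :
    Cfsg.Geo.IsMaximalIn (Cfsg.Geo.specialLinear I9 F) (N9 h ⊓ Cfsg.Geo.specialLinear I9 F) := by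
  have h3 : ∀ g : GL (ZMod 3) F, Matrix.GeneralLinearGroup.det g ^ 3 = 1 →
      rf g ∈ Cfsg.Geo.specialLinear I9 F := fun g hg => det_one_mem (by rw [det_gbd_const, hg])
  refine maximal_of_ctx h _ (sl_le_commutator (by decide)) (fun v => det_one_mem (det_pe h v))
    (h3 _ (by rw [det_fo, one_pow])) (h3 _ (det_rz h)) (det_one_mem (det_cp h)) (det_one_mem det_sw)
    ⟨_, h3 _ ?_, rf_sign_not_mem h h2⟩ ?_
  · rw [map_mul, map_mul, map_inv, mul_inv_cancel_comm, det_gpm]
  intro X _ hSX hsc hpe hfo hrz hsw hcp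
  refine ⟨{ X := X, G3 := ⊤, S3 := Cfsg.Geo.specialLinear (ZMod 3) F, sc_mem := hsc, pe_mem := hpe, fo_mem := hfo,
            rz_mem := hrz, sw_mem := hsw, cp_mem := hcp, blk := fun _ _ _ => Subgroup.mem_top _, mid := ?_,
            base := ?_, comm := ?_, perfect := fun _ => sl_le_commutator (by decide), simple := ?_,
            sgn := fun _ => det_one_mem det_dsg, fo3 := fun _ => det_one_mem (det_fo h),
            nosingle := fun _ hall => hSX (sl_le_of_singles (h := h) hsw hall),
            nojj := fun e _ _ => h2 e }, rfl⟩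
  · exact fun g _ hg => ⟨phi ⟨g, mem_cjj.2 hg⟩, Subgroup.mem_top _, rfl⟩
  · intro H _ hsc' hpm hfo' hrz'
    rcases base_linear h hp hF H hsc' hpm hfo' hrz' with hN | hS
    · exact Or.inl fun g hg => Sys.mem_norm fun v => by
        obtain ⟨c, w, hc⟩ := hN g hg v
        exact ⟨w, c, hc⟩
    · exact Or.inr ⟨h2, hS⟩
  · intro a _ b _
    refine det_one_mem ?_
    rw [map_mul, map_mul, map_mul, map_inv, map_inv, mul_right_comm, mul_inv_cancel_right, mul_inv_cancel]
  · intro _ N hN hconj
    rcases sl3_normal (F := F) N hN hconj with hsc' | hS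
    · refine Or.inl fun n hn => ?_
      obtain ⟨c, hc⟩ := hsc' n hn
      exact ⟨c, hc.symm.trans rfl⟩
    · exact Or.inr hS

/-- The normaliser of a group conjugate to the standard one. -/
theorem maximal_linear_of_form {R : Subgroup (GL (Fin 9) F)} (h : Om ω) {p : ℕ} (hp : p.Prime)
    (hF : Fintype.card F = p) (h2 : (2 : F) ≠ 0) (e : I9 ≃ Fin 9) (P : GL I9 F)
    (hR : R.comap (Cfsg.Geo.glReindex e).toMonoidHom = (std h).map (MulAut.conj P).toMonoidHom) :
    Cfsg.Geo.IsMaximalIn (Cfsg.Geo.specialLinear (Fin 9) F)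
      (Cfsg.Geo.subgroupNormalizer R ⊓ Cfsg.Geo.specialLinear (Fin 9) F) := by
  let Ψ : GL I9 F ≃* GL (Fin 9) F := (MulAut.conj P).trans (Cfsg.Geo.glReindex e)
  have hdet : ∀ g, Matrix.GeneralLinearGroup.det (Ψ g) = Matrix.GeneralLinearGroup.det g := fun g => by
    have e2 : Matrix.GeneralLinearGroup.det (P * g * P⁻¹) = Matrix.GeneralLinearGroup.det g := by
      rw [map_mul, map_mul, map_inv, mul_inv_cancel_comm]
    rw [← e2]
    refine Units.ext ?_
    rw [Matrix.GeneralLinearGroup.val_det_apply, Matrix.GeneralLinearGroup.val_det_apply]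
    simp [Ψ, Cfsg.Geo.glReindex]
  have hRΨ : R = (std h).map Ψ.toMonoidHom := by
    show R = (std h).map ((Cfsg.Geo.glReindex e).toMonoidHom.comp (MulAut.conj P).toMonoidHom)
    rw [← Subgroup.map_map, ← hR]
    exact (Subgroup.map_comap_eq_self_of_surjective (f := (Cfsg.Geo.glReindex e).toMonoidHom)
      (Cfsg.Geo.glReindex e).surjective R).symm
  have hSL : (Cfsg.Geo.specialLinear I9 F).map Ψ.toMonoidHom = Cfsg.Geo.specialLinear (Fin 9) F := by
    ext g
    refine ⟨?_, fun hg => ⟨Ψ.symm g, ?_, Ψ.apply_symm_apply g⟩⟩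
    · rintro ⟨x, hx, rfl⟩
      exact det_one_mem ((hdet x).trans hx)
    · show Matrix.GeneralLinearGroup.det (Ψ.symm g) = 1
      rw [← hdet, Ψ.apply_symm_apply]
      exact hg
  have hN : (N9 h).map Ψ.toMonoidHom = Cfsg.Geo.subgroupNormalizer R := by
    rw [← normalizer_std, hRΨ, Cfsg.Geo.subgroupNormalizer, Cfsg.Geo.subgroupNormalizer]
    exact Subgroup.map_normalizer_eq_of_bijective (std h) (f := Ψ.toMonoidHom) Ψ.bijective
  have := isMaximalIn_equiv Ψ (maximal_linear h hp hF h2)
  rwa [Subgroup.map_inf _ _ _ Ψ.injective, hSL, hN] at this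

end CfsgLib.NineSymp
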