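import Cfsg.Agent.Lib.NineSymp.Descent

/-!
Maximality of the two-qutrit normaliser in a perfect ambient group, given the hypotheses on its overgroups.
-/

set_option autoImplicit false
set_option linter.unusedSectionVars false
set_option linter.unusedSimpArgs false
set_option linter.flexible false
set_option linter.style.haveILetI false

namespace CfsgLib.NineSymp

open Matrix

variable {F : Type*} [Field F] {ω : F}

/-- The two-qutrit group with the scalars of order three. -/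
def std (h : Om ω) : Subgroup (GL I9 F) :=
  Subgroup.closure {g | ∃ k v, g = sc (ou h k) * pe h v}

theorem mem_std {h : Om ω} {g : GL I9 F} : g ∈ std h ↔ ∃ k v, g = sc (ou h k) * pe h v := by
  refine ⟨fun hg => ?_, fun hg => Subgroup.subset_closure hg⟩
  induction hg using Subgroup.closure_induction with
  | mem x hx => exact hx
  | one => exact ⟨0, 0, by rw [ou_zero, sc_one, pe_zero, one_mul]⟩
  | mul x y _ _ hx hy =>
    obtain ⟨k, v, rfl⟩ := hx
    obtain ⟨l, w, rfl⟩ := hy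
    refine ⟨k + l + (v.1.2 * w.1.1 + v.2.2 * w.2.1), v + w, ?_⟩
    rw [sc_mul_mul, pe_mul, ← ou_add, ← mul_assoc, sc_mul, ← ou_add, ← ou_add]
  | inv x _ hx =>
    obtain ⟨k, v, rfl⟩ := hx
    have hcm : Commute (sc (ou h k) : GL I9 F) (pe h v) := sc_comm _ _
    have h3 : (sc (ou h k) * pe h v) ^ 3 = 1 := by
      rw [hcm.mul_pow, ← show (sc (ou h k ^ 3) : GL I9 F) = sc (ou h k) ^ 3 from map_pow _ _ _, ou_cube, pe_cube, sc_one,
        one_mul]
    refine ⟨k + k + (v.1.2 * v.1.1 + v.2.2 * v.2.1), v + v, ?_⟩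
    rw [inv_eq_of_mul_eq_one_right (b := (sc (ou h k) * pe h v) * (sc (ou h k) * pe h v))
      (by rw [← h3, pow_succ', pow_two]), sc_mul_mul, pe_mul, ← ou_add, ← mul_assoc, sc_mul, ← ou_add, ← ou_add]

theorem pe_mem_std (h : Om ω) (v : W4) : pe h v ∈ std h := mem_std.2 ⟨0, v, by rw [ou_zero, sc_one, one_mul]⟩

theorem sc_mem_std (h : Om ω) (k : ZMod 3) : sc (ou h k) ∈ std h := mem_std.2 ⟨k, 0, by rw [pe_zero, mul_one]⟩

theorem card_std (h : Om ω) : Nat.card (std h) = 243 := by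
  haveI : Nonempty I9 := ⟨0⟩
  let f : ZMod 3 × W4 → std h := fun p => ⟨sc (ou h p.1) * pe h p.2, mem_std.2 ⟨_, _, rfl⟩⟩
  have hinj : Function.Injective f := by
    rintro ⟨k, v⟩ ⟨l, w⟩ e
    have e' : sc (ou h k) * pe h v = sc (ou h l) * pe h w := congrArg Subtype.val e
    have hvw : v = w := (sys9 h).op_ne_sc_mul (c := (ou h k)⁻¹ * ou h l) (by
      show pe h v = sc ((ou h k)⁻¹ * ou h l) * pe h w
      rw [← sc_mul, mul_assoc, ← e', ← mul_assoc, sc_mul, inv_mul_cancel, sc_one, one_mul])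
    subst hvw
    rw [ou_injective h (sc_injective (mul_right_cancel e'))]
  have hsurj : Function.Surjective f := fun g => by
    obtain ⟨k, v, e⟩ := mem_std.1 g.2
    exact ⟨(k, v), Subtype.ext e.symm⟩
  rw [← Nat.card_congr (Equiv.ofBijective f ⟨hinj, hsurj⟩), Nat.card_eq_fintype_card]
  rfl

theorem std_conj {h : Om ω} {g : GL I9 F} (hg : g ∈ N9 h) {x : GL I9 F} (hx : x ∈ std h) :
    g * x * g⁻¹ ∈ std h := by
  obtain ⟨k, v, rfl⟩ := mem_std.1 hx
  obtain ⟨w, c, hc⟩ := hg.1 v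
  obtain ⟨l, rfl⟩ := exists_ou h (c := c) (Sys.sc_cube (S := sys9 h) (w := w) (by rw [← hc, conj_pow, pe_cube]; simp))
  rw [sc_conj, show g * pe h v * g⁻¹ = sc (ou h l) * pe h w from hc, ← mul_assoc, sc_mul, ← ou_add]
  exact mem_std.2 ⟨_, _, rfl⟩

/-- The normaliser of the standard group is the normaliser of the family. -/
theorem normalizer_std (h : Om ω) : Cfsg.Geo.subgroupNormalizer (std h) = N9 h := by
  ext g
  rw [Cfsg.Geo.subgroupNormalizer, Subgroup.mem_normalizer_iff]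
  refine ⟨fun hg => Sys.mem_norm fun v => ?_, fun hg x => ⟨fun hx => std_conj hg hx, fun hx => ?_⟩⟩
  · obtain ⟨k, w, e⟩ := mem_std.1 ((hg (pe h v)).1 (pe_mem_std h v))
    exact ⟨w, _, e⟩
  · have := std_conj ((N9 h).inv_mem hg) hx
    rwa [show g⁻¹ * (g * x * g⁻¹) * g⁻¹⁻¹ = x by group] at this

theorem det_gpm (h : Om ω) (v : V2) : Matrix.GeneralLinearGroup.det (gpm h v) ^ 3 = 1 := by
  rw [← map_pow, gpm_cube, map_one]

theorem det_gbd_const (g : GL (ZMod 3) F) :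
    Matrix.GeneralLinearGroup.det (rf g) = Matrix.GeneralLinearGroup.det g ^ 3 := by
  refine Units.ext ?_
  rw [Units.val_pow_eq_pow_val, Matrix.GeneralLinearGroup.val_det_apply, Matrix.GeneralLinearGroup.val_det_apply]
  have e : ((rf g : GL I9 F) : Matrix I9 I9 F) =
      (1 : Matrix (ZMod 3) (ZMod 3) F).kronecker (g : Matrix (ZMod 3) (ZMod 3) F) := by
    ext ⟨i, a⟩ ⟨j, b⟩
    rw [rf_apply_apply]
    simp [Matrix.one_apply]
  rw [e]
  show (Matrix.kroneckerMap (fun x y => x * y) (1 : Matrix (ZMod 3) (ZMod 3) F) (g : Matrix (ZMod 3) (ZMod 3) F)).det = _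
  rw [Matrix.det_kronecker, Matrix.det_one, one_pow, one_mul, ZMod.card]

theorem det_lf (g : GL (ZMod 3) F) :
    Matrix.GeneralLinearGroup.det (lf g) = Matrix.GeneralLinearGroup.det g ^ 3 := by
  rw [← swap_rf, map_mul, map_mul, map_inv, det_gbd_const, mul_comm, inv_mul_cancel_left]

theorem det_pe (h : Om ω) (v : W4) : Matrix.GeneralLinearGroup.det (pe h v) = 1 := by
  rw [pe, map_mul, det_lf, det_gbd_const, det_gpm, det_gpm, one_mul]

theorem det_rz (h : Om ω) : Matrix.GeneralLinearGroup.det (rz h 0) ^ 3 = 1 := by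
  rw [← map_pow, rz_cube, map_one]

theorem det_fo (h : Om ω) : Matrix.GeneralLinearGroup.det (fo h) = 1 := by
  refine Units.ext ?_
  rw [Matrix.GeneralLinearGroup.val_det_apply, Units.val_one]
  refine (Matrix.det_fin_three (R := F) ((fo h : GL (ZMod 3) F) : Matrix (ZMod 3) (ZMod 3) F)).trans ?_
  have hk := h.ksq
  have hi : (ω - ω ^ 2)⁻¹ * (ω - ω ^ 2) = 1 := inv_mul_cancel₀ h.kne
  have hp : ∀ i j : ZMod 3, (fo h : Matrix (ZMod 3) (ZMod 3) F) i j = (ω - ω ^ 2)⁻¹ * ps ω (i * j) := fun _ _ => rfl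
  show (fo h : Matrix (ZMod 3) (ZMod 3) F) 0 0 * (fo h : Matrix (ZMod 3) (ZMod 3) F) 1 1 *
        (fo h : Matrix (ZMod 3) (ZMod 3) F) 2 2 -
      (fo h : Matrix (ZMod 3) (ZMod 3) F) 0 0 * (fo h : Matrix (ZMod 3) (ZMod 3) F) 1 2 *
        (fo h : Matrix (ZMod 3) (ZMod 3) F) 2 1 -
      (fo h : Matrix (ZMod 3) (ZMod 3) F) 0 1 * (fo h : Matrix (ZMod 3) (ZMod 3) F) 1 0 *
        (fo h : Matrix (ZMod 3) (ZMod 3) F) 2 2 +
      (fo h : Matrix (ZMod 3) (ZMod 3) F) 0 1 * (fo h : Matrix (ZMod 3) (ZMod 3) F) 1 2 *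
        (fo h : Matrix (ZMod 3) (ZMod 3) F) 2 0 +
      (fo h : Matrix (ZMod 3) (ZMod 3) F) 0 2 * (fo h : Matrix (ZMod 3) (ZMod 3) F) 1 0 *
        (fo h : Matrix (ZMod 3) (ZMod 3) F) 2 1 -
      (fo h : Matrix (ZMod 3) (ZMod 3) F) 0 2 * (fo h : Matrix (ZMod 3) (ZMod 3) F) 1 1 *
        (fo h : Matrix (ZMod 3) (ZMod 3) F) 2 0 = 1
  simp only [hp, mul_zero, zero_mul, one_mul, mul_one, show (2 : ZMod 3) * 2 = 1 from rfl, ps_zero, ps_one, ps_two]
  have hs := h.sum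
  grind

theorem det_cp (h : Om ω) : Matrix.GeneralLinearGroup.det (cp h) = 1 := by
  refine Units.ext ?_
  rw [Matrix.GeneralLinearGroup.val_det_apply, Units.val_one, coe_cp,
    show (mono id fun j : I9 => ps ω (j.1 * j.2)) = Matrix.diagonal fun j : I9 => ps ω (j.1 * j.2) by
      ext i j; simp [mono, Matrix.diagonal_apply]; split_ifs <;> simp_all,
    Matrix.det_diagonal, Fintype.prod_prod_type]
  have e : ∀ f : ZMod 3 → F, (∏ k, f k) = f 0 * f 1 * f 2 := fun f => Fin.prod_univ_three f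
  simp only [e, mul_zero, zero_mul, one_mul, mul_one, show (2 : ZMod 3) * 2 = 1 from rfl, ps_zero, ps_one, ps_two]
  linear_combination (ω ^ 3 + 1) * h.cube

theorem det_sw : Matrix.GeneralLinearGroup.det (sc (-1) * sw : GL I9 F) = 1 := by
  refine Units.ext ?_
  rw [map_mul, Units.val_mul, Matrix.GeneralLinearGroup.val_det_apply, Matrix.GeneralLinearGroup.val_det_apply, coe_sc,
    Matrix.det_smul, Matrix.det_one, mul_one, Units.val_one]
  have e : ((sw : GL I9 F) : Matrix I9 I9 F) = Equiv.Perm.permMatrix F (Equiv.prodComm (ZMod 3) (ZMod 3) : Equiv.Perm I9) := by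
    ext ⟨i, a⟩ ⟨j, b⟩
    show mono Prod.swap (fun _ => (1 : F)) (i, a) (j, b) = _
    simp only [mono, Equiv.Perm.permMatrix, PEquiv.toMatrix_apply, Equiv.toPEquiv_apply, Option.mem_def,
      Option.some_inj, Equiv.prodComm_apply, Prod.swap_prod_mk, Prod.mk.injEq]
    by_cases h1 : i = b <;> by_cases h2 : a = j <;> simp [h1, h2, eq_comm]
  rw [e, Matrix.det_permutation, show Equiv.Perm.sign (Equiv.prodComm (ZMod 3) (ZMod 3) : Equiv.Perm I9) = -1 by
    decide +kernel]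
  norm_num

/-- The conjugate of the shift by the sign matrix on the second coordinate does not normalise the family. -/
theorem rf_sign_not_mem (h : Om ω) (h2 : (2 : F) ≠ 0) : rf (dsg * gpm h (1, 0) * dsg⁻¹) ∉ N9 h := by
  intro hN
  refine sign_shift_not_mem (h := h) h2 (Sys.mem_norm fun v => ?_)
  obtain ⟨c, u, hu⟩ := Ctx.second_factor hN (rf_mem_cjj _) v
  refine ⟨u, c, rf_injective ?_⟩
  rw [map_mul rf _ (_)⁻¹, map_mul rf _ (gpm h v), map_inv, map_mul rf (sc c), rf_sc, (lf_rf_eq (h := h) v).2,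
    (lf_rf_eq (h := h) u).2]
  exact hu

/-- The transvection exchanging two axes of one block does not normalise the family in characteristic two. -/
theorem one1_jj_not_mem (h : Om ω) : one1 2 jj ∉ N9 h := by
  intro hN
  obtain ⟨⟨⟨a, b⟩, w2⟩, c, hc⟩ := hN.1 ((1, 0), 0)
  set T : GL I9 F := pe h ((1, 0), 0) with hTdef
  have hT : T = lf (gpm h (1, 0)) := ((lf_rf_eq (h := h) (1, 0)).1).symm
  have hsh : T * one1 2 jj * T⁻¹ = one1 0 jj := by
    rw [hT, one1, one1, shift_conj]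
    congr 1
    funext x
    by_cases hx : x = 0
    · subst hx; rw [show (0 : ZMod 3) - 1 = 2 from rfl, Pi.mulSingle_eq_same, Pi.mulSingle_eq_same]
    · have h30 : (3 : ZMod 3) = 0 := rfl
      rw [Pi.mulSingle_eq_of_ne hx, Pi.mulSingle_eq_of_ne (fun e => hx (by linear_combination e + h30))]
  have e1 : one1 2 jj * T * (one1 2 jj)⁻¹ = gbd (Pi.mulSingle 2 jj * (Pi.mulSingle 0 jj)⁻¹) * T := by
    rw [map_mul, map_inv, ← one1, ← one1, ← hsh]
    group
  rw [show one1 2 jj * T * (one1 2 jj)⁻¹ = sc c * pe h ((a, b), w2) from hc] at e1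
  have e2 : pe h ((a, b), w2) * T⁻¹ = sc c⁻¹ * gbd (Pi.mulSingle 2 jj * (Pi.mulSingle 0 jj)⁻¹) := by
    calc pe h ((a, b), w2) * T⁻¹ = sc c⁻¹ * (sc c * pe h ((a, b), w2)) * T⁻¹ := by
          rw [← mul_assoc, sc_mul, inv_mul_cancel, sc_one, one_mul]
      _ = _ := by rw [e1]; group
  obtain ⟨d, hd⟩ := Sys.op_mul_inv (S := sys9 h) ((a, b), w2) ((1, 0), 0)
  rw [show pe h ((a, b), w2) * T⁻¹ = _ from hd] at e2
  set u : W4 := ((a, b), w2) - ((1, 0), 0)
  have hent : ∀ x y z : ZMod 3, (d : F) * (if (x, y) = (x + u.1.1, z + u.2.1) then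
      ps ω (u.1.2 * x) * ps ω (u.2.2 * z) else 0) =
      ((c⁻¹ : Fˣ) : F) * ((Pi.mulSingle 2 jj * (Pi.mulSingle 0 jj)⁻¹ : ZMod 3 → GL (ZMod 3) F) x).val y z := by
    intro x y z
    have e3 := congrArg (fun g : GL I9 F => (g : Matrix I9 I9 F) (x, y) (x, z)) e2
    simp only [coe_sc_mul, coe_pe, coe_gbd, bd, mono, Matrix.smul_apply, smul_eq_mul, if_true] at e3
    exact e3
  have k1 := hent 1 0 0
  have k2 := hent 2 1 1
  have hb1 : (Pi.mulSingle 2 jj * (Pi.mulSingle 0 jj)⁻¹ : ZMod 3 → GL (ZMod 3) F) 1 = 1 := by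
    simp [Pi.mulSingle_eq_of_ne (show (1 : ZMod 3) ≠ 2 by decide), Pi.mulSingle_eq_of_ne (show (1 : ZMod 3) ≠ 0 by decide)]
  have hb2 : (Pi.mulSingle 2 jj * (Pi.mulSingle 0 jj)⁻¹ : ZMod 3 → GL (ZMod 3) F) 2 = jj := by
    simp [Pi.mulSingle_eq_of_ne (show (2 : ZMod 3) ≠ 0 by decide)]
  rw [hb1, Units.val_one, Matrix.one_apply_eq, mul_one] at k1
  rw [hb2, show ((jj : GL (ZMod 3) F) : Matrix (ZMod 3) (ZMod 3) F) 1 1 = 0 by simp [jj, mono, show (-(1 : ZMod 3)) = 2 from rfl, z3_ne],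
    mul_zero] at k2
  by_cases hz : u.1.1 = 0 ∧ u.2.1 = 0
  · rw [hz.1, hz.2, add_zero, add_zero, if_pos rfl] at k2
    exact mul_ne_zero d.ne_zero (mul_ne_zero (ps_ne_zero h _) (ps_ne_zero h _)) k2
  · rw [if_neg (fun e => hz ⟨by simpa using (congrArg Prod.fst e).symm, by simpa using (congrArg Prod.snd e).symm⟩),
      mul_zero] at k1
    exact (c⁻¹).ne_zero (by simpa using k1.symm)

/-- Maximality in a perfect group, given the hypotheses on the overgroups. -/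
theorem maximal_of_ctx [Finite F] (h : Om ω) (S : Subgroup (GL I9 F)) (hperf : S ≤ ⁅S, S⁆)
    (hpe : ∀ v, pe h v ∈ S) (hfo : rf (fo h) ∈ S) (hrz : rf (rz h 0) ∈ S) (hcp : cp h ∈ S)
    (hsw : sc (-1) * sw ∈ S) (hwit : ∃ g ∈ S, g ∉ N9 h)
    (hctx : ∀ X : Subgroup (GL I9 F), X ≤ S ⊔ Cfsg.Geo.scalars I9 F → ¬ S ≤ X → (∀ c, sc c ∈ X) →
      (∀ v, pe h v ∈ X) → rf (fo h) ∈ X → rf (rz h 0) ∈ X → sw ∈ X → cp h ∈ X → ∃ K : Ctx h, K.X = X) :
    Cfsg.Geo.IsMaximalIn S (N9 h ⊓ S) := by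
  refine ⟨lt_of_le_of_ne inf_le_right fun e => ?_, fun M hM hMS => ?_⟩
  · obtain ⟨g, hg, hg'⟩ := hwit
    exact hg' (e.ge hg).1
  set Z := Cfsg.Geo.scalars I9 F with hZ
  set X := M ⊔ Z with hX
  have hsc : ∀ c, sc c ∈ X := fun c => Subgroup.mem_sup_right (sc_mem c)
  have hin : ∀ g, g ∈ N9 h → g ∈ S → g ∈ X := fun g h1 h2 => Subgroup.mem_sup_left (hM ⟨h1, h2⟩)
  by_cases hSX : S ≤ X
  · right
    refine le_antisymm hMS (hperf.trans ((Subgroup.commutator_mono hSX hSX).trans ?_))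
    rw [Subgroup.commutator_le]
    intro x hx y hy
    rw [hX, ← SetLike.mem_coe, Subgroup.mul_normal] at hx hy
    obtain ⟨m, hm, z, ⟨c, rfl⟩, rfl⟩ := hx
    obtain ⟨m', hm', z', ⟨c', rfl⟩, rfl⟩ := hy
    show m * sc c * (m' * sc c') * (m * sc c)⁻¹ * (m' * sc c')⁻¹ ∈ M
    have e : m * sc c * (m' * sc c') * (m * sc c)⁻¹ * (m' * sc c')⁻¹ = m * m' * m⁻¹ * m'⁻¹ := by
      have h1 : ∀ (x y : GL I9 F) (u v : Fˣ), x * sc u * (y * sc v) = sc (u * v) * (x * y) := fun x y u v => by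
        rw [← sc_comm u x, ← sc_comm v y, sc_mul_mul]
      calc m * sc c * (m' * sc c') * (m * sc c)⁻¹ * (m' * sc c')⁻¹ =
            m * sc c * (m' * sc c') * (m' * sc c' * (m * sc c))⁻¹ := by group
        _ = sc (c * c') * (m * m' * (m' * m)⁻¹) * (sc (c * c'))⁻¹ := by rw [h1, h1, mul_comm c' c]; group
        _ = _ := by rw [sc_comm]; group
    rw [e]
    exact M.mul_mem (M.mul_mem (M.mul_mem hm hm') (M.inv_mem hm)) (M.inv_mem hm')
  · left
    have hswX : sw ∈ X := by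
      have h1 : sc (-1) * sw ∈ X := hin _ ((N9 h).mul_mem (Sys.sc_mem_norm (S := sys9 h) _) (sw_mem h)) hsw
      have h2 := X.mul_mem (hsc (-1)) h1
      rwa [← mul_assoc, sc_mul, neg_mul_neg, one_mul, sc_one, one_mul] at h2
    obtain ⟨K, hK⟩ := hctx X (sup_le (hMS.trans le_sup_left) le_sup_right) hSX hsc
      (fun v => hin _ (Sys.op_mem_norm (S := sys9 h) v) (hpe v)) (hin _ (rf_mem h (CfsgLib.NineSymp.fo_mem h)) hfo)
      (hin _ (rf_mem h (CfsgLib.NineSymp.rz_mem h)) hrz) hswX (hin _ (CfsgLib.NineSymp.cp_mem h) hcp)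
    refine le_antisymm (le_inf ?_ hMS) hM
    intro g hg
    exact K.le_norm (hK ▸ Subgroup.mem_sup_left hg)

end CfsgLib.NineSymp
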