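import Cfsg.Agent.Lib.NineSymp.Maximal

/-!
Normal form of the absolutely irreducible groups of order 243, exponent three and class two in dimension nine.
-/

set_option autoImplicit false
set_option linter.unusedSectionVars false
set_option linter.unusedSimpArgs false
set_option linter.flexible false
set_option linter.style.haveILetI false

namespace CfsgLib.NineSymp

open Matrix

variable {F : Type*} [Field F]

/-- The commutator of two matrices is the given power of the root. -/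
def Br {ω : F} (h : Om ω) (x y : GL I9 F) (k : ZMod 3) : Prop := x * y = sc (ou h k) * (y * x)

variable {ω : F} {h : Om ω}

theorem Br.mul_right {x y y' : GL I9 F} {k l : ZMod 3} (h1 : Br h x y k) (h2 : Br h x y' l) :
    Br h x (y * y') (k + l) := by
  unfold Br at *
  rw [← mul_assoc, h1, ou_add, ← sc_mul, mul_assoc, mul_assoc (y), h2, ← mul_assoc y, ← sc_comm]
  group

theorem Br.symm {x y : GL I9 F} {k : ZMod 3} (h1 : Br h x y k) : Br h y x (-k) := by
  unfold Br at *
  rw [h1, ← mul_assoc, sc_mul, ← ou_add, neg_add_cancel, ou_zero, sc_one, one_mul]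

theorem Br.pow_right {x y : GL I9 F} {k : ZMod 3} (h1 : Br h x y k) (n : ℕ) : Br h x (y ^ n) (n • k) := by
  induction n with
  | zero => simp [Br, ou_zero, sc_one]
  | succ n ih => rw [pow_succ, succ_nsmul]; exact ih.mul_right h1

theorem br_zero {x y : GL I9 F} : Br h x y 0 ↔ x * y = y * x := by simp [Br, ou_zero, sc_one]

/-- The projection onto the fixed space of a matrix of order three, up to a factor. -/
def fixSum (z : GL I9 F) : Matrix I9 I9 F :=
  1 + (z : Matrix I9 I9 F) + (z : Matrix I9 I9 F) * (z : Matrix I9 I9 F)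

theorem mul_fixSum {z : GL I9 F} (hz : z ^ 3 = 1) : (z : Matrix I9 I9 F) * fixSum z = fixSum z := by
  have h3 : (z : Matrix I9 I9 F) * ((z : Matrix I9 I9 F) * (z : Matrix I9 I9 F)) = 1 := by
    rw [← Units.val_mul, ← Units.val_mul, ← Units.val_one, ← hz]; congr 1; rw [pow_succ', pow_two]
  rw [fixSum, mul_add, mul_add, mul_one, h3]
  abel

theorem fixSum_conj (g z : GL I9 F) :
    (g : Matrix I9 I9 F) * fixSum z = fixSum (g * z * g⁻¹) * (g : Matrix I9 I9 F) := by
  have e1 : ((g * z * g⁻¹ : GL I9 F) : Matrix I9 I9 F) * (g : Matrix I9 I9 F) =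
      (g : Matrix I9 I9 F) * (z : Matrix I9 I9 F) := by
    rw [← Units.val_mul, ← Units.val_mul]; congr 1; group
  simp only [fixSum, mul_add, add_mul, mul_one, one_mul]
  rw [e1, mul_assoc _ _ (g : Matrix I9 I9 F), e1, ← mul_assoc _ (g : Matrix I9 I9 F), e1, mul_assoc]

theorem fixSum_sum (h : Om ω) (z : GL I9 F) :
    fixSum z + fixSum (sc (ou h 1) * z) + fixSum (sc (ou h 2) * z) = (3 : F) • 1 := by
  have hs := h.sum
  have hc := h.cube
  simp only [fixSum, coe_sc_mul, Matrix.smul_mul, Matrix.mul_smul, smul_smul, ou, Units.val_mk0, ps_one, ps_two]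
  match_scalars <;> grind

theorem z3_val_smul : ∀ k : ZMod 3, k ≠ 0 → k.val • k = 1 := by decide

theorem z3_two_add : ∀ m : ZMod 3, 2 • m + m = 0 := by decide

/-- Normal form. -/
theorem normal_form (R : Subgroup (GL I9 F)) (hexp : ∀ x ∈ R, x ^ 3 = 1)
    (hcls : ∀ x ∈ R, ∀ y ∈ R, ∃ c, x * y * x⁻¹ * y⁻¹ = sc c)
    (hirr : ∀ M : Matrix I9 I9 F, (∀ r ∈ R, M * (r : Matrix I9 I9 F) = (r : Matrix I9 I9 F) * M) → ∃ c : F, M = c • 1)
    (hcard : Nat.card R = 243) (hcen : Nat.card (Subgroup.center R) = 3) :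
    ∃ (ω : F) (h : Om ω) (P : GL I9 F), R = (std h).map (MulAut.conj P).toMonoidHom := by
  haveI : Nonempty I9 := ⟨0⟩
  haveI : Finite R := Nat.finite_of_card_ne_zero (by rw [hcard]; norm_num)
  have hscal : ∀ x ∈ R, (∀ y ∈ R, x * y = y * x) → ∃ c, x = sc c := by
    intro x hx hc
    obtain ⟨c, hc'⟩ := hirr (x : Matrix I9 I9 F) fun r hr => by rw [← Units.val_mul, ← Units.val_mul, hc r hr]
    have hc0 : c ≠ 0 := fun e => by
      rw [e, zero_smul] at hc'
      exact x.ne_zero hc'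
    exact ⟨Units.mk0 c hc0, Units.ext (by rw [hc', coe_sc]; rfl)⟩
  -- the root
  obtain ⟨c, hcR, hc1⟩ : ∃ c : Fˣ, sc c ∈ R ∧ c ≠ 1 := by
    haveI : Nontrivial (Subgroup.center R) := Finite.one_lt_card_iff_nontrivial.1 (by rw [hcen]; norm_num)
    obtain ⟨⟨⟨x, hx⟩, hxc⟩, hx1⟩ := exists_ne (1 : Subgroup.center R)
    obtain ⟨c, rfl⟩ := hscal x hx fun y hy => (congrArg Subtype.val (Subgroup.mem_center_iff.1 hxc ⟨y, hy⟩)).symm
    exact ⟨c, hx, fun e => hx1 (Subtype.ext (Subtype.ext (by show sc c = 1; rw [e, sc_one])))⟩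
  have hc3 : (c : F) ^ 3 = 1 := by
    have e : c ^ 3 = 1 := sc_injective (F := F) (ι := I9) (by
      rw [show (sc (c ^ 3) : GL I9 F) = sc c ^ 3 from map_pow _ _ _, hexp _ hcR, sc_one])
    rw [← Units.val_pow_eq_pow_val, e, Units.val_one]
  have hcne : (c : F) ≠ 1 := fun e => hc1 (Units.ext e)
  have h : Om (c : F) := ⟨(mul_eq_zero.1 (show ((c : F) - 1) * (1 + c + c * c) = 0 by linear_combination hc3)).resolve_left
    (sub_ne_zero.2 hcne), fun h3 => hcne (sub_eq_zero.1 ((pow_eq_zero_iff (three_ne_zero (α := ℕ))).1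
      (show ((c : F) - 1) ^ 3 = 0 by linear_combination hc3 + ((c : F) - (c : F) ^ 2) * h3)))⟩
  refine ⟨c, h, ?_⟩
  have hscR : ∀ k : ZMod 3, sc (ou h k) ∈ R := fun k => by
    have e : ou h k = c ^ k.val := Units.ext (by simp [ou, ps])
    rw [e, show (sc (c ^ k.val) : GL I9 F) = sc c ^ k.val from map_pow _ _ _]
    exact R.pow_mem hcR _
  have hbr : ∀ x ∈ R, ∀ y ∈ R, ∃ k, Br h x y k := by
    intro x hx y hy
    obtain ⟨d, hd⟩ := hcls x hx y hy
    obtain ⟨k, rfl⟩ := exists_ou h (c := d) (sc_injective (F := F) (ι := I9) (by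
      rw [show (sc (d ^ 3) : GL I9 F) = sc d ^ 3 from map_pow _ _ _, sc_one, ← hd]
      exact hexp _ (R.mul_mem (R.mul_mem (R.mul_mem hx hy) (R.inv_mem hx)) (R.inv_mem hy))))
    exact ⟨k, by rw [Br, ← hd]; group⟩
  have hpartner : ∀ x ∈ R, (∀ d, x ≠ sc d) → ∃ y ∈ R, Br h x y 1 := by
    intro x hx hns
    obtain ⟨y, hy, hne⟩ : ∃ y ∈ R, x * y ≠ y * x := by
      by_contra hall
      push Not at hall
      obtain ⟨d, hd⟩ := hscal x hx hall
      exact hns d hd
    obtain ⟨k, hk⟩ := hbr x hx y hy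
    have hk0 : k ≠ 0 := fun e => hne (br_zero.1 (e ▸ hk))
    refine ⟨y ^ k.val, R.pow_mem hy _, ?_⟩
    have := hk.pow_right k.val
    rwa [z3_val_smul k hk0] at this
  obtain ⟨a1, ha1, ha1s⟩ : ∃ x ∈ R, ∀ d, x ≠ sc d := by
    by_contra hall
    push Not at hall
    have htop : Subgroup.center R = ⊤ := eq_top_iff.2 fun x _ => Subgroup.mem_center_iff.2 fun y => Subtype.ext (by
      obtain ⟨d, hd⟩ := hall x x.2
      show (y : GL I9 F) * x = x * y
      rw [hd, sc_comm])
    rw [htop, Subgroup.card_top, hcard] at hcen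
    norm_num at hcen
  obtain ⟨b1, hb1, hab1⟩ := hpartner a1 ha1 ha1s
  obtain ⟨a2, ha2, ha2s, ha21, ha2b⟩ : ∃ x ∈ R, (∀ d, x ≠ sc d) ∧ Br h a1 x 0 ∧ Br h b1 x 0 := by
    by_contra hall
    push Not at hall
    choose k hk using fun x : R => hbr a1 ha1 x x.2
    choose l hl using fun x : R => hbr b1 hb1 x x.2
    have hfib : ∀ x y : R, k x = k y → l x = l y → ∃ d : Fˣ, d ^ 3 = 1 ∧ (y : GL I9 F) = (x : GL I9 F) * sc d := by
      intro x y ek el
      have hm : ((x : GL I9 F)⁻¹ * y) ∈ R := R.mul_mem (R.inv_mem x.2) y.2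
      have h0 : ∀ a : GL I9 F, ∀ m, Br h a x m → Br h a y m → Br h a ((x : GL I9 F)⁻¹ * y) 0 := by
        intro a m e1 e2
        have hx3 : (x : GL I9 F)⁻¹ = (x : GL I9 F) ^ 2 :=
          inv_eq_of_mul_eq_one_right (by rw [← pow_succ']; exact hexp _ x.2)
        have := (e1.pow_right 2).mul_right e2
        rwa [z3_two_add m, ← hx3] at this
      by_contra hne
      refine hall _ hm (fun d hd => hne ⟨d, ?_, by rw [← hd, mul_inv_cancel_left]⟩) (h0 _ _ (hk x) (ek ▸ hk y))
        (h0 _ _ (hl x) (el ▸ hl y))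
      refine sc_injective (F := F) (ι := I9) ?_
      rw [show (sc (d ^ 3) : GL I9 F) = sc d ^ 3 from map_pow _ _ _, sc_one, ← hd]
      exact hexp _ hm
    classical
    let f : R → ZMod 3 × ZMod 3 × ZMod 3 := fun x => (k x, l x,
      if hx : ∃ m, (x : GL I9 F) = ((Function.invFun (fun y : R => (k y, l y)) (k x, l x) : R) : GL I9 F) * sc (ou h m) then hx.choose
      else 0)
    haveI : Nonempty R := ⟨1⟩
    have hf : Function.Injective f := by
      intro x y e
      have ek : k x = k y := congrArg Prod.fst e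
      have el : l x = l y := congrArg (fun p => p.2.1) e
      set r : R := Function.invFun (fun y : R => (k y, l y)) (k x, l x) with hr
      have hrx : (k r, l r) = (k x, l x) := Function.invFun_eq (f := fun y : R => (k y, l y)) ⟨x, rfl⟩
      have hex : ∀ z : R, k z = k x → l z = l x → ∃ m, (z : GL I9 F) = (r : GL I9 F) * sc (ou h m) := by
        intro z e1 e2
        obtain ⟨d, hd3, hd⟩ := hfib r z ((congrArg Prod.fst hrx).trans e1.symm) ((congrArg Prod.snd hrx).trans e2.symm)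
        obtain ⟨m, rfl⟩ := exists_ou h hd3
        exact ⟨m, hd⟩
      have e3 : (f x).2.2 = (f y).2.2 := by rw [e]
      have hyr : Function.invFun (fun y : R => (k y, l y)) (k y, l y) = r := by rw [hr, ek, el]
      simp only [f, ← hr, hyr] at e3
      rw [dif_pos (hex x rfl rfl), dif_pos (hex y ek.symm el.symm)] at e3
      refine Subtype.ext ((hex x rfl rfl).choose_spec.trans ?_)
      rw [e3]
      exact (hex y ek.symm el.symm).choose_spec.symm
    have := Nat.card_le_card_of_injective f hf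
    rw [hcard, Nat.card_eq_fintype_card] at this
    simp at this
  obtain ⟨y, hy, hay⟩ := hpartner a2 ha2 ha2s
  obtain ⟨p, hp⟩ := hbr a1 ha1 y hy
  obtain ⟨q, hq⟩ := hbr b1 hb1 y hy
  set b2 := y * a1 ^ q.val * b1 ^ (-p).val with hb2def
  have hb2 : b2 ∈ R := R.mul_mem (R.mul_mem hy (R.pow_mem ha1 _)) (R.pow_mem hb1 _)
  have hself : ∀ x : GL I9 F, Br h x x 0 := fun x => br_zero.2 rfl
  have h12 : Br h a1 b2 0 := by
    have := (hp.mul_right ((hself a1).pow_right q.val)).mul_right (hab1.pow_right (-p).val)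
    rwa [show p + q.val • (0 : ZMod 3) + (-p).val • (1 : ZMod 3) = 0 by simp] at this
  have h12' : Br h b1 b2 0 := by
    have := (hq.mul_right (hab1.symm.pow_right q.val)).mul_right ((hself b1).pow_right (-p).val)
    rwa [show q + q.val • (-1 : ZMod 3) + (-p).val • (0 : ZMod 3) = 0 by simp] at this
  have h22 : Br h a2 b2 1 := by
    have := (hay.mul_right (ha21.symm.pow_right q.val)).mul_right (ha2b.symm.pow_right (-p).val)
    rwa [show (1 : ZMod 3) + q.val • (-0 : ZMod 3) + (-p).val • (-0 : ZMod 3) = 1 by simp] at this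
  -- the fixed vector
  have hconj : ∀ {b a : GL I9 F} {m : ZMod 3}, Br h b a m → b * a * b⁻¹ = sc (ou h m) * a := fun {b a m} e => by
    rw [e]; group
  have hfs0 : ∀ {b a : GL I9 F} {m : ZMod 3}, Br h b a m →
      (b : Matrix I9 I9 F) * fixSum a = fixSum (sc (ou h m) * a) * (b : Matrix I9 I9 F) := fun {b a m} e => by
    rw [fixSum_conj, hconj e]
  have hE : fixSum a1 * fixSum a2 ≠ 0 := by
    intro h0
    have hall : ∀ i j : ZMod 3, fixSum (sc (ou h i) * a1) * fixSum (sc (ou h j) * a2) = 0 := by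
      intro i j
      set g := b1 ^ (-i).val * b2 ^ (-j).val with hg
      have g1 : Br h g a1 i := by
        have := ((hab1.pow_right (-i).val).mul_right (h12.pow_right (-j).val)).symm
        simpa using this
      have g2 : Br h g a2 j := by
        have := ((ha2b.symm.pow_right (-i).val).mul_right (h22.pow_right (-j).val)).symm
        simpa using this
      have e : (g : Matrix I9 I9 F) * (fixSum a1 * fixSum a2) =
          fixSum (sc (ou h i) * a1) * fixSum (sc (ou h j) * a2) * (g : Matrix I9 I9 F) := by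
        rw [← mul_assoc, hfs0 g1, mul_assoc, hfs0 g2, mul_assoc]
      rw [h0, mul_zero] at e
      calc fixSum (sc (ou h i) * a1) * fixSum (sc (ou h j) * a2) =
          fixSum (sc (ou h i) * a1) * fixSum (sc (ou h j) * a2) * (g : Matrix I9 I9 F) *
            ((g⁻¹ : GL I9 F) : Matrix I9 I9 F) := by rw [mul_assoc _ (g : Matrix I9 I9 F), Units.mul_inv, mul_one]
        _ = 0 := by rw [← e, zero_mul]
    have hz : ∀ z : GL I9 F, fixSum (sc (ou h 0) * z) = fixSum z := fun z => by rw [ou_zero, sc_one, one_mul]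
    have hs := congrArg₂ (· * ·) (fixSum_sum h a1) (fixSum_sum h a2)
    simp only [add_mul, mul_add, ← hz a1, ← hz a2] at hs
    rw [hall, hall, hall, hall, hall, hall, hall, hall, hall] at hs
    simp [Matrix.smul_mul, Matrix.mul_smul, smul_smul] at hs
    have e9 := congrFun hs 0
    first
      | exact h.three (by simpa using e9)
      | exact mul_ne_zero h.three h.three (by simpa using congrFun e9 0)
  obtain ⟨u, hu⟩ : ∃ u : I9 → F, (fixSum a1 * fixSum a2) *ᵥ u ≠ 0 := by
    by_contra hall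
    push Not at hall
    exact hE (Matrix.ext_of_mulVec_single fun i => by rw [hall, Matrix.zero_mulVec])
  set v := (fixSum a1 * fixSum a2) *ᵥ u with hv
  have hv1 : (a1 : Matrix I9 I9 F) *ᵥ v = v := by
    rw [hv, Matrix.mulVec_mulVec, ← mul_assoc, mul_fixSum (hexp _ ha1)]
  have hv2 : (a2 : Matrix I9 I9 F) *ᵥ v = v := by
    rw [hv, Matrix.mulVec_mulVec, ← mul_assoc, hfs0 ha21.symm, neg_zero, ou_zero, sc_one, one_mul, mul_assoc,
      mul_fixSum (hexp _ ha2)]
  let W : I9 → GL I9 F := fun j => b1 ^ j.1.val * b2 ^ j.2.val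
  let w : I9 → I9 → F := fun j => (W j : Matrix I9 I9 F) *ᵥ v
  have heig : ∀ (a : GL I9 F) (j : I9) (m : ZMod 3), Br h a (W j) m → (a : Matrix I9 I9 F) *ᵥ v = v →
      (a : Matrix I9 I9 F) *ᵥ w j = ps (c : F) m • w j := by
    intro a j m e hav
    show (a : Matrix I9 I9 F) *ᵥ ((W j : Matrix I9 I9 F) *ᵥ v) = _
    rw [Matrix.mulVec_mulVec, ← Units.val_mul, e, Units.val_mul, Units.val_mul, coe_sc, Matrix.smul_mul, one_mul,
      Matrix.smul_mulVec, ← Matrix.mulVec_mulVec, hav]
    rfl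
  have hwa1 : ∀ j, (a1 : Matrix I9 I9 F) *ᵥ w j = ps (c : F) j.1 • w j := fun j =>
    heig a1 j j.1 (by simpa using (hab1.pow_right j.1.val).mul_right (h12.pow_right j.2.val)) hv1
  have hwa2 : ∀ j, (a2 : Matrix I9 I9 F) *ᵥ w j = ps (c : F) j.2 • w j := fun j =>
    heig a2 j j.2 (by simpa using (ha2b.symm.pow_right j.1.val).mul_right (h22.pow_right j.2.val)) hv2
  let M : Matrix I9 I9 F := Matrix.of fun i j => w j i
  have hMv : ∀ z : I9 → F, M *ᵥ z = ∑ j, z j • w j := fun z => by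
    funext i
    simp [M, Matrix.mulVec, dotProduct, mul_comm]
  have hMinj : Function.Injective M.mulVec := by
    intro z z' e
    have e0 : ∑ j, (z j - z' j) • w j = 0 := by
      simp only [sub_smul, Finset.sum_sub_distrib, ← hMv]
      exact sub_eq_zero.2 e
    funext i
    have hfs : ∀ (a : GL I9 F) (x : F) (q : ZMod 3) (j : I9), (a : Matrix I9 I9 F) *ᵥ w j = x • w j →
        fixSum (sc (ou h q) * a) *ᵥ w j = (1 + ps (c : F) q * x + ps (c : F) q * x * (ps (c : F) q * x)) • w j := by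
      intro a x q j ha
      simp only [fixSum, coe_sc_mul, Matrix.smul_mul, Matrix.mul_smul, smul_smul, Matrix.add_mulVec, Matrix.one_mulVec,
        Matrix.smul_mulVec, ← Matrix.mulVec_mulVec, ha, Matrix.mulVec_smul, add_smul, one_smul]
      simp only [ou, Units.val_mk0]
      module
    have hval : ∀ q x : ZMod 3, 1 + ps (c : F) q * ps (c : F) x + ps (c : F) q * ps (c : F) x *
        (ps (c : F) q * ps (c : F) x) = if q + x = 0 then 3 else 0 := fun q x => by
      rw [← sum_ps h (q + x), sum_three, mul_zero, mul_one, ps_zero, show (q + x) * 2 = q + x + (q + x) by ring,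
        ps_add h (q + x), ps_add h q x]
    have e1 := congrArg (fun z => (fixSum (sc (ou h (-i.1)) * a1) * fixSum (sc (ou h (-i.2)) * a2)) *ᵥ z) e0
    simp only [Matrix.mulVec_sum, Matrix.mulVec_smul, Matrix.mulVec_zero, ← Matrix.mulVec_mulVec,
      hfs a2 _ _ _ (hwa2 _), hfs a1 _ _ _ (hwa1 _), hval, smul_smul] at e1
    rw [Finset.sum_eq_single i] at e1
    · rw [neg_add_cancel, neg_add_cancel, if_pos rfl] at e1
      have hwi : w i ≠ 0 := fun e2 => hu (Matrix.mulVec_injective_iff_isUnit.2 (W i).isUnit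
        (e2.trans (Matrix.mulVec_zero _).symm))
      have h9 := (smul_eq_zero.1 e1).resolve_right hwi
      exact sub_eq_zero.1 (by simpa [h.three] using h9)
    · intro j _ hji
      by_cases h1 : -i.1 + j.1 = 0
      · rw [if_neg (c := -i.2 + j.2 = 0) (fun h2 => hji (Prod.ext (neg_add_eq_zero.1 h1).symm (neg_add_eq_zero.1 h2).symm))]
        simp
      · rw [if_neg h1]; simp
    · simp
  let P : GL I9 F := (Matrix.mulVec_injective_iff_isUnit.1 hMinj).unit
  refine ⟨P, ?_⟩
  have hP : (P : Matrix I9 I9 F) = M := rfl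
  have hcol : ∀ (π : I9 → I9) (cf : I9 → F) (a : GL I9 F), (∀ j, (a : Matrix I9 I9 F) *ᵥ w j = cf j • w (π j)) →
      (a : Matrix I9 I9 F) * M = M * mono π cf := by
    intro π cf a ha
    ext i j
    rw [mul_mono_apply]
    have := congrFun (ha j) i
    rw [Pi.smul_apply, smul_eq_mul] at this
    show ((a : Matrix I9 I9 F) *ᵥ w j) i = w (π j) i * cf j
    rw [this, mul_comm]
  have hgen : ∀ (a : GL I9 F) (v₀ : W4), (a : Matrix I9 I9 F) * M = M * (pe h v₀ : Matrix I9 I9 F) → a ∈ R →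
      pe h v₀ ∈ R.comap (MulAut.conj P).toMonoidHom := by
    intro a v₀ e ha
    show P * pe h v₀ * P⁻¹ ∈ R
    have e' : a * P = P * pe h v₀ := Units.ext (by rw [Units.val_mul, Units.val_mul, hP]; exact e)
    rw [← e', mul_inv_cancel_right]; exact ha
  have hz0 : ∀ t : ZMod 3, ps (c : F) (0 * t) = 1 := fun t => by rw [zero_mul, ps_zero]
  have hA1 := hgen a1 ((0, 1), 0) (by
    rw [coe_pe]
    exact hcol _ _ a1 fun j => by simpa [ps_zero] using hwa1 j) ha1
  have hA2 := hgen a2 (0, (0, 1)) (by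
    rw [coe_pe]
    exact hcol _ _ a2 fun j => by simpa [ps_zero] using hwa2 j) ha2
  have hpow : ∀ (b : GL I9 F), b ^ 3 = 1 → ∀ t : ZMod 3, b * b ^ t.val = b ^ (t + 1).val := by
    intro b hb t
    rw [← pow_succ', ZMod.val_add, show (1 : ZMod 3).val = 1 from rfl, ← pow_eq_pow_mod _ hb]
  have hb12 : b1 * b2 = b2 * b1 := br_zero.1 h12'
  have hB1 := hgen b1 ((1, 0), 0) (by
    rw [coe_pe]
    refine hcol _ _ b1 fun j => ?_
    simp only [Prod.snd_zero, Prod.fst_zero, hz0, one_mul, one_smul, add_zero]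
    show (b1 : Matrix I9 I9 F) *ᵥ ((W j : Matrix I9 I9 F) *ᵥ v) = (W (j.1 + 1, j.2) : Matrix I9 I9 F) *ᵥ v
    rw [Matrix.mulVec_mulVec, ← Units.val_mul]
    congr 2
    show b1 * (b1 ^ j.1.val * b2 ^ j.2.val) = b1 ^ (j.1 + 1).val * b2 ^ j.2.val
    rw [← mul_assoc, hpow b1 (hexp _ hb1)]) hb1
  have hB2 := hgen b2 (0, (1, 0)) (by
    rw [coe_pe]
    refine hcol _ _ b2 fun j => ?_
    simp only [Prod.snd_zero, Prod.fst_zero, hz0, one_mul, one_smul, add_zero]
    show (b2 : Matrix I9 I9 F) *ᵥ ((W j : Matrix I9 I9 F) *ᵥ v) = (W (j.1, j.2 + 1) : Matrix I9 I9 F) *ᵥ v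
    rw [Matrix.mulVec_mulVec, ← Units.val_mul]
    congr 2
    show b2 * (b1 ^ j.1.val * b2 ^ j.2.val) = b1 ^ j.1.val * b2 ^ (j.2 + 1).val
    rw [← mul_assoc, ((Commute.pow_left hb12 j.1.val).symm : Commute b2 (b1 ^ j.1.val)).eq, mul_assoc,
      hpow b2 (hexp _ hb2)]) hb2
  set T := R.comap (MulAut.conj P).toMonoidHom with hT
  have hscT : ∀ k, sc (ou h k) ∈ T := fun k => by
    show P * sc (ou h k) * P⁻¹ ∈ R
    rw [← sc_comm, mul_inv_cancel_right]; exact hscR k
  have hle : std h ≤ T := by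
    rw [std, Subgroup.closure_le]
    rintro _ ⟨k, ⟨⟨p, q⟩, ⟨r, s⟩⟩, rfl⟩
    refine T.mul_mem (hscT k) ?_
    have hpeT : ∀ x y : W4, pe h x ∈ T → pe h y ∈ T → pe h (x + y) ∈ T := fun x y hx hy => by
      obtain ⟨m, hm⟩ : ∃ m, pe h x * pe h y = sc (ou h m) * pe h (x + y) :=
        ⟨x.1.2 * y.1.1 + x.2.2 * y.2.1, by rw [pe_mul, ← ou_add]⟩
      have := T.mul_mem (hscT (-m)) (T.mul_mem hx hy)
      rwa [hm, ← mul_assoc, sc_mul, ← ou_add, neg_add_cancel, ou_zero, sc_one, one_mul] at this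
    have hsmul : ∀ (x : W4) (t : ZMod 3), pe h x ∈ T → pe h (t • x) ∈ T := fun x t hx => by
      rcases ps_cases t with rfl | rfl | rfl
      · rw [zero_smul, pe_zero]; exact T.one_mem
      · rwa [one_smul]
      · rw [show (2 : ZMod 3) = 1 + 1 from rfl, add_smul, one_smul]; exact hpeT _ _ hx hx
    have := hpeT _ _ (hpeT _ _ (hsmul _ p hB1) (hsmul _ q hA1)) (hpeT _ _ (hsmul _ r hB2) (hsmul _ s hA2))
    simpa using this
  symm
  refine Subgroup.eq_of_le_of_card_ge (Subgroup.map_le_iff_le_comap.2 hle) ?_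
  rw [hcard, Subgroup.card_map_of_injective (MulAut.conj P).injective, card_std]

end CfsgLib.NineSymp
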