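import Cfsg.Agent.Lib.NineSymp.Sys

/-!
The one-qutrit and two-qutrit shift-and-phase families and the standard members of their normalisers.
-/

set_option autoImplicit false
set_option linter.unusedSectionVars false
set_option linter.unusedSimpArgs false
set_option linter.flexible false

namespace CfsgLib.NineSymp

open Matrix

variable {F : Type*} [Field F] {ω : F}

theorem gpm_zero (h : Om ω) : gpm h (0 : V2) = 1 := Units.ext (by simp [pm_zero])

theorem gpm_comm (h : Om ω) (v w : V2) : gpm h v * gpm h w = sc (ou h (sp v w)) * (gpm h w * gpm h v) :=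
  eq_sc_mul (by simp [ou, pm_comm h v w])

theorem gpm_cube (h : Om ω) (v : V2) : gpm h v ^ 3 = 1 := by
  rw [pow_succ, pow_two, gpm_mul, mul_assoc, gpm_mul, ← mul_assoc, sc_mul, ← ou_add,
    show v.2 * v.1 + (v + v).2 * v.1 = 0 from (show ∀ u : V2, u.2 * u.1 + (u + u).2 * u.1 = 0 by decide) v,
    show v + v + v = 0 from (show ∀ u : V2, u + u + u = 0 by decide) v, ou_zero, sc_one, one_mul, gpm_zero]

theorem pe_cube (h : Om ω) (v : W4) : pe h v ^ 3 = 1 := by
  have e : Commute (lf (gpm h v.1)) (rf (gpm h v.2)) := lf_rf_comm _ _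
  rw [pe, e.mul_pow, ← map_pow lf, ← map_pow rf, gpm_cube, gpm_cube, map_one, map_one, mul_one]

theorem trace_gpm (h : Om ω) {v : V2} (hv : v ≠ 0) : (gpm h v : Matrix (ZMod 3) (ZMod 3) F).trace = 0 := by
  obtain ⟨a, b⟩ := v
  rw [coe_gpm, Matrix.trace]
  simp only [Matrix.diag, pm, mono]
  by_cases ha : a = 0
  · subst ha
    simp only [add_zero, if_true]
    rw [sum_ps h, if_neg (by rintro rfl; exact hv rfl)]
  · exact Finset.sum_eq_zero fun x _ => if_neg fun e => ha (by linear_combination -e)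

theorem dual_two (χ : V2 → ZMod 3) (hχ : ∀ v w, χ (v + w) = χ v + χ w) : ∃ u, ∀ v, sp u v = χ v := by
  refine ⟨(-χ (0, 1), χ (1, 0)), fun v => ?_⟩
  let f : V2 →+ ZMod 3 := AddMonoidHom.mk' χ hχ
  have e : v = v.1 • ((1, 0) : V2) + v.2 • ((0, 1) : V2) := by ext <;> simp
  show _ = f v
  rw [e, map_add, ZMod.map_smul, ZMod.map_smul, ← e]
  simp only [sp, f, AddMonoidHom.mk'_apply, smul_eq_mul]
  ring

theorem dual_four (χ : W4 → ZMod 3) (hχ : ∀ v w, χ (v + w) = χ v + χ w) : ∃ u, ∀ v, sp4 u v = χ v := by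
  obtain ⟨a, ha⟩ := dual_two (fun v => χ (v, 0)) fun v w => by rw [← hχ]; exact congrArg χ (Prod.ext rfl (zero_add _).symm)
  obtain ⟨b, hb⟩ := dual_two (fun v => χ (0, v)) fun v w => by rw [← hχ]; exact congrArg χ (Prod.ext (zero_add _).symm rfl)
  refine ⟨(a, b), fun v => ?_⟩
  rw [sp4, ha, hb, ← hχ, Prod.mk_add_mk, add_zero, zero_add]

theorem irr_three (h : Om ω) (M : Matrix (ZMod 3) (ZMod 3) F)
    (hM : ∀ v, pm ω v * M = M * pm ω v) : ∃ c : F, M = c • 1 := by
  refine ⟨M 0 0, ?_⟩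
  have hsh : ∀ s i, M (i + s) (i + s) = M i i := by
    intro s i
    have e := congrFun (congrFun (hM (s, 0)) (i + s)) i
    rw [pm, show (fun j => j + ((s, 0) : V2).1) = ((Equiv.addRight s : ZMod 3 ≃ ZMod 3) : ZMod 3 → ZMod 3) from rfl,
      mono_mul_apply, mul_mono_apply] at e
    simpa [ps_zero] using e.symm
  ext i j
  by_cases hij : i = j
  · subst hij
    rw [Matrix.smul_apply, Matrix.one_apply_eq, smul_eq_mul, mul_one]
    simpa using hsh i 0
  · rw [Matrix.smul_apply, Matrix.one_apply_ne hij, smul_zero]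
    have e := congrFun (congrFun (hM (0, 1)) i) j
    rw [pm, show (fun k => k + ((0, 1) : V2).1) = ((Equiv.refl (ZMod 3)) : ZMod 3 → ZMod 3) from funext fun k => add_zero k,
      mono_mul_apply, mul_mono_apply] at e
    simp only [Equiv.refl_symm, Equiv.refl_apply, one_mul] at e
    by_contra hne
    refine hij ?_
    have h2 : ps ω i = ps ω j := mul_right_cancel₀ hne (by rw [e, mul_comm])
    exact ou_injective h (Units.ext h2)

theorem irr_nine (h : Om ω) (M : Matrix I9 I9 F)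
    (hM : ∀ v, (pe h v : Matrix I9 I9 F) * M = M * (pe h v : Matrix I9 I9 F)) : ∃ c : F, M = c • 1 := by
  refine ⟨M 0 0, ?_⟩
  have hsh : ∀ s i : I9, M (i + s) (i + s) = M i i := by
    intro s i
    have e := congrFun (congrFun (hM ((s.1, 0), (s.2, 0))) (i + s)) i
    rw [coe_pe, show (fun j : I9 => (j.1 + s.1, j.2 + s.2)) = ((Equiv.addRight s : I9 ≃ I9) : I9 → I9) from rfl,
      mono_mul_apply, mul_mono_apply] at e
    simpa [ps_zero] using e.symm
  have hdiag : ∀ b d : ZMod 3, ∀ i j : I9, (ps ω (b * i.1) * ps ω (d * i.2)) * M i j =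
      M i j * (ps ω (b * j.1) * ps ω (d * j.2)) := by
    intro b d i j
    have e := congrFun (congrFun (hM ((0, b), (0, d))) i) j
    rw [coe_pe, show (fun k : I9 => (k.1 + 0, k.2 + 0)) = ((Equiv.refl I9) : I9 → I9) from
      funext fun k => by simp, mono_mul_apply, mul_mono_apply] at e
    simpa using e
  ext i j
  by_cases hij : i = j
  · subst hij
    rw [Matrix.smul_apply, Matrix.one_apply_eq, smul_eq_mul, mul_one]
    simpa using hsh i 0
  · rw [Matrix.smul_apply, Matrix.one_apply_ne hij, smul_zero]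
    by_contra hne
    refine hij (Prod.ext ?_ ?_)
    · have e := hdiag 1 0 i j
      simp only [one_mul, zero_mul, ps_zero, mul_one] at e
      exact ou_injective h (Units.ext (mul_right_cancel₀ hne (show ps ω _ * M i j = ps ω _ * M i j from e.trans (mul_comm _ _))))
    · have e := hdiag 0 1 i j
      simp only [one_mul, zero_mul, ps_zero, mul_one] at e
      exact ou_injective h (Units.ext (mul_right_cancel₀ hne (show ps ω _ * M i j = ps ω _ * M i j from e.trans (mul_comm _ _))))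

/-- The one-qutrit family. -/
@[reducible] def sys3 (h : Om ω) : Sys F V2 (ZMod 3) where
  root := ω
  hom := h
  op := gpm h
  form := sp
  op_add v w := ⟨_, gpm_mul h v w⟩
  op_comm := gpm_comm h
  op_cube := gpm_cube h
  op_zero := gpm_zero h
  op_trace v hv := trace_gpm h hv
  irr M hM := irr_three h M fun v => by simpa using hM v
  dual := dual_two
  card_ne := by simpa using h.three
  card_eq := by decide

/-- The two-qutrit family. -/
@[reducible] def sys9 (h : Om ω) : Sys F W4 I9 where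
  root := ω
  hom := h
  op := pe h
  form := sp4
  op_add v w := ⟨_, pe_mul h v w⟩
  op_comm := pe_comm h
  op_cube := pe_cube h
  op_zero := pe_zero h
  op_trace v hv := trace_pe h hv
  irr := irr_nine h
  dual := dual_four
  card_ne := by
    have : Fintype.card I9 = 3 * 3 := by decide
    rw [this, Nat.cast_mul]
    exact mul_ne_zero (by simpa using h.three) (by simpa using h.three)
  card_eq := by decide

/-- The normaliser of the one-qutrit family. -/
abbrev N3 (h : Om ω) : Subgroup (GL (ZMod 3) F) := (sys3 h).norm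

/-- The normaliser of the two-qutrit family. -/
abbrev N9 (h : Om ω) : Subgroup (GL I9 F) := (sys9 h).norm

variable (h : Om ω)

theorem mv_fo (v : V2) : (sys3 h).Mv (fo h) v (foL v) := ⟨_, fo_conj h v⟩

theorem mv_rz (v : V2) : (sys3 h).Mv (rz h 0) v (rzL v) := ⟨_, rz_conj h v⟩

theorem mv_jj (v : V2) : (sys3 h).Mv jj v (-v) := ⟨1, by rw [sc_one, one_mul]; exact jj_conj h v⟩

theorem fo_mem : fo h ∈ N3 h := Sys.mem_norm fun v => ⟨_, mv_fo h v⟩

theorem rz_mem : rz h 0 ∈ N3 h := Sys.mem_norm fun v => ⟨_, mv_rz h v⟩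

theorem gpm_mem (u : V2) : gpm h u ∈ N3 h := Sys.op_mem_norm (S := sys3 h) u

theorem mv_lf {g : GL (ZMod 3) F} {v w : V2} (hg : (sys3 h).Mv g v w) (u : V2) :
    (sys9 h).Mv (lf g) (v, u) (w, u) := by
  obtain ⟨c, hc⟩ := hg
  refine ⟨c, ?_⟩
  show lf g * (lf (gpm h v) * rf (gpm h u)) * (lf g)⁻¹ = sc c * (lf (gpm h w) * rf (gpm h u))
  rw [show lf g * (lf (gpm h v) * rf (gpm h u)) * (lf g)⁻¹ = lf g * lf (gpm h v) * (rf (gpm h u) * lf g⁻¹) by
      rw [map_inv]; group, ← lf_rf_comm, ← mul_assoc, ← map_mul, ← map_mul, show g * gpm h v * g⁻¹ = _ from hc, map_mul, lf_sc,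
    mul_assoc]

theorem mv_rf {g : GL (ZMod 3) F} {v w : V2} (hg : (sys3 h).Mv g v w) (u : V2) :
    (sys9 h).Mv (rf g) (u, v) (u, w) := by
  obtain ⟨c, hc⟩ := hg
  refine ⟨c, ?_⟩
  show rf g * (lf (gpm h u) * rf (gpm h v)) * (rf g)⁻¹ = sc c * (lf (gpm h u) * rf (gpm h w))
  rw [← mul_assoc (rf g), ← lf_rf_comm, mul_assoc, mul_assoc, ← map_inv, ← map_mul, ← map_mul,
    show g * (gpm h v * g⁻¹) = sc c * gpm h w from (mul_assoc _ _ _).symm.trans hc, map_mul, rf_sc, ← mul_assoc (lf (gpm h u)), ← sc_comm,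
    mul_assoc]

theorem lf_mem {g : GL (ZMod 3) F} (hg : g ∈ N3 h) : lf g ∈ N9 h := Sys.mem_norm fun v => by
  obtain ⟨w, hw⟩ := hg.1 v.1
  exact ⟨(w, v.2), mv_lf h hw v.2⟩

theorem rf_mem {g : GL (ZMod 3) F} (hg : g ∈ N3 h) : rf g ∈ N9 h := Sys.mem_norm fun v => by
  obtain ⟨w, hw⟩ := hg.1 v.2
  exact ⟨(v.1, w), mv_rf h hw v.1⟩

theorem mv_sw (v : W4) : (sys9 h).Mv sw v v.swap := ⟨1, by rw [sc_one, one_mul]; exact pe_swap h v⟩

theorem sw_mem : sw ∈ N9 h := Sys.mem_norm fun v => ⟨_, mv_sw h v⟩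

theorem mv_cp (v : W4) : (sys9 h).Mv (cp h) v (cpL v) := ⟨_, cp_conj h v⟩

theorem cp_mem : cp h ∈ N9 h := Sys.mem_norm fun v => ⟨_, mv_cp h v⟩

end CfsgLib.NineSymp
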