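import Cfsg.Agent.Lib.NineSymp.Fusion

/-!
The small representation of the centraliser of the first-coordinate inversion.
-/

set_option autoImplicit false
set_option linter.unusedSectionVars false
set_option linter.unusedSimpArgs false
set_option linter.flexible false

namespace CfsgLib.NineSymp

open Matrix

variable {F : Type*} [Field F] {ω : F}

theorem entry_flip {g : GL I9 F} (hg : g * lf jj = lf jj * g) (i j : I9) :
    (g : Matrix I9 I9 F) (-i.1, i.2) (-j.1, j.2) = (g : Matrix I9 I9 F) i j := by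
  have hJ : ((lf jj : GL I9 F) : Matrix I9 I9 F) =
      mono (((Equiv.neg (ZMod 3)).prodCongr (Equiv.refl (ZMod 3)) : I9 ≃ I9) : I9 → I9) fun _ => 1 :=
    coe_lf_perm (Equiv.neg (ZMod 3)) jj rfl
  have e := congrArg (fun x : GL I9 F => (x : Matrix I9 I9 F) (-i.1, i.2) j) hg
  simp only [Units.val_mul, hJ] at e
  rw [mul_mono_apply, mono_mul_apply] at e
  simpa [Prod.map] using e

theorem phiM_mul {g k : GL I9 F} (hg : g * lf jj = lf jj * g) (hk : k * lf jj = lf jj * k) : phiM (g * k) = phiM g * phiM k := by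
  have e01 : ∀ c b : ZMod 3, (k : Matrix I9 I9 F) (0, c) (1, b) = (k : Matrix I9 I9 F) (0, c) (2, b) := fun c b => by
    have := entry_flip hk (0, c) (2, b)
    simpa [show (-(2 : ZMod 3)) = 1 from rfl] using this
  have e12 : ∀ c b : ZMod 3, (k : Matrix I9 I9 F) (1, c) (1, b) = (k : Matrix I9 I9 F) (2, c) (2, b) := fun c b => by
    have := entry_flip hk (2, c) (2, b)
    simpa [show (-(2 : ZMod 3)) = 1 from rfl] using this
  have e21 : ∀ c b : ZMod 3, (k : Matrix I9 I9 F) (2, c) (1, b) = (k : Matrix I9 I9 F) (1, c) (2, b) := fun c b => by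
    have := entry_flip hk (1, c) (2, b)
    simpa [show (-(2 : ZMod 3)) = 1 from rfl, show (-(1 : ZMod 3)) = 2 from rfl] using this
  have e00 : ∀ c b : ZMod 3, (k : Matrix I9 I9 F) (1, c) (0, b) = (k : Matrix I9 I9 F) (2, c) (0, b) := fun c b => by
    have := entry_flip hk (2, c) (0, b)
    simpa [show (-(2 : ZMod 3)) = 1 from rfl] using this
  have g0 : ∀ a c : ZMod 3, (g : Matrix I9 I9 F) (0, a) (1, c) = (g : Matrix I9 I9 F) (0, a) (2, c) := fun a c => by
    have := entry_flip hg (0, a) (2, c)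
    simpa [show (-(2 : ZMod 3)) = 1 from rfl] using this
  ext a b
  by_cases h2 : (2 : F) = 0
  · simp only [phiM, if_pos h2, Matrix.mul_apply, Units.val_mul, Fintype.sum_prod_type, sum_three, e00, g0]
    linear_combination ((g : Matrix I9 I9 F) (0, a) (2, 0) * (k : Matrix I9 I9 F) (2, 0) (0, b) +
      (g : Matrix I9 I9 F) (0, a) (2, 1) * (k : Matrix I9 I9 F) (2, 1) (0, b) +
      (g : Matrix I9 I9 F) (0, a) (2, 2) * (k : Matrix I9 I9 F) (2, 2) (0, b)) * h2
  · simp only [phiM, if_neg h2, Matrix.mul_apply, Units.val_mul, Fintype.sum_prod_type, sum_three, e01, e12, e21]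
    ring

theorem phiM_one : phiM (1 : GL I9 F) = 1 := by
  ext a b
  by_cases h2 : (2 : F) = 0 <;> simp [phiM, h2, Matrix.one_apply, Prod.ext_iff, z3_ne]

theorem phiM_rf (u : GL (ZMod 3) F) : phiM (rf u) = (u : Matrix (ZMod 3) (ZMod 3) F) := by
  ext a b
  by_cases h2 : (2 : F) = 0 <;> simp [phiM, h2, rf_apply_apply, z3_ne]

theorem phiM_lf (α : GL (ZMod 3) F) : ∃ c : F, phiM (lf α) = c • 1 := by
  by_cases h2 : (2 : F) = 0
  · refine ⟨(α : Matrix (ZMod 3) (ZMod 3) F) 0 0, ?_⟩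
    ext a b
    simp [phiM, h2, coe_lf, Matrix.one_apply]
  · refine ⟨(α : Matrix (ZMod 3) (ZMod 3) F) 1 1 - (α : Matrix (ZMod 3) (ZMod 3) F) 1 2, ?_⟩
    ext a b
    by_cases hab : a = b <;> simp [phiM, h2, coe_lf, Matrix.one_apply, hab]

/-- The matrices commuting with the first-coordinate inversion. -/
def cjj : Subgroup (GL I9 F) := Subgroup.centralizer {lf jj}

theorem mem_cjj {g : GL I9 F} : g ∈ cjj (F := F) ↔ g * lf jj = lf jj * g := by
  rw [cjj, Subgroup.mem_centralizer_singleton_iff]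

/-- The small representation. -/
noncomputable def phi : cjj (F := F) →* GL (ZMod 3) F :=
  MonoidHom.toHomUnits
    { toFun := fun g => phiM (g : GL I9 F)
      map_one' := phiM_one
      map_mul' := fun g k => phiM_mul (mem_cjj.1 g.2) (mem_cjj.1 k.2) }

@[simp] theorem coe_phi (g : cjj (F := F)) :
    ((phi g : GL (ZMod 3) F) : Matrix (ZMod 3) (ZMod 3) F) = phiM (g : GL I9 F) := rfl

theorem rf_mem_cjj (u : GL (ZMod 3) F) : rf u ∈ cjj (F := F) := mem_cjj.2 (lf_rf_comm _ _).symm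

theorem phi_rf (u : GL (ZMod 3) F) : phi ⟨rf u, rf_mem_cjj u⟩ = u := Units.ext (phiM_rf u)

theorem phi_sc (c : Fˣ) (hc : (sc c : GL I9 F) ∈ cjj (F := F)) : phi ⟨sc c, hc⟩ = sc c := by
  refine Units.ext ?_
  rw [coe_phi]
  show phiM (sc c : GL I9 F) = _
  rw [← rf_sc, phiM_rf]

theorem phi_lf {α : GL (ZMod 3) F} (hα : lf α ∈ cjj (F := F)) : ∃ c, phi ⟨lf α, hα⟩ = sc c := by
  obtain ⟨c, hc⟩ := phiM_lf α
  have hne : c ≠ 0 := fun h0 => by
    rw [h0, zero_smul] at hc
    exact (phi ⟨lf α, hα⟩).ne_zero hc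
  exact ⟨Units.mk0 c hne, Units.ext (by rw [coe_phi, coe_sc]; exact hc)⟩

end CfsgLib.NineSymp
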