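import Cfsg.Agent.Lib.NineSymp.Words

/-!
The hypotheses under which an overgroup of the two-qutrit normaliser is studied, and the block structure of the
centraliser of the phase of the first coordinate.
-/

set_option autoImplicit false
set_option linter.unusedSectionVars false
set_option linter.unusedSimpArgs false
set_option linter.flexible false

namespace CfsgLib.NineSymp

open Matrix

variable {F : Type*} [Field F] {ω : F}

/-- A diagonal sign matrix. -/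
def dsg : GL (ZMod 3) F where
  val := diagonal fun i => if i = 0 then 1 else -1
  inv := diagonal fun i => if i = 0 then 1 else -1
  val_inv := by
    rw [diagonal_mul_diagonal, ← diagonal_one]
    congr 1
    funext i
    split_ifs <;> ring
  inv_val := by
    rw [diagonal_mul_diagonal, ← diagonal_one]
    congr 1
    funext i
    split_ifs <;> ring

/-- The restriction of a centraliser element of the first-coordinate inversion to its small eigenspace, or to the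
middle factor in characteristic two. -/
noncomputable def phiM (g : GL I9 F) : Matrix (ZMod 3) (ZMod 3) F := open scoped Classical in
  fun a b => if (2 : F) = 0 then (g : Matrix I9 I9 F) (0, a) (0, b)
    else (g : Matrix I9 I9 F) (1, a) (1, b) - (g : Matrix I9 I9 F) (1, a) (2, b)

/-- The block supported at a single place. -/
def one1 (x : ZMod 3) (g : GL (ZMod 3) F) : GL I9 F := gbd (Pi.mulSingle x g)

/-- The hypotheses on an overgroup. -/
structure Ctx (h : Om ω) where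
  X : Subgroup (GL I9 F)
  G3 : Subgroup (GL (ZMod 3) F)
  S3 : Subgroup (GL (ZMod 3) F)
  sc_mem : ∀ c, sc c ∈ X
  pe_mem : ∀ v, pe h v ∈ X
  fo_mem : rf (fo h) ∈ X
  rz_mem : rf (rz h 0) ∈ X
  sw_mem : sw ∈ X
  cp_mem : cp h ∈ X
  blk : ∀ g : ZMod 3 → GL (ZMod 3) F, gbd g ∈ X → ∀ x, g x ∈ G3
  mid : ∀ g ∈ X, g * lf jj = lf jj * g → ∃ u ∈ G3, (u : Matrix (ZMod 3) (ZMod 3) F) = phiM g
  base : ∀ H : Subgroup (GL (ZMod 3) F), H ≤ G3 → (∀ c, sc c ∈ H) → (∀ v, gpm h v ∈ H) → fo h ∈ H → rz h 0 ∈ H →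
    H ≤ N3 h ∨ ((2 : F) ≠ 0 ∧ S3 ≤ H)
  comm : ∀ a ∈ G3, ∀ b ∈ G3, a * b * a⁻¹ * b⁻¹ ∈ S3
  perfect : (2 : F) ≠ 0 → S3 ≤ ⁅S3, S3⁆
  simple : (2 : F) ≠ 0 → ∀ N : Subgroup (GL (ZMod 3) F), N ≤ S3 → (∀ s ∈ S3, ∀ n ∈ N, s * n * s⁻¹ ∈ N) →
    (∀ n ∈ N, ∃ c, n = sc c) ∨ S3 ≤ N
  sgn : (2 : F) ≠ 0 → dsg ∈ S3
  fo3 : (2 : F) ≠ 0 → fo h ∈ S3
  nosingle : (2 : F) ≠ 0 → ¬ ∀ x, ∀ s ∈ S3, one1 x s ∈ X
  nojj : (2 : F) = 0 → one1 2 jj ∈ X → (∀ x v, one1 x (gpm h v) ∈ X) → False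

theorem lf_rf_eq {h : Om ω} (v : V2) :
    lf (gpm h v) = pe h (v, 0) ∧ rf (gpm h v) = pe h (0, v) := by
  constructor <;> simp [pe, gpm_zero]

theorem swap_lf (g : GL (ZMod 3) F) : (sw : GL I9 F) * lf g * sw⁻¹ = rf g := by
  rw [lf_apply, sw_inv]
  calc (sw : GL I9 F) * (sw * rf g * sw) * sw = sw * sw * rf g * (sw * sw) := by group
    _ = _ := by rw [sw_mul_sw, one_mul, mul_one]

theorem swap_rf (g : GL (ZMod 3) F) : (sw : GL I9 F) * rf g * sw⁻¹ = lf g := (lf_apply g).symm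

namespace Ctx

variable {h : Om ω} (K : Ctx h)

theorem rf_norm {g : GL (ZMod 3) F} (hg : g ∈ N3 h) : rf g ∈ K.X :=
  norm_three_le h (H := K.X.comap rf) (fun c => by rw [Subgroup.mem_comap, rf_sc]; exact K.sc_mem c)
    (fun v => by rw [Subgroup.mem_comap, (lf_rf_eq v).2]; exact K.pe_mem _) K.fo_mem K.rz_mem hg

theorem lf_of_rf {g : GL (ZMod 3) F} (hg : rf g ∈ K.X) : lf g ∈ K.X := by
  rw [← swap_rf]
  exact K.X.mul_mem (K.X.mul_mem K.sw_mem hg) (K.X.inv_mem K.sw_mem)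

theorem lf_norm {g : GL (ZMod 3) F} (hg : g ∈ N3 h) : lf g ∈ K.X := K.lf_of_rf (K.rf_norm hg)

theorem jj_mem_N3 : (jj : GL (ZMod 3) F) ∈ N3 h := Sys.mem_norm fun v => ⟨_, mv_jj h v⟩

theorem move {v : W4} (hv : v ≠ 0) : ∃ g ∈ K.X, g ∈ N9 h ∧ (sys9 h).Mv g ((0, 1), 0) v :=
  exists_move h K.fo_mem K.rz_mem K.sw_mem K.cp_mem hv

end Ctx

theorem coe_lf_perm (π : ZMod 3 ≃ ZMod 3) (P : GL (ZMod 3) F)
    (hP : (P : Matrix (ZMod 3) (ZMod 3) F) = mono π fun _ => 1) :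
    (lf P : Matrix I9 I9 F) = mono ((π.prodCongr (Equiv.refl _) : I9 ≃ I9) : I9 → I9) fun _ => 1 := by
  ext ⟨i, a⟩ ⟨j, b⟩
  simp only [coe_lf, hP, mono, Equiv.prodCongr_apply, Prod.map, Equiv.refl_apply, Prod.mk.injEq]
  split_ifs <;> simp_all

/-- Conjugation by a permutation of the first coordinate permutes the blocks. -/
theorem lf_perm_conj (π : ZMod 3 ≃ ZMod 3) (P : GL (ZMod 3) F)
    (hP : (P : Matrix (ZMod 3) (ZMod 3) F) = mono π fun _ => 1) (g : ZMod 3 → GL (ZMod 3) F) :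
    lf P * gbd g * (lf P)⁻¹ = gbd fun x => g (π.symm x) := by
  rw [mul_inv_eq_iff_eq_mul]
  refine Units.ext ?_
  ext ⟨i, a⟩ ⟨j, b⟩
  rw [Units.val_mul, Units.val_mul, coe_lf_perm π P hP, mono_mul_apply, mul_mono_apply]
  simp only [coe_gbd, bd, Equiv.prodCongr_symm, Equiv.prodCongr_apply, Prod.map, Equiv.refl_symm, Equiv.refl_apply,
    one_mul, mul_one]
  by_cases hij : π.symm i = j
  · rw [if_pos hij, if_pos (by rw [← hij, Equiv.apply_symm_apply])]
  · rw [if_neg hij, if_neg (fun e => hij (by rw [e, Equiv.symm_apply_apply]))]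

theorem shift_conj (h : Om ω) (s : ZMod 3) (g : ZMod 3 → GL (ZMod 3) F) :
    lf (gpm h (s, 0)) * gbd g * (lf (gpm h (s, 0)))⁻¹ = gbd fun x => g (x - s) := by
  rw [lf_perm_conj (Equiv.addRight s) _ (by
    rw [coe_gpm, pm]
    congr 1
    funext j
    rw [zero_mul, ps_zero]) g]
  simp [sub_eq_add_neg]

theorem flip_conj (g : ZMod 3 → GL (ZMod 3) F) : lf jj * gbd g * (lf jj)⁻¹ = gbd fun x => g (-x) := by
  rw [lf_perm_conj (Equiv.neg (ZMod 3)) jj rfl g]
  rfl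

theorem one1_apply (x : ZMod 3) (g : GL (ZMod 3) F) : one1 x g = gbd (Pi.mulSingle x g) := rfl

theorem prod_one1 (g : ZMod 3 → GL (ZMod 3) F) : gbd g = one1 0 (g 0) * one1 1 (g 1) * one1 2 (g 2) := by
  rw [one1, one1, one1, ← map_mul, ← map_mul]
  congr 1
  funext x
  simp only [Pi.mul_apply]
  rcases ps_cases x with rfl | rfl | rfl
  · simp [Pi.mulSingle_eq_of_ne (show (0 : ZMod 3) ≠ 1 by decide), Pi.mulSingle_eq_of_ne (show (0 : ZMod 3) ≠ 2 by decide)]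
  · simp [Pi.mulSingle_eq_of_ne (show (1 : ZMod 3) ≠ 0 by decide), Pi.mulSingle_eq_of_ne (show (1 : ZMod 3) ≠ 2 by decide)]
  · simp [Pi.mulSingle_eq_of_ne (show (2 : ZMod 3) ≠ 0 by decide), Pi.mulSingle_eq_of_ne (show (2 : ZMod 3) ≠ 1 by decide)]

theorem coe_axis (h : Om ω) :
    (pe h ((0, 1), 0) : Matrix I9 I9 F) = mono ((Equiv.refl I9) : I9 → I9) fun j => ps ω j.1 := by
  rw [coe_pe]
  congr 1
  · funext j; simp
  · funext j; simp [ps_zero]

/-- The blocks of a matrix commuting with the phase of the first coordinate. -/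
theorem exists_blocks (h : Om ω) {g : GL I9 F} (hg : g * pe h ((0, 1), 0) = pe h ((0, 1), 0) * g) :
    ∃ gx, g = gbd gx := by
  have key : ∀ u : GL I9 F, u * pe h ((0, 1), 0) = pe h ((0, 1), 0) * u → ∀ i j : I9, i.1 ≠ j.1 →
      (u : Matrix I9 I9 F) i j = 0 := by
    intro u hu i j hij
    have e := congrArg (fun x : GL I9 F => (x : Matrix I9 I9 F) i j) hu
    simp only [Units.val_mul, coe_axis, mul_mono_apply, mono_mul_apply, Equiv.refl_symm, Equiv.refl_apply] at e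
    by_contra hne
    exact hij (ou_injective h (Units.ext (mul_right_cancel₀ hne
      (show ps ω i.1 * (u : Matrix I9 I9 F) i j = ps ω j.1 * (u : Matrix I9 I9 F) i j by rw [← e, mul_comm]))))
  have hgi : g⁻¹ * pe h ((0, 1), 0) = pe h ((0, 1), 0) * g⁻¹ := by
    calc g⁻¹ * pe h ((0, 1), 0) = g⁻¹ * (pe h ((0, 1), 0) * g) * g⁻¹ := by group
      _ = _ := by rw [← hg]; group
  let blk : Matrix I9 I9 F → ZMod 3 → Matrix (ZMod 3) (ZMod 3) F := fun M x a b => M (x, a) (x, b)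
  have hbd : ∀ u : GL I9 F, u * pe h ((0, 1), 0) = pe h ((0, 1), 0) * u →
      (u : Matrix I9 I9 F) = bd (blk (u : Matrix I9 I9 F)) := by
    intro u hu
    ext ⟨i, a⟩ ⟨j, b⟩
    by_cases hij : i = j
    · subst hij; simp [bd, blk]
    · rw [key u hu _ _ hij]; simp [bd, hij]
  have h1 : ∀ u v : GL I9 F, u * pe h ((0, 1), 0) = pe h ((0, 1), 0) * u →
      v * pe h ((0, 1), 0) = pe h ((0, 1), 0) * v → u * v = 1 →
      ∀ x, blk (u : Matrix I9 I9 F) x * blk (v : Matrix I9 I9 F) x = 1 := by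
    intro u v hu hv huv x
    have e := congrArg Units.val huv
    rw [Units.val_mul, Units.val_one, hbd u hu, hbd v hv, bd_mul, ← bd_one] at e
    exact congrFun (bd_injective e) x
  exact ⟨fun x => ⟨blk (g : Matrix I9 I9 F) x, blk ((g⁻¹ : GL I9 F) : Matrix I9 I9 F) x,
    h1 g g⁻¹ hg hgi (mul_inv_cancel g) x, h1 g⁻¹ g hgi hg (inv_mul_cancel g) x⟩, Units.ext (hbd g hg)⟩

end CfsgLib.NineSymp
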