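import Cfsg.Agent.Lib.NineSymp.Gens

/-!
A family of matrices indexed by a finite elementary abelian group, multiplicative up to scalars and with irreducible
span, and the matrices permuting that family up to scalars.
-/

set_option autoImplicit false
set_option linter.unusedSectionVars false
set_option linter.unusedSimpArgs false
set_option linter.flexible false
set_option linter.style.haveILetI false

namespace CfsgLib.NineSymp

open Matrix

variable {F : Type*} [Field F] {ω : F}

theorem sc_injective {ι : Type} [Fintype ι] [DecidableEq ι] [Nonempty ι] :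
    Function.Injective (sc : Fˣ → GL ι F) := fun c d e => by
  have i : ι := Classical.arbitrary ι
  refine Units.ext ?_
  have := congrArg (fun g : GL ι F => (g : Matrix ι ι F) i i) e
  simpa [coe_sc] using this

theorem sc_conj {ι : Type} [Fintype ι] [DecidableEq ι] (c : Fˣ) (g k : GL ι F) :
    g * (sc c * k) * g⁻¹ = sc c * (g * k * g⁻¹) := by rw [← mul_assoc g, ← sc_comm]; group

theorem ou_zero (h : Om ω) : ou h 0 = 1 := Units.ext (by simp [ou, ps_zero])

theorem ou_add (h : Om ω) (a b : ZMod 3) : ou h (a + b) = ou h a * ou h b :=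
  Units.ext (by simp [ou, ps_add h])

theorem ou_cube (h : Om ω) (a : ZMod 3) : ou h a ^ 3 = 1 := by
  rw [show ou h a ^ 3 = ou h a * ou h a * ou h a by rw [pow_succ, pow_two], ← ou_add, ← ou_add,
    show a + a + a = 0 by revert a; decide, ou_zero]

theorem ou_injective (h : Om ω) : Function.Injective (ou h) := fun a b e => by
  have h1 : ou h (a + -b) = 1 := by rw [ou_add, e, ← ou_add, add_neg_cancel, ou_zero]
  have h2 := congrArg Units.val h1
  simp only [ou, Units.val_mk0, Units.val_one, ps_eq_one h] at h2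
  rwa [← sub_eq_add_neg, sub_eq_zero] at h2

theorem exists_ou (h : Om ω) {c : Fˣ} (e : c ^ 3 = 1) : ∃ k, c = ou h k := by
  have e' : (c : F) ^ 3 = 1 := by rw [← Units.val_pow_eq_pow_val, e, Units.val_one]
  have hf : ((c : F) - 1) * (((c : F) - ω) * ((c : F) - ω ^ 2)) = 0 := by
    linear_combination e' + ((c : F) - (c : F) ^ 2) * h.sum + ((c : F) - 1) * h.cube
  rcases mul_eq_zero.1 hf with h1 | h1
  · exact ⟨0, by rw [ou_zero]; exact Units.ext (sub_eq_zero.1 h1)⟩
  rcases mul_eq_zero.1 h1 with h2 | h2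
  · exact ⟨1, Units.ext (by rw [sub_eq_zero.1 h2]; simp [ou, ps_one])⟩
  · exact ⟨2, Units.ext (by rw [sub_eq_zero.1 h2]; simp [ou, ps_two])⟩

/-- The data. -/
structure Sys (F : Type*) [Field F] (W : Type) [AddCommGroup W] [Fintype W] [DecidableEq W] (ι : Type)
    [Fintype ι] [DecidableEq ι] where
  root : F
  hom : Om root
  op : W → GL ι F
  form : W → W → ZMod 3
  op_add : ∀ v w, ∃ c, op v * op w = sc c * op (v + w)
  op_comm : ∀ v w, op v * op w = sc (ou hom (form v w)) * (op w * op v)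
  op_cube : ∀ v, op v ^ 3 = 1
  op_zero : op 0 = 1
  op_trace : ∀ v, v ≠ 0 → (op v : Matrix ι ι F).trace = 0
  irr : ∀ M : Matrix ι ι F, (∀ v, (op v : Matrix ι ι F) * M = M * (op v : Matrix ι ι F)) → ∃ c : F, M = c • 1
  dual : ∀ χ : W → ZMod 3, (∀ v w, χ (v + w) = χ v + χ w) → ∃ u, ∀ v, form u v = χ v
  card_ne : (Fintype.card ι : F) ≠ 0
  card_eq : Fintype.card W = Fintype.card ι * Fintype.card ι

namespace Sys

variable {W : Type} [AddCommGroup W] [Fintype W] [DecidableEq W] {ι : Type} [Fintype ι] [DecidableEq ι]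
variable (S : Sys F W ι)

include S in
theorem nonempty : Nonempty ι := by
  by_contra hne
  rw [not_nonempty_iff] at hne
  exact S.card_ne (by simp)

theorem eq_zero_of_sc {v : W} {c : Fˣ} (e : S.op v = sc c) : v = 0 := by
  by_contra hv
  have := S.op_trace v hv
  rw [e, coe_sc, Matrix.trace_smul, Matrix.trace_one, smul_eq_mul] at this
  exact mul_ne_zero c.ne_zero S.card_ne this

theorem op_ne_sc_mul {v w : W} {c : Fˣ} (e : S.op v = sc c * S.op w) : v = w := by
  obtain ⟨d, hd⟩ := S.op_add v (-w)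
  obtain ⟨d', hd'⟩ := S.op_add w (-w)
  rw [e, mul_assoc, hd', add_neg_cancel, S.op_zero, mul_one, sc_mul] at hd
  have h1 : S.op (v + -w) = sc (d⁻¹ * (c * d')) := by
    calc S.op (v + -w) = sc d⁻¹ * (sc d * S.op (v + -w)) := by rw [← mul_assoc, sc_mul, inv_mul_cancel, sc_one, one_mul]
      _ = _ := by rw [← hd, sc_mul]
  exact add_neg_eq_zero.1 (S.eq_zero_of_sc h1)

theorem sc_cube {c : Fˣ} {w : W} (e : (sc c * S.op w) ^ 3 = 1) : c ^ 3 = 1 := by
  have := S.nonempty
  refine sc_injective (F := F) (ι := ι) ?_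
  have hc : Commute (sc c : GL ι F) (S.op w) := sc_comm c _
  rw [hc.mul_pow, S.op_cube, mul_one] at e
  rw [show (sc (c ^ 3) : GL ι F) = sc c ^ 3 from map_pow _ _ _, e, sc_one]

/-- `g` carries the member of `v` to that of `w` up to a scalar. -/
def Mv (g : GL ι F) (v w : W) : Prop := ∃ c, g * S.op v * g⁻¹ = sc c * S.op w

variable {S}

theorem Mv.mul {g k : GL ι F} {u v w : W} (hg : S.Mv g v w) (hk : S.Mv k u v) : S.Mv (g * k) u w := by
  obtain ⟨c, hc⟩ := hg
  obtain ⟨d, hd⟩ := hk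
  refine ⟨d * c, ?_⟩
  calc g * k * S.op u * (g * k)⁻¹ = g * (k * S.op u * k⁻¹) * g⁻¹ := by group
    _ = sc d * (g * S.op v * g⁻¹) := by rw [hd, sc_conj]
    _ = _ := by rw [hc, ← mul_assoc, sc_mul]

theorem Mv.inv {g : GL ι F} {v w : W} (hg : S.Mv g v w) : S.Mv g⁻¹ w v := by
  obtain ⟨c, hc⟩ := hg
  refine ⟨c⁻¹, ?_⟩
  have : S.op w = sc c⁻¹ * (g * S.op v * g⁻¹) := by rw [hc, ← mul_assoc, sc_mul, inv_mul_cancel, sc_one, one_mul]
  rw [inv_inv, this, ← mul_assoc g⁻¹, ← sc_comm]
  group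

theorem Mv.unique {g : GL ι F} {v w w' : W} (h1 : S.Mv g v w) (h2 : S.Mv g v w') : w = w' := by
  obtain ⟨c, hc⟩ := h1
  obtain ⟨d, hd⟩ := h2
  refine S.op_ne_sc_mul (c := c⁻¹ * d) ?_
  calc S.op w = sc c⁻¹ * (sc c * S.op w) := by rw [← mul_assoc, sc_mul, inv_mul_cancel, sc_one, one_mul]
    _ = _ := by rw [← hc, hd, ← mul_assoc, sc_mul]

theorem Mv.add {g : GL ι F} {v v' w w' : W} (h1 : S.Mv g v w) (h2 : S.Mv g v' w') : S.Mv g (v + v') (w + w') := by
  obtain ⟨c, hc⟩ := h1
  obtain ⟨d, hd⟩ := h2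
  obtain ⟨a, ha⟩ := S.op_add v v'
  obtain ⟨b, hb⟩ := S.op_add w w'
  refine ⟨a⁻¹ * (c * d * b), ?_⟩
  have e : S.op (v + v') = sc a⁻¹ * (S.op v * S.op v') := by
    rw [ha, ← mul_assoc, sc_mul, inv_mul_cancel, sc_one, one_mul]
  rw [e, sc_conj, show g * (S.op v * S.op v') * g⁻¹ = g * S.op v * g⁻¹ * (g * S.op v' * g⁻¹) by group, hc, hd,
    sc_mul_mul, hb, ← mul_assoc, ← mul_assoc, sc_mul, sc_mul]
  congr 2
  rw [mul_assoc]

theorem Mv.form_eq {g : GL ι F} {v v' w w' : W} (h1 : S.Mv g v w) (h2 : S.Mv g v' w') :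
    S.form w w' = S.form v v' := by
  have := S.nonempty
  obtain ⟨c, hc⟩ := h1
  obtain ⟨d, hd⟩ := h2
  have e := congrArg (fun x => g * x * g⁻¹) (S.op_comm v v')
  simp only [sc_conj] at e
  rw [show g * (S.op v * S.op v') * g⁻¹ = g * S.op v * g⁻¹ * (g * S.op v' * g⁻¹) by group,
    show g * (S.op v' * S.op v) * g⁻¹ = g * S.op v' * g⁻¹ * (g * S.op v * g⁻¹) by group, hc, hd, sc_mul_mul,
    sc_mul_mul, S.op_comm w w'] at e
  simp only [← mul_assoc, sc_mul] at e
  simp only [mul_assoc (sc _ : GL ι F)] at e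
  have e2 := sc_injective (F := F) (ι := ι) (mul_right_cancel e)
  refine ou_injective S.hom ?_
  rw [mul_assoc (ou S.hom (S.form v v')), mul_comm d c, mul_comm (ou S.hom (S.form v v'))] at e2
  exact mul_left_cancel e2

theorem mv_one (v : W) : S.Mv 1 v v := ⟨1, by simp [sc_one]⟩

theorem mv_sc (c : Fˣ) (v : W) : S.Mv (sc c) v v := ⟨1, by rw [sc_comm, sc_one]; group⟩

theorem mv_op (u v : W) : S.Mv (S.op u) v v := ⟨ou S.hom (S.form u v), by
  rw [S.op_comm u v, mul_assoc, mul_assoc, mul_inv_cancel, mul_one]⟩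

variable (S)

include S in
theorem three_nsmul_eq (v : W) : 3 • v = 0 := by
  obtain ⟨c, hc⟩ := S.op_add v v
  obtain ⟨d, hd⟩ := S.op_add (v + v) v
  have e : S.op v ^ 3 = sc (c * d) * S.op (3 • v) := by
    rw [show 3 • v = v + v + v by rw [succ_nsmul, two_nsmul], pow_succ, pow_two, hc, mul_assoc, hd, ← mul_assoc, sc_mul]
  rw [S.op_cube] at e
  refine S.eq_zero_of_sc (c := (c * d)⁻¹) ?_
  rw [← sc_inv]
  exact eq_inv_of_mul_eq_one_right e.symm

/-- The matrices permuting the family up to scalars. -/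
def norm : Subgroup (GL ι F) where
  carrier := {g | (∀ v, ∃ w, S.Mv g v w) ∧ ∀ v, ∃ w, S.Mv g⁻¹ v w}
  one_mem' := ⟨fun v => ⟨v, mv_one v⟩, fun v => ⟨v, by rw [inv_one]; exact mv_one v⟩⟩
  mul_mem' {a b} ha hb := ⟨fun v => by
      obtain ⟨w, hw⟩ := hb.1 v
      obtain ⟨u, hu⟩ := ha.1 w
      exact ⟨u, hu.mul hw⟩, fun v => by
      obtain ⟨w, hw⟩ := ha.2 v
      obtain ⟨u, hu⟩ := hb.2 w
      exact ⟨u, by rw [_root_.mul_inv_rev]; exact hu.mul hw⟩⟩
  inv_mem' {a} ha := ⟨ha.2, by rw [inv_inv]; exact ha.1⟩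

variable {S}

theorem mem_norm {g : GL ι F} (hg : ∀ v, ∃ w, S.Mv g v w) : g ∈ S.norm := by
  refine ⟨hg, fun w => ?_⟩
  choose f hf using hg
  have hinj : Function.Injective f := fun v v' e => by
    have h2 := hf v'
    rw [← e] at h2
    exact (hf v).inv.unique h2.inv
  obtain ⟨v, rfl⟩ := (Finite.injective_iff_surjective.1 hinj) w
  exact ⟨v, (hf v).inv⟩

theorem sc_mem_norm (c : Fˣ) : sc c ∈ S.norm := mem_norm fun v => ⟨v, mv_sc c v⟩

theorem op_mem_norm (u : W) : S.op u ∈ S.norm := mem_norm fun v => ⟨v, mv_op u v⟩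

theorem op_mul_inv (v w : W) : ∃ c, S.op v * (S.op w)⁻¹ = sc c * S.op (v - w) := by
  obtain ⟨d, hd⟩ := S.op_add (v - w) w
  rw [sub_add_cancel] at hd
  refine ⟨d⁻¹, ?_⟩
  have e : S.op v = sc d⁻¹ * (S.op (v - w) * S.op w) := by
    rw [hd, ← mul_assoc, sc_mul, inv_mul_cancel, sc_one, one_mul]
  rw [e]
  group

theorem Mv.sub {g : GL ι F} {v v' w w' : W} (h1 : S.Mv g v w) (h2 : S.Mv g v' w') : S.Mv g (v - v') (w - w') := by
  have e : ∀ u : W, -u = u + u := fun u => by
    refine (eq_neg_of_add_eq_zero_left ?_).symm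
    rw [add_assoc, ← two_nsmul, ← succ_nsmul']
    exact S.three_nsmul_eq u
  rw [sub_eq_add_neg, sub_eq_add_neg, e, e]
  exact h1.add (h2.add h2)

variable (S)

/-- The map of the index group induced by a member of the normaliser. -/
noncomputable def act (g : GL ι F) (v : W) : W :=
  open scoped Classical in if hg : ∃ w, S.Mv g v w then hg.choose else 0

variable {S}

theorem mv_act {g : GL ι F} (hg : g ∈ S.norm) (v : W) : S.Mv g v (S.act g v) := by
  rw [act, dif_pos (hg.1 v)]
  exact (hg.1 v).choose_spec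

theorem act_eq {g : GL ι F} {v w : W} (h : S.Mv g v w) : S.act g v = w := by
  have hg : ∃ w, S.Mv g v w := ⟨w, h⟩
  rw [act, dif_pos hg]
  exact hg.choose_spec.unique h

theorem act_add {g : GL ι F} (hg : g ∈ S.norm) (v w : W) : S.act g (v + w) = S.act g v + S.act g w :=
  act_eq ((mv_act hg v).add (mv_act hg w))

theorem act_mul {g k : GL ι F} (hg : g ∈ S.norm) (hk : k ∈ S.norm) (v : W) :
    S.act (g * k) v = S.act g (S.act k v) := act_eq ((mv_act hg _).mul (mv_act hk v))

/-- A matrix fixing every member up to scalars is a scalar multiple of a member. -/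
theorem eq_of_fix {g : GL ι F} (hg : ∀ v, S.Mv g v v) : ∃ c u, g = sc c * S.op u := by
  have := S.nonempty
  choose c hc using hg
  have hk : ∀ v, ∃ k, c v = ou S.hom k := fun v => exists_ou S.hom (S.sc_cube (w := v) (by
    rw [← hc v, conj_pow, S.op_cube]; simp))
  choose χ hχ using hk
  have hadd : ∀ v w, χ (v + w) = χ v + χ w := by
    intro v w
    refine ou_injective S.hom ?_
    rw [ou_add, ← hχ, ← hχ, ← hχ]
    obtain ⟨a, ha⟩ := S.op_add v w
    have e := congrArg (fun x => g * x * g⁻¹) ha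
    simp only [sc_conj] at e
    rw [show g * (S.op v * S.op w) * g⁻¹ = g * S.op v * g⁻¹ * (g * S.op w * g⁻¹) by group, hc, hc, hc, sc_mul_mul,
      ha, ← mul_assoc, ← mul_assoc, sc_mul, sc_mul] at e
    have e2 := sc_injective (F := F) (ι := ι) (mul_right_cancel e)
    rw [mul_comm a] at e2
    exact (mul_right_cancel e2).symm
  obtain ⟨u, hu⟩ := S.dual χ hadd
  have hcomm : ∀ v, S.op v * ((S.op u)⁻¹ * g) = (S.op u)⁻¹ * g * S.op v := fun v => by
    have e1 : g * S.op v = sc (c v) * S.op v * g := by rw [← hc v]; group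
    have e2 : S.op u * S.op v = sc (c v) * (S.op v * S.op u) := by rw [S.op_comm, hu, hχ]
    calc S.op v * ((S.op u)⁻¹ * g) = (S.op u)⁻¹ * (S.op u * S.op v) * (S.op u)⁻¹ * g := by group
      _ = (S.op u)⁻¹ * (sc (c v) * S.op v * g) := by rw [e2]; group
      _ = _ := by rw [← e1, mul_assoc]
  obtain ⟨d, hd⟩ := S.irr ((((S.op u)⁻¹ * g : GL ι F)) : Matrix ι ι F) fun v => by
    rw [← Units.val_mul, ← Units.val_mul, hcomm v]
  have hd0 : d ≠ 0 := fun h0 => by
    rw [h0, zero_smul] at hd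
    exact (((S.op u)⁻¹ * g : GL ι F)).ne_zero hd
  refine ⟨Units.mk0 d hd0, u, ?_⟩
  have : (S.op u)⁻¹ * g = sc (Units.mk0 d hd0) := Units.ext (by rw [hd, coe_sc]; rfl)
  rw [sc_comm, ← this]
  group

/-- Averaging over the family. -/
theorem twirl (M : Matrix ι ι F) :
    (∑ v, (S.op v : Matrix ι ι F) * M * (((S.op v)⁻¹ : GL ι F) : Matrix ι ι F)) =
      ((Fintype.card ι : F) * M.trace) • (1 : Matrix ι ι F) := by
  set T : W → Matrix ι ι F := fun v => (S.op v : Matrix ι ι F) * M * (((S.op v)⁻¹ : GL ι F) : Matrix ι ι F) with hT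
  have hshift : ∀ w v, (S.op w : Matrix ι ι F) * T v = T (w + v) * (S.op w : Matrix ι ι F) := by
    intro w v
    obtain ⟨c, hc⟩ := S.op_add w v
    have e1 : S.op (w + v) = sc c⁻¹ * (S.op w * S.op v) := by
      rw [hc, ← mul_assoc, sc_mul, inv_mul_cancel, sc_one, one_mul]
    simp only [hT, e1, _root_.mul_inv_rev, sc_inv, inv_inv, Units.val_mul, coe_sc, Matrix.smul_mul, Matrix.mul_smul,
      one_mul, mul_one, smul_smul]
    rw [Units.mul_inv, one_smul]
    simp only [mul_assoc, Units.inv_mul, mul_one]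
  obtain ⟨c, hc⟩ := S.irr (∑ v, T v) fun w => by
    rw [Finset.mul_sum, Finset.sum_mul, Finset.sum_congr rfl fun v _ => hshift w v]
    exact Fintype.sum_equiv (Equiv.addLeft w) (fun v => T (w + v) * (S.op w : Matrix ι ι F))
      (fun v => T v * (S.op w : Matrix ι ι F)) fun v => rfl
  have htr := congrArg Matrix.trace hc
  have ht : ∀ v, (T v).trace = M.trace := fun v => Matrix.trace_units_conj _ _
  rw [Matrix.trace_sum, Finset.sum_congr rfl fun v _ => ht v, Finset.sum_const, Finset.card_univ, S.card_eq,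
    Matrix.trace_smul, Matrix.trace_one, nsmul_eq_mul, Nat.cast_mul, smul_eq_mul, mul_comm c, mul_assoc] at htr
  rw [hc, mul_left_cancel₀ S.card_ne htr]

theorem trace_sc_mul (c : Fˣ) (g : GL ι F) :
    ((sc c * g : GL ι F) : Matrix ι ι F).trace = c * (g : Matrix ι ι F).trace := by
  rw [coe_sc_mul, Matrix.trace_smul, smul_eq_mul]

/-- A member of the normaliser with trace zero moves some fixed member by a nontrivial scalar. -/
theorem exists_phase {g : GL ι F} (hg : g ∈ S.norm) (htr : (g : Matrix ι ι F).trace = 0) :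
    ∃ v k, k ≠ 0 ∧ g * S.op v * g⁻¹ = sc (ou S.hom k) * S.op v := by
  have := S.nonempty
  by_contra hne
  push Not at hne
  classical
  have h0 : ∑ v, ((S.op v * g * (S.op v)⁻¹ * g⁻¹ : GL ι F) : Matrix ι ι F).trace = 0 := by
    simp only [Units.val_mul]
    rw [← Matrix.trace_sum, ← Finset.sum_mul, twirl, htr, mul_zero, zero_smul, zero_mul, Matrix.trace_zero]
  have hterm : ∀ v, ((S.op v * g * (S.op v)⁻¹ * g⁻¹ : GL ι F) : Matrix ι ι F).trace =
      if S.act g v = v then (Fintype.card ι : F) else 0 := by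
    intro v
    obtain ⟨c, hc⟩ := mv_act hg v
    have e : S.op v * g * (S.op v)⁻¹ * g⁻¹ = S.op v * (sc c * S.op (S.act g v))⁻¹ := by rw [← hc]; group
    rw [e]
    split_ifs with hv
    · rw [hv] at hc
      obtain ⟨k, rfl⟩ := exists_ou S.hom (S.sc_cube (c := c) (w := v) (by rw [← hc, conj_pow, S.op_cube]; simp))
      have hk : k = 0 := by
        by_contra hk0
        exact hne v k hk0 hc
      rw [hk, ou_zero, sc_one, one_mul, hv, mul_inv_cancel, Units.val_one, Matrix.trace_one]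
    · obtain ⟨d, hd⟩ := S.op_add (v + -S.act g v) (S.act g v)
      rw [neg_add_cancel_right] at hd
      have e2 : S.op v * (sc c * S.op (S.act g v))⁻¹ = sc (c⁻¹ * d⁻¹) * S.op (v + -S.act g v) := by
        have : S.op v = sc d⁻¹ * (S.op (v + -S.act g v) * S.op (S.act g v)) := by
          rw [hd, ← mul_assoc, sc_mul, inv_mul_cancel, sc_one, one_mul]
        rw [this, _root_.mul_inv_rev, sc_inv, ← sc_mul]
        calc sc d⁻¹ * (S.op (v + -S.act g v) * S.op (S.act g v)) * ((S.op (S.act g v))⁻¹ * sc c⁻¹)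
            = sc d⁻¹ * S.op (v + -S.act g v) * sc c⁻¹ := by group
          _ = _ := by rw [← sc_comm, mul_assoc]
      rw [e2, trace_sc_mul, S.op_trace _ (fun h' => hv (add_neg_eq_zero.1 h').symm), mul_zero]
  rw [Finset.sum_congr rfl fun v _ => hterm v, Finset.sum_ite, Finset.sum_const, Finset.sum_const_zero, add_zero,
    nsmul_eq_mul] at h0
  have hfix := (mul_eq_zero.1 h0).resolve_right S.card_ne
  let K : AddSubgroup W :=
    { carrier := {v | S.act g v = v}
      zero_mem' := act_eq ⟨1, by rw [S.op_zero, sc_one]; group⟩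
      add_mem' := fun {a b} ha hb => by
        show S.act g (a + b) = a + b
        rw [act_add hg, show S.act g a = a from ha, show S.act g b = b from hb]
      neg_mem' := fun {a} ha => by
        show S.act g (-a) = -a
        have h1 : S.act g a + S.act g (-a) = 0 := by
          rw [← act_add hg, add_neg_cancel]
          exact act_eq ⟨1, by rw [S.op_zero, sc_one]; group⟩
        rw [show S.act g a = a from ha] at h1
        exact eq_neg_of_add_eq_zero_right h1 }
  have hK : (Finset.univ.filter fun v => S.act g v = v).card = Nat.card K := by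
    rw [Nat.card_eq_fintype_card, Fintype.card_subtype]
    exact congrArg Finset.card (Finset.filter_congr fun v _ => Iff.rfl)
  rw [hK] at hfix
  obtain ⟨n, hn⟩ : ∃ n, Nat.card K = 3 ^ n := by
    refine (IsPGroup.iff_card (G := Multiplicative K)).1 fun x => ⟨1, ?_⟩
    rw [pow_one]
    apply Multiplicative.toAdd.injective
    rw [toAdd_pow, toAdd_one]
    exact Subtype.ext (S.three_nsmul_eq _)
  rw [hn, Nat.cast_pow] at hfix
  exact S.hom.three (pow_eq_zero_iff (fun h0 => by simp [h0] at hfix) |>.1 hfix)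

end Sys

end CfsgLib.NineSymp
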