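import Cfsg.Agent.Lib.NineSymp.Maximal
import Cfsg.Agent.Lib.GeomClasses.UnitPow
import Cfsg.Prelude.Def_LieClassical

/-!
The standard hermitian forms on the small and the large space, and the isometries among the generators.
-/

set_option autoImplicit false
set_option linter.unusedSectionVars false
set_option linter.unusedSimpArgs false
set_option linter.flexible false
set_option linter.style.haveILetI false

namespace CfsgLib.NineSymp

open Matrix

variable {F : Type*} [Field F] {ι : Type} [Fintype ι] [DecidableEq ι]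

/-- The standard hermitian form. -/
def fm (p : ℕ) (u v : ι → F) : F := ∑ i, u i * v i ^ p

/-- Isometries of the standard hermitian form with determinant one. -/
def suG (ι : Type) [Fintype ι] [DecidableEq ι] (F : Type*) [Field F] (p : ℕ) : Subgroup (GL ι F) :=
  Cfsg.preserving (Units.coeHom (Matrix ι ι F)) (fm p) ⊓ Cfsg.Geo.specialLinear ι F

theorem mem_suG {p : ℕ} {g : GL ι F} : g ∈ suG ι F p ↔
    (∀ u v : ι → F, fm p ((g : Matrix ι ι F) *ᵥ u) ((g : Matrix ι ι F) *ᵥ v) = fm p u v) ∧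
      Matrix.GeneralLinearGroup.det g = 1 := Iff.rfl

theorem mul_mono_mulVec (π : ι ≃ ι) (c : ι → F) (u : ι → F) (i : ι) :
    (mono π c *ᵥ u) i = c (π.symm i) * u (π.symm i) := by
  rw [Matrix.mulVec, dotProduct, Finset.sum_eq_single (π.symm i)]
  · simp [mono]
  · intro j _ hj
    have : i ≠ π j := fun e => hj (by rw [e, Equiv.symm_apply_apply])
    simp [mono, this]
  · simp

theorem fm_smul {p : ℕ} (c d : F) (u v : ι → F) : fm p (c • u) (d • v) = c * d ^ p * fm p u v := by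
  simp only [fm, Pi.smul_apply, smul_eq_mul, mul_pow, Finset.mul_sum]
  exact Finset.sum_congr rfl fun i _ => by ring

theorem mono_iso {p : ℕ} (π : ι ≃ ι) (c : ι → F) (hc : ∀ i, c i * c i ^ p = 1) (u v : ι → F) :
    fm p (mono π c *ᵥ u) (mono π c *ᵥ v) = fm p u v := by
  simp only [fm, mul_mono_mulVec]
  rw [← π.sum_comp]
  refine Finset.sum_congr rfl fun i _ => ?_
  rw [Equiv.symm_apply_apply, mul_pow]
  linear_combination (u i * v i ^ p) * hc i

section Finite

variable [Fintype F] {p : ℕ} (hF : Fintype.card F = p ^ 2)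
include hF

theorem pow_sum {α : Type*} (s : Finset α) (f : α → F) : (∑ i ∈ s, f i) ^ p = ∑ i ∈ s, f i ^ p :=
  map_sum (GeomClasses.UnitPow.conj hF) f s

theorem iso_of_cols {A : Matrix ι ι F} (hA : ∀ a b, ∑ i, A i a * A i b ^ p = if a = b then 1 else 0)
    (u v : ι → F) : fm p (A *ᵥ u) (A *ᵥ v) = fm p u v := by
  calc fm p (A *ᵥ u) (A *ᵥ v) = ∑ i, ∑ a, ∑ b, A i a * A i b ^ p * (u a * v b ^ p) := by
        simp only [fm, Matrix.mulVec, dotProduct, pow_sum hF, mul_pow]
        refine Finset.sum_congr rfl fun i _ => ?_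
        rw [Finset.sum_mul_sum]
        refine Finset.sum_congr rfl fun a _ => Finset.sum_congr rfl fun b _ => by ring
    _ = ∑ a, ∑ b, (∑ i, A i a * A i b ^ p) * (u a * v b ^ p) := by
        rw [Finset.sum_comm]
        refine Finset.sum_congr rfl fun a _ => ?_
        rw [Finset.sum_comm]
        exact Finset.sum_congr rfl fun b _ => (Finset.sum_mul _ _ _).symm
    _ = fm p u v := by simp [hA, fm, ite_mul]

variable {ω : F} (h : Om ω) (hp3 : p % 3 = 2)
include h hp3

theorem ps_pow (k : ZMod 3) : ps ω k ^ p = ps ω (-k) := by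
  have hω : ω ^ p = ω ^ 2 := by
    rw [← Nat.div_add_mod p 3, hp3, pow_add, pow_mul, h.cube, one_pow, one_mul]
  rw [ps, ← pow_mul, mul_comm, pow_mul, hω, ← pow_mul]
  rcases ps_cases k with rfl | rfl | rfl
  · simp [ps]
  · rw [show (-1 : ZMod 3) = 2 from rfl, show (1 : ZMod 3).val = 1 from rfl, ps_two, mul_one]
  · rw [show (-2 : ZMod 3) = 1 from rfl, show (2 : ZMod 3).val = 2 from rfl, ps_one]
    linear_combination ω * h.cube

theorem ps_norm (k : ZMod 3) : ps ω k * ps ω k ^ p = 1 := by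
  rw [ps_pow hF h hp3, ← ps_add h, add_neg_cancel, ps_zero]

theorem mono_mem_iso (g : GL ι F) (π : ι ≃ ι) (k : ι → ZMod 3)
    (hg : (g : Matrix ι ι F) = mono π fun i => ps ω (k i)) (u v : ι → F) :
    fm p ((g : Matrix ι ι F) *ᵥ u) ((g : Matrix ι ι F) *ᵥ v) = fm p u v := by
  rw [hg]
  exact mono_iso π _ (fun i => ps_norm hF h hp3 _) u v

theorem gpm_iso (w : V2) (u v : ZMod 3 → F) :
    fm p ((gpm h w).val *ᵥ u) ((gpm h w).val *ᵥ v) = fm p u v :=
  mono_mem_iso hF h hp3 _ (Equiv.addRight w.1) (fun j => w.2 * j) rfl u v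

theorem diag_ps_iso (g : GL (ZMod 3) F) (k : ZMod 3 → ZMod 3) (hg : (g : Matrix (ZMod 3) (ZMod 3) F) = diagonal fun i => ps ω (k i))
    (u v : ZMod 3 → F) : fm p (g.val *ᵥ u) (g.val *ᵥ v) = fm p u v := by
  refine mono_mem_iso hF h hp3 g (Equiv.refl _) k ?_ u v
  rw [hg]
  ext i j
  by_cases hij : i = j <;> simp [mono, hij]

theorem rz_iso (u v : ZMod 3 → F) : fm p ((rz h 0).val *ᵥ u) ((rz h 0).val *ᵥ v) = fm p u v :=
  diag_ps_iso hF h hp3 _ (fun i => if i = 0 then 1 else 0) (by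
    show diagonal _ = _
    congr 1
    funext i
    split_ifs <;> simp [ps_one, ps_zero]) u v

theorem fo_iso (u v : ZMod 3 → F) : fm p ((fo h).val *ᵥ u) ((fo h).val *ᵥ v) = fm p u v := by
  refine iso_of_cols hF (fun a b => ?_) u v
  have hk := h.ksq
  have hω : ω ^ p = ω ^ 2 := by
    have := ps_pow hF h hp3 1
    rwa [ps_one, show (-1 : ZMod 3) = 2 from rfl, ps_two] at this
  have hkp : (ω - ω ^ 2) ^ p = -(ω - ω ^ 2) := by
    have e : (ω - ω ^ 2) ^ p = ω ^ p - (ω ^ p) ^ 2 := by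
      rw [← pow_mul, mul_comm p 2, pow_mul]
      exact map_sub (GeomClasses.UnitPow.conj hF) _ _
    rw [e, hω]
    linear_combination (-ω) * h.cube
  have hterm : ∀ i : ZMod 3, (fo h).val i a * (fo h).val i b ^ p = (3 : F)⁻¹ * ps ω ((a - b) * i) := by
    intro i
    show (ω - ω ^ 2)⁻¹ * ps ω (i * a) * ((ω - ω ^ 2)⁻¹ * ps ω (i * b)) ^ p = _
    rw [mul_pow, inv_pow, hkp, ps_pow hF h hp3, show (a - b) * i = i * a + -(i * b) by ring, ps_add h,
      show (3 : F) = -(ω - ω ^ 2) ^ 2 by rw [hk, neg_neg]]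
    have := h.kne
    field_simp
  simp only [hterm, ← Finset.mul_sum, sum_ps h, sub_eq_zero]
  have := h.three
  split_ifs <;> simp [this]

end Finite

/-- An isometry of the small space gives one of the large space in the second factor. -/
theorem rf_iso {p : ℕ} {g : GL (ZMod 3) F}
    (hg : ∀ u v : ZMod 3 → F, fm p (g.val *ᵥ u) (g.val *ᵥ v) = fm p u v) (u v : I9 → F) :
    fm p ((rf g).val *ᵥ u) ((rf g).val *ᵥ v) = fm p u v := by
  have e : ∀ (w : I9 → F) i a, ((rf g).val *ᵥ w) (i, a) = (g.val *ᵥ fun b => w (i, b)) a := by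
    intro w i a
    simp only [Matrix.mulVec, dotProduct, Fintype.sum_prod_type, rf_apply_apply, ite_mul, zero_mul]
    rw [Finset.sum_eq_single i]
    · simp
    · intro j _ hj
      exact Finset.sum_eq_zero fun b _ => by rw [if_neg (Ne.symm hj)]
    · simp
  simp only [fm, Fintype.sum_prod_type, e]
  exact Finset.sum_congr rfl fun i _ => hg _ _

theorem sw_iso {p : ℕ} (u v : I9 → F) :
    fm p ((sw : GL I9 F).val *ᵥ u) ((sw : GL I9 F).val *ᵥ v) = fm p u v := by
  rw [show ((sw : GL I9 F) : Matrix I9 I9 F) = mono (Equiv.prodComm (ZMod 3) (ZMod 3) : I9 ≃ I9) fun _ => 1 from rfl]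
  exact mono_iso _ _ (fun _ => by simp) u v

theorem lf_iso {p : ℕ} {g : GL (ZMod 3) F}
    (hg : ∀ u v : ZMod 3 → F, fm p (g.val *ᵥ u) (g.val *ᵥ v) = fm p u v) (u v : I9 → F) :
    fm p ((lf g).val *ᵥ u) ((lf g).val *ᵥ v) = fm p u v := by
  rw [lf_apply, Units.val_mul, Units.val_mul, sw_inv, ← Matrix.mulVec_mulVec, ← Matrix.mulVec_mulVec,
    ← Matrix.mulVec_mulVec, ← Matrix.mulVec_mulVec, sw_iso, rf_iso hg, sw_iso]

theorem mul_iso {p : ℕ} {g k : GL ι F}
    (hg : ∀ u v : ι → F, fm p (g.val *ᵥ u) (g.val *ᵥ v) = fm p u v)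
    (hk : ∀ u v : ι → F, fm p (k.val *ᵥ u) (k.val *ᵥ v) = fm p u v) (u v : ι → F) :
    fm p ((g * k).val *ᵥ u) ((g * k).val *ᵥ v) = fm p u v := by
  rw [Units.val_mul, ← Matrix.mulVec_mulVec, ← Matrix.mulVec_mulVec, hg, hk]

end CfsgLib.NineSymp
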