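import Cfsg.Agent.Lib.NineSymp.UnitForm
import Cfsg.Agent.Lib.NineSymp.BaseThree
import Cfsg.Agent.Lib.ClassicalGroups.UnitaryGen
import Cfsg.Agent.Lib.ClassicalGroups.UnitarySimple

/-!
Facts about the special unitary groups of the small and of the large space: perfectness, normal subgroups,
reindexing.
-/

set_option autoImplicit false
set_option linter.unusedSectionVars false
set_option linter.unusedSimpArgs false
set_option linter.flexible false
set_option linter.style.haveILetI false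

namespace CfsgLib.NineSymp

open Matrix

variable {F : Type*} [Field F]

/-- The embedding of the special unitary matrices in the general linear group. -/
def suEmb (n : ℕ) (F : Type*) [Field F] (p : ℕ) : Cfsg.SU n F p →* GL (Fin n) F :=
  Matrix.SpecialLinearGroup.toGL.comp (Cfsg.SU n F p).subtype

theorem range_suEmb (n p : ℕ) : (suEmb n F p).range = suG (Fin n) F p := by
  ext g
  constructor
  · rintro ⟨s, rfl⟩
    exact mem_suG.2 ⟨s.2, Units.ext (by simp [suEmb])⟩
  · intro hg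
    obtain ⟨h1, h2⟩ := mem_suG.1 hg
    have hd : (g : Matrix (Fin n) (Fin n) F).det = 1 := by
      simpa [Matrix.GeneralLinearGroup.val_det_apply] using congrArg Units.val h2
    exact ⟨⟨⟨(g : Matrix (Fin n) (Fin n) F), hd⟩, h1⟩, Units.ext rfl⟩

theorem suG_fin_perfect [Fintype F] {n p : ℕ} (hF : Fintype.card F = p ^ 2) (hn : 3 ≤ n)
    (h32 : ¬(n = 3 ∧ p = 2)) : suG (Fin n) F p ≤ ⁅suG (Fin n) F p, suG (Fin n) F p⁆ := by
  rw [← range_suEmb, MonoidHom.range_eq_map, ← Subgroup.map_commutator, ← commutator_def,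
    ClassicalGroups.SU_perfect hF hn h32]

/-- The isomorphism of matrix groups given by a bijection of coordinates. -/
abbrev rix9 (e : I9 ≃ Fin 9) : GL I9 F ≃* GL (Fin 9) F := Cfsg.Geo.glReindex e

theorem rix_mulVec (e : I9 ≃ Fin 9) (g : GL I9 F) (v : Fin 9 → F) :
    (rix9 e g : Matrix (Fin 9) (Fin 9) F) *ᵥ v = ((g : Matrix I9 I9 F) *ᵥ (v ∘ e)) ∘ e.symm := by
  funext i
  show ∑ j, (g : Matrix I9 I9 F) (e.symm i) (e.symm j) * v j = ∑ j, (g : Matrix I9 I9 F) (e.symm i) j * v (e j)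
  rw [← e.sum_comp]
  simp

theorem fm_comp_symm {p : ℕ} (e : I9 ≃ Fin 9) (x y : I9 → F) : fm p (x ∘ e.symm) (y ∘ e.symm) = fm p x y := by
  simp only [fm, Function.comp_apply]
  rw [← e.sum_comp]
  simp

theorem det_rix (e : I9 ≃ Fin 9) (g : GL I9 F) :
    Matrix.GeneralLinearGroup.det (rix9 e g) = Matrix.GeneralLinearGroup.det g := by
  refine Units.ext ?_
  rw [Matrix.GeneralLinearGroup.val_det_apply, Matrix.GeneralLinearGroup.val_det_apply]
  exact Matrix.det_reindex_self e (g : Matrix I9 I9 F)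

theorem mem_suG_rix {p : ℕ} (e : I9 ≃ Fin 9) (g : GL I9 F) : rix9 e g ∈ suG (Fin 9) F p ↔ g ∈ suG I9 F p := by
  rw [mem_suG, mem_suG, det_rix]
  refine and_congr_left' ⟨fun h u v => ?_, fun h u v => ?_⟩
  · have := h (u ∘ e.symm) (v ∘ e.symm)
    rwa [rix_mulVec, rix_mulVec, fm_comp_symm, fm_comp_symm, show (u ∘ e.symm) ∘ e = u from funext fun i => by simp,
      show (v ∘ e.symm) ∘ e = v from funext fun i => by simp] at this
  · rw [rix_mulVec, rix_mulVec, fm_comp_symm, h, ← fm_comp_symm e]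
    congr 1 <;> funext i <;> simp

theorem map_suG (e : I9 ≃ Fin 9) (p : ℕ) : (suG I9 F p).map (rix9 e).toMonoidHom = suG (Fin 9) F p := by
  ext g
  rw [Subgroup.mem_map]
  refine ⟨fun ⟨x, hx, hxg⟩ => hxg ▸ (mem_suG_rix e x).2 hx, fun hg => ⟨(rix9 e).symm g, ?_, by simp⟩⟩
  exact (mem_suG_rix e _).1 (by simpa using hg)

theorem suG_nine_perfect [Fintype F] {p : ℕ} (hF : Fintype.card F = p ^ 2) :
    suG I9 F p ≤ ⁅suG I9 F p, suG I9 F p⁆ := by
  let e : I9 ≃ Fin 9 := Fintype.equivFinOfCardEq rfl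
  rw [← Subgroup.map_le_map_iff_of_injective (f := (rix9 e).toMonoidHom) (rix9 e).injective,
    Subgroup.map_commutator, map_suG]
  exact suG_fin_perfect hF (by norm_num) (by simp)

variable [Fintype F] {p : ℕ} (hF : Fintype.card F = p ^ 2) {ω : F} (h : Om ω) (hp3 : p % 3 = 2)
include hF

theorem suG_three_perfect (hp2 : p ≠ 2) :
    suG (ZMod 3) F p ≤ ⁅suG (ZMod 3) F p, suG (ZMod 3) F p⁆ :=
  suG_fin_perfect (n := 3) hF le_rfl (fun e => hp2 e.2)

theorem det_gpm_three (v : V2) : Matrix.GeneralLinearGroup.det (gpm h v) = 1 := by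
  have h1 : gpm h v = gpm h (v.1, 0) * gpm h (0, v.2) := by
    rw [gpm_mul, show ((v.1, 0) : V2).2 * ((0, v.2) : V2).1 = 0 by simp, ou_zero, sc_one, one_mul]
    simp
  have hd : ∀ b : ZMod 3, Matrix.GeneralLinearGroup.det (gpm h ((0, b) : V2)) = 1 := by
    intro b
    refine Units.ext ?_
    rw [Matrix.GeneralLinearGroup.val_det_apply, Units.val_one,
      show (gpm h ((0, b) : V2) : Matrix (ZMod 3) (ZMod 3) F) = diagonal fun i => ps ω (b * i) by
        ext i j; simp [pm, mono, Matrix.diagonal_apply]; split_ifs <;> simp_all,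
      Matrix.det_diagonal]
    rw [show (∏ i : ZMod 3, ps ω (b * i)) = ps ω (b * 0) * ps ω (b * 1) * ps ω (b * 2) from Fin.prod_univ_three _,
      ← ps_add h, ← ps_add h, ← mul_add, ← mul_add, show (0 : ZMod 3) + 1 + 2 = 0 from rfl, mul_zero, ps_zero]
  have ha : ∀ a : ZMod 3, Matrix.GeneralLinearGroup.det (gpm h ((a, 0) : V2)) = 1 := by
    intro a
    have hc := fo_conj h ((0, -a) : V2)
    simp only [foL, zero_mul, neg_zero, neg_neg, ou_zero, sc_one, one_mul] at hc
    rw [← hc, map_mul, map_mul, map_inv, hd, mul_one, mul_inv_cancel]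
  rw [h1, map_mul, ha, hd, one_mul]

include h hp3

theorem gpm_mem_suG (v : V2) : gpm h v ∈ suG (ZMod 3) F p :=
  mem_suG.2 ⟨gpm_iso hF h hp3 v, det_gpm_three hF h v⟩

theorem fo_mem_suG : fo h ∈ suG (ZMod 3) F p := mem_suG.2 ⟨fo_iso hF h hp3, det_fo h⟩

theorem suG_three_simple (hp2 : p ≠ 2) (N : Subgroup (GL (ZMod 3) F)) (hN : N ≤ suG (ZMod 3) F p)
    (hnorm : ∀ s ∈ suG (ZMod 3) F p, ∀ n ∈ N, s * n * s⁻¹ ∈ N) :
    (∀ n ∈ N, ∃ c, n = sc c) ∨ suG (ZMod 3) F p ≤ N := by
  have hr : (suEmb 3 F p).range = suG (ZMod 3) F p := range_suEmb 3 p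
  let N' := N.comap (suEmb 3 F p)
  have hn' : N'.Normal := ⟨fun n hn g => by
    show suEmb 3 F p (g * n * g⁻¹) ∈ N
    rw [map_mul, map_mul, map_inv]
    exact hnorm _ (hr ▸ ⟨g, rfl⟩) _ hn⟩
  rcases ClassicalGroups.normal_le_center_or_top hF le_rfl (fun e => hp2 e.2) N' hn' with hc | htop
  · left
    intro n hn
    obtain ⟨a, rfl⟩ : n ∈ (suEmb 3 F p).range := hr.symm ▸ hN hn
    have hc' := Subgroup.mem_center_iff.1 (hc (show a ∈ N' from hn))
    obtain ⟨c, hc⟩ := irr_three h (suEmb 3 F p a).val fun v => by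
      obtain ⟨b, hb⟩ : gpm h v ∈ (suEmb 3 F p).range := hr.symm ▸ gpm_mem_suG hF h hp3 v
      have e := congrArg (fun x => (suEmb 3 F p x).val) (hc' b)
      simp only [map_mul, hb] at e
      exact e
    have hc0 : c ≠ 0 := fun e => (suEmb 3 F p a).ne_zero (by rw [e, zero_smul] at hc; exact hc)
    exact ⟨Units.mk0 c hc0, Units.ext (by rw [coe_sc]; exact hc)⟩
  · right
    intro g hg
    obtain ⟨a, rfl⟩ : g ∈ (suEmb 3 F p).range := hr.symm ▸ hg
    have : a ∈ N' := htop ▸ Subgroup.mem_top a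
    exact this

theorem dsg_mem_suG : (dsg : GL (ZMod 3) F) ∈ suG (ZMod 3) F p := by
  have hpp : 0 < p := by omega
  refine mem_suG.2 ⟨fun u v => ?_, Units.ext ?_⟩
  · rw [show ((dsg : GL (ZMod 3) F) : Matrix (ZMod 3) (ZMod 3) F) =
        mono (Equiv.refl (ZMod 3)) fun i => if i = 0 then 1 else -1 by
      ext i j
      by_cases hij : i = j <;> simp [dsg, mono, hij]]
    refine mono_iso _ _ (fun i => ?_) u v
    have hneg : (-1 : F) ^ p = -1 := by
      have := map_neg (GeomClasses.UnitPow.conj hF) (1 : F)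
      rw [map_one, GeomClasses.UnitPow.conj_apply] at this
      exact this
    split_ifs
    · simp
    · rw [hneg]; norm_num
  · rw [Matrix.GeneralLinearGroup.val_det_apply, Units.val_one]
    show (diagonal fun i : ZMod 3 => if i = 0 then (1 : F) else -1).det = 1
    rw [Matrix.det_diagonal]
    refine (Fin.prod_univ_three fun i : ZMod 3 => if i = 0 then (1 : F) else -1).trans ?_
    show (if (0 : ZMod 3) = 0 then (1 : F) else -1) * (if (1 : ZMod 3) = 0 then (1 : F) else -1) *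
      (if (2 : ZMod 3) = 0 then (1 : F) else -1) = 1
    simp [z3_ne]

end CfsgLib.NineSymp
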