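import Cfsg.Agent.Lib.NineSymp.UnitGroup

/-!
Permutation and diagonal matrices on the large space, and the invariance relations of the coordinate decompositions.
-/

set_option autoImplicit false
set_option linter.unusedSectionVars false
set_option linter.unusedSimpArgs false
set_option linter.flexible false
set_option linter.style.haveILetI false

namespace CfsgLib.NineSymp

open Matrix

variable {F : Type*} [Field F] {ι : Type} [Fintype ι] [DecidableEq ι]

/-- The matrix of a permutation. -/
def pg : Equiv.Perm ι →* GL ι F where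
  toFun π :=
    { val := mono π fun _ => 1
      inv := mono π.symm fun _ => 1
      val_inv := by rw [mono_mul, mul_one, Equiv.self_comp_symm]; exact mono_id
      inv_val := by rw [mono_mul, mul_one, Equiv.symm_comp_self]; exact mono_id }
  map_one' := Units.ext mono_id
  map_mul' π π' := Units.ext (by
    show mono ((π * π' : Equiv.Perm ι) : ι → ι) (fun _ => (1 : F)) = mono π (fun _ => 1) * mono π' fun _ => 1
    rw [mono_mul, mul_one]; rfl)

theorem coe_pg (π : Equiv.Perm ι) : ((pg π : GL ι F) : Matrix ι ι F) = mono π fun _ => 1 := rfl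

/-- The invertible diagonal matrices. -/
def dg : (ι → Fˣ) →* GL ι F where
  toFun c :=
    { val := diagonal fun i => (c i : F)
      inv := diagonal fun i => ((c i)⁻¹ : Fˣ)
      val_inv := by rw [diagonal_mul_diagonal]; simp
      inv_val := by rw [diagonal_mul_diagonal]; simp }
  map_one' := Units.ext (by simp)
  map_mul' c c' := Units.ext (by simp [diagonal_mul_diagonal])

theorem coe_dg (c : ι → Fˣ) : ((dg c : GL ι F) : Matrix ι ι F) = diagonal fun i => (c i : F) := rfl

theorem coe_dg_mono (c : ι → Fˣ) :
    ((dg c : GL ι F) : Matrix ι ι F) = mono (Equiv.refl ι) fun i => (c i : F) := by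
  rw [coe_dg]
  ext i j
  by_cases hij : i = j <;> simp [mono, hij]

theorem det_dg (c : ι → Fˣ) : Matrix.GeneralLinearGroup.det (dg c : GL ι F) = ∏ i, c i := by
  refine Units.ext ?_
  rw [Matrix.GeneralLinearGroup.val_det_apply, coe_dg, Matrix.det_diagonal]
  exact (map_prod (Units.coeHom F) c _).symm

theorem det_pg (π : Equiv.Perm ι) :
    ((Matrix.GeneralLinearGroup.det (pg π : GL ι F) : Fˣ) : F) = ((Equiv.Perm.sign π : ℤ) : F) := by
  rw [Matrix.GeneralLinearGroup.val_det_apply, coe_pg, show mono π (fun _ => (1 : F)) = π⁻¹.permMatrix F by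
    ext i j
    by_cases hij : i = π j
    · subst hij; simp [mono, Equiv.Perm.permMatrix, PEquiv.toMatrix_apply]
    · have : π⁻¹ i ≠ j := fun e => hij (by rw [← e]; simp)
      simp [mono, Equiv.Perm.permMatrix, PEquiv.toMatrix_apply, hij, Equiv.symm_apply_eq],
    Matrix.det_permutation, Equiv.Perm.sign_inv]

theorem pg_conj_dg (π : Equiv.Perm ι) (c : ι → Fˣ) : pg π * dg c * (pg π)⁻¹ = dg fun i => c (π.symm i) := by
  rw [mul_inv_eq_iff_eq_mul]
  refine Units.ext ?_
  ext i j
  rw [Units.val_mul, Units.val_mul, coe_pg, coe_dg, coe_dg, Matrix.mul_diagonal, Matrix.diagonal_mul]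
  by_cases hij : i = π j <;> simp [mono, hij]

/-- An isometry has orthonormal columns. -/
theorem cols_of_iso {p : ℕ} (hp : p ≠ 0) {A : Matrix ι ι F}
    (hA : ∀ u v : ι → F, fm p (A *ᵥ u) (A *ᵥ v) = fm p u v) (a b : ι) :
    ∑ i, A i a * A i b ^ p = if a = b then 1 else 0 := by
  have := hA (Pi.single a 1) (Pi.single b 1)
  rw [Matrix.mulVec_single_one, Matrix.mulVec_single_one] at this
  refine this.trans ?_
  rw [fm, Finset.sum_eq_single a]
  · by_cases hab : a = b
    · subst hab; simp
    · simp [hab, zero_pow hp]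
  · intro i _ hi; simp [hi]
  · simp

theorem det_norm [Fintype F] {p : ℕ} (hF : Fintype.card F = p ^ 2) {g : GL ι F}
    (hg : ∀ u v : ι → F, fm p (g.val *ᵥ u) (g.val *ᵥ v) = fm p u v) :
    (Matrix.GeneralLinearGroup.det g : F) * (Matrix.GeneralLinearGroup.det g : F) ^ p = 1 := by
  have hp : p ≠ 0 := fun e => by
    have : Fintype.card F ≠ 0 := Fintype.card_ne_zero
    rw [hF, e] at this; exact this rfl
  have e : g.valᵀ * (GeomClasses.UnitPow.conj hF).toRingHom.mapMatrix g.val = 1 := by
    ext a b
    simp only [Matrix.mul_apply, Matrix.transpose_apply, RingHom.mapMatrix_apply, Matrix.map_apply, Matrix.one_apply]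
    exact cols_of_iso hp hg a b
  have e' := congrArg Matrix.det e
  rw [Matrix.det_mul, Matrix.det_transpose, ← RingHom.map_det, Matrix.det_one] at e'
  rw [Matrix.GeneralLinearGroup.val_det_apply]
  exact e'

end CfsgLib.NineSymp
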