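import Cfsg.Agent.Lib.NineSymp.UnitMonomial
import Cfsg.Agent.Lib.NineUnit.Assemble

/-!
A subgroup with the single blocks, or in characteristic two with all monomial elements, contains the whole special
unitary group of the large space, as soon as it has the Fourier matrix of a factor.
-/

set_option autoImplicit false
set_option linter.unusedSectionVars false
set_option linter.unusedSimpArgs false
set_option linter.flexible false
set_option linter.style.haveILetI false

namespace CfsgLib.NineSymp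

open Matrix

variable {F : Type*} [Field F] [Fintype F] {p : ℕ}

theorem det_gbd (g : ZMod 3 → GL (ZMod 3) F) :
    Matrix.GeneralLinearGroup.det (gbd g) = ∏ x, Matrix.GeneralLinearGroup.det (g x) := by
  refine Units.ext ?_
  rw [Matrix.GeneralLinearGroup.val_det_apply, coe_gbd,
    show bd (fun x => (g x : Matrix (ZMod 3) (ZMod 3) F)) =
      Matrix.reindex (Equiv.prodComm (ZMod 3) (ZMod 3)) (Equiv.prodComm (ZMod 3) (ZMod 3))
        (Matrix.blockDiagonal fun x => (g x : Matrix (ZMod 3) (ZMod 3) F)) by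
      ext ⟨i, a⟩ ⟨j, b⟩
      simp [bd, Matrix.blockDiagonal_apply],
    Matrix.det_reindex_self, Matrix.det_blockDiagonal]
  exact (map_prod (Units.coeHom F) (fun x => Matrix.GeneralLinearGroup.det (g x)) _).symm

theorem gbd_mulVec (g : ZMod 3 → GL (ZMod 3) F) (w : I9 → F) (i a : ZMod 3) :
    ((gbd g).val *ᵥ w) (i, a) = ((g i).val *ᵥ fun b => w (i, b)) a := by
  simp only [Matrix.mulVec, dotProduct, Fintype.sum_prod_type, coe_gbd, bd, ite_mul, zero_mul]
  rw [Finset.sum_eq_single i]
  · simp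
  · intro j _ hj
    exact Finset.sum_eq_zero fun b _ => by simp [Ne.symm hj]
  · simp

/-- The vector supported at one block. -/
def eb (x : ZMod 3) (u : ZMod 3 → F) : I9 → F := fun j => if j.1 = x then u j.2 else 0

theorem fm_eb {p : ℕ} (_hp : p ≠ 0) (x : ZMod 3) (u v : ZMod 3 → F) : fm p (eb x u) (eb x v) = fm p u v := by
  simp only [fm, Fintype.sum_prod_type, eb]
  rw [Finset.sum_eq_single x]
  · simp
  · intro j _ hj; simp [hj]
  · simp

theorem gbd_eb (g : ZMod 3 → GL (ZMod 3) F) (x : ZMod 3) (u : ZMod 3 → F) :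
    (gbd g).val *ᵥ eb x u = eb x ((g x).val *ᵥ u) := by
  funext ⟨i, a⟩
  rw [gbd_mulVec]
  by_cases hi : i = x
  · subst hi; simp [eb]
  · simp only [eb, if_neg hi]
    exact congrFun (Matrix.mulVec_zero _) a

theorem p_ne_zero (hF : Fintype.card F = p ^ 2) : p ≠ 0 := fun e => by
  have h0 : Fintype.card F ≠ 0 := Fintype.card_ne_zero
  exact h0 (by rw [hF, e]; rfl)

/-- The blocks of a decomposition of the reindexed space. -/
def blockSp (e : I9 ≃ Fin 9) (π : I9 → ZMod 3) (x : ZMod 3) : Submodule F (Fin 9 → F) where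
  carrier := {v | ∀ j, π j ≠ x → v (e j) = 0}
  add_mem' hu hv j hj := by simp [hu j hj, hv j hj]
  zero_mem' _ _ := rfl
  smul_mem' c _ hu j hj := by simp [hu j hj]

/-- The coordinate lines of the reindexed space. -/
def lineSp (i : Fin 9) : Submodule F (Fin 9 → F) := Submodule.span F {Pi.single i 1}

theorem mem_lineSp {i : Fin 9} {v : Fin 9 → F} : v ∈ lineSp (F := F) i ↔ ∀ j, j ≠ i → v j = 0 := by
  rw [lineSp, Submodule.mem_span_singleton]
  refine ⟨fun ⟨c, hc⟩ j hj => by rw [← hc]; simp [hj], fun h => ⟨v i, ?_⟩⟩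
  funext j
  by_cases hj : j = i
  · subst hj; simp
  · simp [hj, h j hj]

theorem blockSp_mdec (hF : Fintype.card F = p ^ 2) (e : I9 ≃ Fin 9) :
    Cfsg.Geo.IsNondegenerateMDecomposition (Cfsg.hermForm 9 F p) 3
      (fun x : Fin 3 => blockSp (F := F) e Prod.fst x) := by
  classical
  have hp := p_ne_zero hF
  have hfin : ∀ x : ZMod 3, Module.finrank F (blockSp (F := F) e Prod.fst x) = 3 := by
    intro x
    let L : (ZMod 3 → F) →ₗ[F] (Fin 9 → F) :=
      { toFun := fun u => eb x u ∘ e.symm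
        map_add' := fun u v => funext fun i => by simp [eb]; split_ifs <;> simp
        map_smul' := fun c u => funext fun i => by simp [eb] }
    have hr : LinearMap.range L = blockSp (F := F) e Prod.fst x := by
      refine le_antisymm (by rintro _ ⟨u, rfl⟩ j hj; simp [L, eb, hj]) fun v hv => ⟨fun a => v (e (x, a)), funext fun i => ?_⟩
      obtain ⟨⟨a, b⟩, rfl⟩ := e.surjective i
      by_cases ha : a = x
      · subst ha; simp [L, eb]
      · simp [L, eb, ha, hv (a, b) ha]
    rw [← hr, LinearMap.finrank_range_of_inj (fun u v huv => funext fun a => by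
      simpa [L, eb] using congrFun huv (e (x, a))), Module.finrank_fintype_fun_eq_card]
    rfl
  refine ⟨⟨by norm_num, by norm_num, hfin, ?_, ?_⟩, ?_, ?_⟩
  · rw [iSupIndep_def]
    intro x
    rw [Submodule.disjoint_def]
    intro v hv hv'
    funext i
    obtain ⟨j, rfl⟩ := e.surjective i
    by_cases hj : j.1 = x
    · have : (⨆ y, ⨆ _ : y ≠ x, blockSp (F := F) e Prod.fst y) ≤
          LinearMap.ker (LinearMap.proj (e j) : (Fin 9 → F) →ₗ[F] F) :=
        iSup₂_le fun y hy w hw => hw j (fun e' => hy (e'.symm.trans hj))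
      exact this hv'
    · exact hv j hj
  · refine eq_top_iff.2 fun v _ => ?_
    have : v = ∑ x : ZMod 3, fun i => if (e.symm i).1 = x then v i else 0 := by
      funext i
      simp only [Finset.sum_apply]
      rw [Finset.sum_eq_single (e.symm i).1]
      · simp
      · intro b _ hb; exact if_neg (Ne.symm hb)
      · simp
    rw [this]
    exact Submodule.sum_mem _ fun x _ => Submodule.mem_iSup_of_mem x fun j hj => by simp [hj]
  · intro x w hw hw0
    obtain ⟨i, hi⟩ := Function.ne_iff.1 hw0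
    obtain ⟨j, rfl⟩ := e.surjective i
    have hjx : j.1 = x := by_contra fun h => hi (hw j h)
    have hs : (Pi.single (e j) 1 : Fin 9 → F) ∈ blockSp (F := F) e Prod.fst x := fun l hl => by
      rw [Pi.single_eq_of_ne]
      exact fun h => hl (by rw [e.injective h]; exact hjx)
    refine ⟨⟨_, hs, ?_⟩, ⟨_, hs, ?_⟩⟩
    · rw [Cfsg.hermForm, Finset.sum_eq_single (e j)]
      · simpa [hp] using hi
      · intro l _ hl; simp [hl]
      · simp
    · rw [Cfsg.hermForm, Finset.sum_eq_single (e j)]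
      · simpa using hi
      · intro l _ hl; simp [hl, zero_pow hp]
      · simp
  · intro x y hxy u hu v hv
    refine Finset.sum_eq_zero fun i _ => ?_
    obtain ⟨j, rfl⟩ := e.surjective i
    by_cases hj : j.1 = x
    · rw [hv j (fun h => hxy (hj.symm.trans h)), zero_pow hp, mul_zero]
    · rw [hu j hj, zero_mul]

theorem lineSp_mdec (hF : Fintype.card F = p ^ 2) :
    Cfsg.Geo.IsNondegenerateMDecomposition (Cfsg.hermForm 9 F p) 1 (fun i => lineSp (F := F) i) := by
  classical
  have hp := p_ne_zero hF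
  refine ⟨⟨by norm_num, one_pos, fun i => finrank_span_singleton (by simp), ?_, ?_⟩, ?_, ?_⟩
  · rw [iSupIndep_def]
    intro x
    rw [Submodule.disjoint_def]
    intro v hv hv'
    funext i
    by_cases hi : i = x
    · have : (⨆ y, ⨆ _ : y ≠ x, lineSp (F := F) y) ≤ LinearMap.ker (LinearMap.proj i : (Fin 9 → F) →ₗ[F] F) :=
        iSup₂_le fun y hy w hw => mem_lineSp.1 hw i (fun h => hy (h.symm.trans hi))
      exact this hv'
    · exact mem_lineSp.1 hv i hi
  · refine eq_top_iff.2 fun v _ => ?_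
    rw [pi_eq_sum_univ' v]
    exact Submodule.sum_mem _ fun i _ => Submodule.mem_iSup_of_mem i
      (mem_lineSp.2 fun j hj => by simp [hj])
  · intro x w hw hw0
    have hwx : w x ≠ 0 := fun h => hw0 (funext fun i => by
      by_cases hi : i = x
      · rw [hi]; exact h
      · exact mem_lineSp.1 hw i hi)
    have hs : (Pi.single x 1 : Fin 9 → F) ∈ lineSp (F := F) x := Submodule.mem_span_singleton_self _
    refine ⟨⟨_, hs, ?_⟩, ⟨_, hs, ?_⟩⟩
    · rw [Cfsg.hermForm, Finset.sum_eq_single x]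
      · simpa [hp] using hwx
      · intro l _ hl; simp [hl]
      · simp
    · rw [Cfsg.hermForm, Finset.sum_eq_single x]
      · simpa using hwx
      · intro l _ hl; simp [hl, zero_pow hp]
      · simp
  · intro x y hxy u hu v hv
    refine Finset.sum_eq_zero fun i _ => ?_
    by_cases hi : i = x
    · rw [mem_lineSp.1 hv i (hi ▸ hxy), zero_pow hp, mul_zero]
    · rw [mem_lineSp.1 hu i hi, zero_mul]

/-- Maximality of a decomposition stabiliser forces a contradiction. -/
theorem false_of_stab {t : ℕ} (e : I9 ≃ Fin 9) (D : Fin t → Submodule F (Fin 9 → F))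
    (hmax : Cfsg.Geo.IsMaximalIn (Cfsg.GU 9 F p ⊓ Cfsg.Geo.specialLinear (Fin 9) F)
      (Cfsg.Geo.decompositionStabilizer D ⊓ (Cfsg.GU 9 F p ⊓ Cfsg.Geo.specialLinear (Fin 9) F)))
    {X : Subgroup (GL I9 F)} (hnot : ¬ suG I9 F p ≤ X)
    (hstab : ∀ g ∈ suG I9 F p, rix9 e g ∈ Cfsg.Geo.decompositionStabilizer D → g ∈ X)
    {z : GL I9 F} (hz : z ∈ X) (hzs : z ∈ suG I9 F p) (hzn : rix9 e z ∉ Cfsg.Geo.decompositionStabilizer D) :
    False := by
  have hK : (suG I9 F p).map (rix9 e).toMonoidHom = Cfsg.GU 9 F p ⊓ Cfsg.Geo.specialLinear (Fin 9) F := map_suG e p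
  rcases hmax.2 ((X ⊓ suG I9 F p).map (rix9 e).toMonoidHom) (fun g hg => by
      obtain ⟨x, hx, rfl⟩ := hK.symm ▸ hg.2
      exact ⟨x, ⟨hstab x hx hg.1, hx⟩, rfl⟩) ((Subgroup.map_mono inf_le_right).trans hK.le) with hM | hM
  · have : rix9 e z ∈ (X ⊓ suG I9 F p).map (rix9 e).toMonoidHom := ⟨z, ⟨hz, hzs⟩, rfl⟩
    rw [hM] at this
    exact hzn this.1
  · rw [← hK] at hM
    exact hnot ((Subgroup.map_injective (f := (rix9 e).toMonoidHom) (rix9 e).injective hM).ge.trans inf_le_left)

theorem rix_col (e : I9 ≃ Fin 9) (g : GL I9 F) (i j : I9) :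
    ((rix9 e g : Matrix (Fin 9) (Fin 9) F) *ᵥ (Pi.single (e j) 1 : Fin 9 → F)) (e i) = (g : Matrix I9 I9 F) i j := by
  rw [Matrix.mulVec_single_one]
  show (g : Matrix I9 I9 F) (e.symm (e i)) (e.symm (e j)) = _
  simp

/-- The single blocks force everything. -/
theorem su_no_single {ω : F} (h : Om ω) (hF : Fintype.card F = p ^ 2) (hp3 : p % 3 = 2) {X : Subgroup (GL I9 F)}
    (hnot : ¬ suG I9 F p ≤ X) (hsc : ∀ c, sc c ∈ X) (hpe : ∀ v, pe h v ∈ X) (hfo : rf (fo h) ∈ X) (hsw : sw ∈ X)
    (hjj : lf jj ∈ X) (hone : ∀ x, ∀ s ∈ suG (ZMod 3) F p, one1 x s ∈ X) : False := by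
  classical
  have hp := p_ne_zero hF
  have hlfs : ∀ a, lf (gpm h (a, 0)) ∈ X := fun a => (lf_rf_eq (h := h) (a, 0)).1.symm ▸ hpe _
  have hblock : ∀ g : ZMod 3 → GL (ZMod 3) F, gbd g ∈ suG I9 F p → gbd g ∈ X := by
    intro g hg
    obtain ⟨hiso, hdet⟩ := mem_suG.1 hg
    have hgi : ∀ x u v, fm p ((g x).val *ᵥ u) ((g x).val *ᵥ v) = fm p u v := fun x u v => by
      have := hiso (eb x u) (eb x v)
      rwa [gbd_eb, gbd_eb, fm_eb hp, fm_eb hp] at this
    let d : ZMod 3 → Fˣ := fun x => Matrix.GeneralLinearGroup.det (g x)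
    let E : ZMod 3 → GL (ZMod 3) F := fun x => dg (Pi.mulSingle 0 (d x))
    have hE : ∀ x, ∀ u v, fm p ((E x).val *ᵥ u) ((E x).val *ᵥ v) = fm p u v := fun x u v => by
      show fm p ((dg (Pi.mulSingle 0 (d x)) : GL (ZMod 3) F).val *ᵥ u) _ = _
      rw [coe_dg_mono]
      refine mono_iso _ _ (fun i => ?_) u v
      by_cases hi : i = 0
      · subst hi; rw [Pi.mulSingle_eq_same]; exact det_norm hF (hgi x)
      · simp [Pi.mulSingle_eq_of_ne hi]
    have hdE : ∀ x, Matrix.GeneralLinearGroup.det (E x) = d x := fun x => by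
      show Matrix.GeneralLinearGroup.det (dg (Pi.mulSingle 0 (d x))) = _
      rw [det_dg, Finset.prod_pi_mulSingle', if_pos (Finset.mem_univ _)]
    have hs : ∀ x, (E x)⁻¹ * g x ∈ suG (ZMod 3) F p := fun x => mem_suG.2 ⟨mul_iso (fun u v => by
        have := hE x ((E x)⁻¹.val *ᵥ u) ((E x)⁻¹.val *ᵥ v)
        rw [Matrix.mulVec_mulVec, Matrix.mulVec_mulVec, ← Units.val_mul, mul_inv_cancel, Units.val_one,
          Matrix.one_mulVec, Matrix.one_mulVec] at this
        exact this.symm) (hgi x), by rw [map_mul, map_inv, hdE, inv_mul_cancel]⟩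
    have e1 : gbd g = gbd E * gbd (fun x => (E x)⁻¹ * g x) := by
      rw [← map_mul]; congr 1; funext x; rw [Pi.mul_apply, mul_inv_cancel_left]
    rw [e1]
    refine X.mul_mem ?_ (by rw [prod_one1]; exact X.mul_mem (X.mul_mem (hone 0 _ (hs 0)) (hone 1 _ (hs 1))) (hone 2 _ (hs 2)))
    have hD : (dg d : GL (ZMod 3) F) ∈ suG (ZMod 3) F p := by
      refine mem_suG.2 ⟨fun u v => ?_, ?_⟩
      · rw [coe_dg_mono]
        exact mono_iso _ _ (fun i => det_norm hF (hgi i)) u v
      · rw [det_dg]
        exact (det_gbd g).symm.trans hdet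
    have e2 : gbd E = sw * one1 0 (dg d) * sw⁻¹ := by
      refine Units.ext ?_
      ext ⟨i, a⟩ ⟨j, b⟩
      rw [coe_sw_conj, one1, coe_gbd, coe_gbd]
      simp only [bd, E, coe_dg, Prod.swap_prod_mk, Matrix.diagonal_apply, Pi.mulSingle_apply]
      by_cases hij : i = j
      · subst hij
        by_cases hab : a = b
        · subst hab
          by_cases ha : a = 0
          · simp [ha, coe_dg]
          · simp [ha]
        · simp [hab]
      · by_cases hab : a = b
        · subst hab
          by_cases ha : a = 0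
          · simp [ha, coe_dg, hij]
          · simp [ha, hij]
        · simp [hab, hij]
    rw [e2]
    exact X.mul_mem (X.mul_mem hsw (hone 0 _ hD)) (X.inv_mem hsw)
  let e : I9 ≃ Fin 9 := Fintype.equivFinOfCardEq rfl
  refine false_of_stab e _ (CfsgLib.GeomClasses.UnitClauses.decomposition_maximal 9 p hF (by norm_num) 3 _
    (blockSp_mdec hF e) (by simp) (by simp)) hnot ?_ (z := lf (fo h)) ?_ ?_ ?_
  · rintro g hg ⟨σ, hσ⟩
    have hsupp : ∀ i j : I9, i.1 ≠ (σ j.1 : ZMod 3) → (g : Matrix I9 I9 F) i j = 0 := by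
      intro i j hij
      rw [← rix_col e]
      have hm : (Pi.single (e j) 1 : Fin 9 → F) ∈ blockSp (F := F) e Prod.fst j.1 := fun l hl => by
        rw [Pi.single_eq_of_ne]
        exact fun h => hl (by rw [e.injective h])
      have : Matrix.toLin' (rix9 e g).val (Pi.single (e j) 1) ∈ blockSp (F := F) e Prod.fst (σ j.1) :=
        (hσ j.1).le ⟨_, hm, rfl⟩
      exact this i hij
    -- undo a permutation of the blocks
    have hundo : ∀ (P : GL (ZMod 3) F) (π : ZMod 3 ≃ ZMod 3), (P : Matrix (ZMod 3) (ZMod 3) F) = mono π (fun _ => 1) →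
        lf P ∈ X → ∀ (g' : GL I9 F) (τ : ZMod 3 → ZMod 3), (∀ i j : I9, i.1 ≠ π (τ j.1) → g'.val i j = 0) →
        ∀ i j : I9, i.1 ≠ τ j.1 → ((lf P)⁻¹ * g').val i j = 0 := by
      intro P π hP _ g' τ hg' i j hij
      have e3 : g'.val = (lf P).val * ((lf P)⁻¹ * g').val := by rw [← Units.val_mul, mul_inv_cancel_left]
      have e4 := congrFun (congrFun e3 ((π.prodCongr (Equiv.refl (ZMod 3))) i)) j
      rw [coe_lf_perm π P hP, mono_mul_apply, one_mul, Equiv.symm_apply_apply] at e4
      rw [← e4]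
      exact hg' _ _ fun h => hij (π.injective h)
    have hfin : ∀ P : GL I9 F, P ∈ X → (∀ u v : I9 → F, fm p (P.val *ᵥ u) (P.val *ᵥ v) = fm p u v) →
        (Matrix.GeneralLinearGroup.det P = 1 ∨ Matrix.GeneralLinearGroup.det P = -1) →
        (∀ i j : I9, i.1 ≠ j.1 → (P⁻¹ * g).val i j = 0) → g ∈ X := by
      intro P hP hPi hPd hsup
      obtain ⟨hgi, hgd⟩ := mem_suG.1 hg
      have hcomm : (P⁻¹ * g) * pe h ((0, 1), 0) = pe h ((0, 1), 0) * (P⁻¹ * g) := by
        refine Units.ext ?_
        ext i j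
        rw [Units.val_mul _ (pe h ((0, 1), 0)), Units.val_mul (pe h ((0, 1), 0)), coe_axis, mul_mono_apply, mono_mul_apply]
        simp only [Equiv.refl_symm, Equiv.refl_apply]
        by_cases hij : i.1 = j.1
        · rw [hij, mul_comm]
        · rw [hsup i j hij, zero_mul, mul_zero]
      obtain ⟨gx, hgx⟩ := exists_blocks h hcomm
      have hQi : ∀ u v : I9 → F, fm p ((P⁻¹ * g).val *ᵥ u) ((P⁻¹ * g).val *ᵥ v) = fm p u v :=
        mul_iso (fun u v => by
          have := hPi (P⁻¹.val *ᵥ u) (P⁻¹.val *ᵥ v)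
          rw [Matrix.mulVec_mulVec, Matrix.mulVec_mulVec, ← Units.val_mul, mul_inv_cancel, Units.val_one,
            Matrix.one_mulVec, Matrix.one_mulVec] at this
          exact this.symm) hgi
      have hd : Matrix.GeneralLinearGroup.det (P⁻¹ * g) = (Matrix.GeneralLinearGroup.det P)⁻¹ := by
        rw [map_mul, map_inv, hgd, mul_one]
      have key : ∀ c : Fˣ, (c : F) * (c : F) ^ p = 1 →
          c ^ 9 * Matrix.GeneralLinearGroup.det (P⁻¹ * g) = 1 → g ∈ X := by
        intro c hc hc9
        have hm : gbd (fun x => sc c * gx x) ∈ suG I9 F p := by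
          have e5 : gbd (fun x => sc c * gx x) = sc c * gbd gx := by
            rw [← rf_sc c, rf_apply, ← map_mul]; rfl
          rw [e5, ← hgx]
          refine mem_suG.2 ⟨mul_iso (fun u v => by
            rw [coe_sc, Matrix.smul_mulVec, Matrix.smul_mulVec, Matrix.one_mulVec, Matrix.one_mulVec, fm_smul, hc,
              one_mul]) hQi, ?_⟩
          rw [map_mul, ← hc9]
          congr 1
          refine Units.ext ?_
          rw [Matrix.GeneralLinearGroup.val_det_apply, coe_sc, Matrix.det_smul, Matrix.det_one, mul_one]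
          simp
        have hm' := hblock _ hm
        rw [show gbd (fun x => sc c * gx x) = sc c * gbd gx by rw [← rf_sc c, rf_apply, ← map_mul]; rfl, ← hgx] at hm'
        have := X.mul_mem hP (X.mul_mem (X.inv_mem (hsc c)) hm')
        rwa [inv_mul_cancel_left, mul_inv_cancel_left] at this
      rcases hPd with hd1 | hd1
      · exact key 1 (by simp) (by rw [hd, hd1]; simp)
      · refine key (-1) ?_ (by rw [hd, hd1]; refine Units.ext ?_; simp; norm_num)
        have := map_neg (GeomClasses.UnitPow.conj hF) (1 : F)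
        rw [map_one, GeomClasses.UnitPow.conj_apply] at this
        rw [Units.val_neg, Units.val_one, this]
        norm_num
    have hsh : ∀ a, Matrix.GeneralLinearGroup.det (lf (gpm h (a, 0))) = 1 := fun a => by
      rw [det_lf, det_gpm]
    have hshi : ∀ a, ∀ u v : I9 → F, fm p ((lf (gpm h (a, 0))).val *ᵥ u) ((lf (gpm h (a, 0))).val *ᵥ v) = fm p u v :=
      fun a => lf_iso (gpm_iso hF h hp3 _)
    have hshm : ∀ a : ZMod 3, (gpm h (a, 0) : Matrix (ZMod 3) (ZMod 3) F) = mono (Equiv.addRight a) fun _ => 1 := by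
      intro a
      rw [coe_gpm, pm]
      congr 1
      funext j
      rw [zero_mul, ps_zero]
    obtain ⟨a, ha⟩ | ⟨a, ha⟩ := affine_perm σ σ.injective
    · refine hfin _ (hlfs a) (hshi a) (Or.inl (hsh a)) fun i j hij => ?_
      exact hundo _ _ (hshm a) (hlfs a) g id (fun i j hij => hsupp i j (by rw [ha]; exact hij)) i j hij
    · have hjd : Matrix.GeneralLinearGroup.det (lf jj : GL I9 F) = -1 := by
        rw [det_lf, show Matrix.GeneralLinearGroup.det (jj : GL (ZMod 3) F) = -1 from Units.ext (by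
          rw [show (jj : GL (ZMod 3) F) = pg (Equiv.neg (ZMod 3)) from Units.ext rfl, det_pg,
            show Equiv.Perm.sign (Equiv.neg (ZMod 3)) = -1 by decide +kernel]
          simp), neg_pow, one_pow, mul_one]
        norm_num
      have hji : ∀ u v : I9 → F, fm p ((lf jj).val *ᵥ u) ((lf jj).val *ᵥ v) = fm p u v :=
        lf_iso fun u v => mono_iso (Equiv.neg (ZMod 3)) _ (fun _ => by simp) u v
      refine hfin _ (X.mul_mem (hlfs a) hjj) (mul_iso (hshi a) hji) (Or.inr (by rw [map_mul, hsh, hjd, one_mul]))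
        fun i j hij => ?_
      rw [_root_.mul_inv_rev, mul_assoc]
      exact hundo jj (Equiv.neg (ZMod 3)) rfl hjj _ id
        (fun i j hij => hundo _ _ (hshm a) (hlfs a) g (fun x => -x)
          (fun i j hij => hsupp i j (by rw [ha]; exact hij)) i j hij) i j hij
  · rw [← swap_rf]; exact X.mul_mem (X.mul_mem hsw hfo) (X.inv_mem hsw)
  · exact mem_suG.2 ⟨lf_iso (fo_iso hF h hp3), by rw [det_lf, det_fo, one_pow]⟩
  · rintro ⟨σ, hσ⟩
    have hm : (Pi.single (e (0, 0)) 1 : Fin 9 → F) ∈ blockSp (F := F) e Prod.fst 0 := fun l hl => by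
      rw [Pi.single_eq_of_ne]
      exact fun h => hl (by rw [e.injective h])
    have hmem : Matrix.toLin' (rix9 e (lf (fo h))).val (Pi.single (e (0, 0)) 1) ∈
        blockSp (F := F) e Prod.fst (σ 0) := (hσ 0).le ⟨_, hm, rfl⟩
    let x0 : ZMod 3 := σ 0
    have h0 := hmem (x0 + 1, 0) (by show x0 + 1 ≠ x0; simp)
    rw [Matrix.toLin'_apply, rix_col, coe_lf, if_pos rfl] at h0
    exact mul_ne_zero (inv_ne_zero h.kne) (ps_ne_zero h _) h0

/-- In characteristic two the monomial elements force everything. -/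
theorem su_no_monomial {ω : F} (h : Om ω) (hF : Fintype.card F = 2 ^ 2) {X : Subgroup (GL I9 F)}
    (hnot : ¬ suG I9 F 2 ≤ X) (hpe : ∀ v, pe h v ∈ X) (hfo : rf (fo h) ∈ X) (hsw : sw ∈ X)
    (hjj : one1 2 jj ∈ X) (hone : ∀ x v, one1 x (gpm h v) ∈ X) : False := by
  classical
  have h20 : (2 : F) = 0 := GeomClasses.UnitPow.four_two_zero hF
  have hswap0 : (pg (Equiv.swap ((2, 1) : I9) (2, 2)) : GL I9 F) ∈ X := by
    have e0 : one1 2 (jj : GL (ZMod 3) F) = pg (Equiv.swap ((2, 1) : I9) (2, 2)) := by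
      refine Units.ext ?_
      ext ⟨i, a⟩ ⟨j, b⟩
      rw [coe_pg, one1, coe_gbd]
      have hdec : ∀ i a j b : ZMod 3, (i, a) = Equiv.swap ((2, 1) : I9) (2, 2) (j, b) ↔
          (i = j ∧ ((i = 2 ∧ a = -b) ∨ (i ≠ 2 ∧ a = b))) := by decide +kernel
      simp only [bd, mono, hdec]
      by_cases hij : i = j
      · subst hij
        by_cases hi : i = 2
        · subst hi; simp [jj, mono]
        · simp [hi, Pi.mulSingle_eq_of_ne hi, Matrix.one_apply]
      · simp [hij]
    rwa [e0] at hjj
  have hswG : ∀ i j, (pg (Equiv.swap i j) : GL I9 F) ∈ X := by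
    have hconj : ∀ π i j, (pg π : GL I9 F) ∈ X → (pg (Equiv.swap i j) : GL I9 F) ∈ X →
        (pg (Equiv.swap (π i) (π j)) : GL I9 F) ∈ X := fun π i j hπ hs => by
      rw [Equiv.swap_apply_apply, map_mul, map_mul, map_inv]
      exact X.mul_mem (X.mul_mem hπ hs) (X.inv_mem hπ)
    have hadd : ∀ s : I9, (pg (Equiv.addRight s) : GL I9 F) ∈ X := fun s => by
      have e0 : pe h ((s.1, 0), (s.2, 0)) = pg (Equiv.addRight s) := by
        refine Units.ext ?_
        rw [coe_pe, coe_pg]
        congr 1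
        funext j
        simp [ps_zero]
      exact e0 ▸ hpe _
    have hpc : (pg (Equiv.prodComm (ZMod 3) (ZMod 3)) : GL I9 F) ∈ X := by
      have e0 : (sw : GL I9 F) = pg (Equiv.prodComm (ZMod 3) (ZMod 3)) := Units.ext rfl
      exact e0 ▸ hsw
    have hrow : ∀ x a b : ZMod 3, (pg (Equiv.swap ((x, a) : I9) (x, b)) : GL I9 F) ∈ X := by
      intro x a b
      rcases eq_or_ne a b with rfl | hab
      · rw [Equiv.swap_self]
        show (pg (1 : Equiv.Perm I9) : GL I9 F) ∈ X
        rw [map_one]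
        exact X.one_mem
      have hpair : ∀ a b : ZMod 3, a ≠ b → ∃ t, (1 + t = a ∧ 2 + t = b) ∨ (1 + t = b ∧ 2 + t = a) := by decide +kernel
      obtain ⟨t, ⟨e1, e2⟩ | ⟨e1, e2⟩⟩ := hpair a b hab
      · have := hconj _ _ _ (hadd (x - 2, t)) hswap0
        simpa [e1, e2] using this
      · have := hconj _ _ _ (hadd (x - 2, t)) hswap0
        rw [Equiv.swap_comm] at this
        simpa [e1, e2] using this
    have hcol : ∀ a x y : ZMod 3, (pg (Equiv.swap ((x, a) : I9) (y, a)) : GL I9 F) ∈ X := fun a x y => by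
      simpa using hconj _ _ _ hpc (hrow a x y)
    rintro ⟨x, a⟩ ⟨y, b⟩
    rcases eq_or_ne x y with rfl | hxy
    · exact hrow x a b
    rcases eq_or_ne a b with rfl | hab
    · exact hcol a x y
    have := hconj _ _ _ (hrow y a b) (hcol a x y)
    rwa [Equiv.swap_apply_left, Equiv.swap_apply_of_ne_of_ne (by simp [hxy]) (by simp [hxy])] at this
  have hperm : ∀ π, (pg π : GL I9 F) ∈ X := by
    intro π
    have hle : Subgroup.closure {σ : Equiv.Perm I9 | σ.IsSwap} ≤ X.comap (pg : Equiv.Perm I9 →* GL I9 F) := by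
      rw [Subgroup.closure_le]
      rintro σ ⟨i, j, _, rfl⟩
      exact hswG i j
    exact hle (by rw [Equiv.Perm.closure_isSwap]; exact Subgroup.mem_top π)
  let T : AddSubgroup (I9 → ZMod 3) :=
    { carrier := {k | (dg fun i => ou h (k i) : GL I9 F) ∈ X}
      add_mem' := fun {k l} hk hl => by
        show (dg fun i => ou h (k i + l i) : GL I9 F) ∈ X
        simp only [ou_add]
        exact (map_mul (dg : _ →* GL I9 F) _ _).symm ▸ X.mul_mem hk hl
      zero_mem' := by
        show (dg fun _ => ou h 0 : GL I9 F) ∈ X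
        rw [show (fun _ : I9 => ou h 0) = 1 from funext fun _ => ou_zero h, map_one]
        exact X.one_mem
      neg_mem' := fun {k} hk => by
        show (dg fun i => ou h (-k i) : GL I9 F) ∈ X
        rw [show (fun i => ou h (-k i)) = (fun i => ou h (k i))⁻¹ from funext fun i =>
          eq_inv_of_mul_eq_one_left (by rw [← ou_add, neg_add_cancel, ou_zero]), map_inv]
        exact X.inv_mem hk }
  have hbase : (fun i : I9 => if i.1 = 0 then i.2 else 0) ∈ T := by
    show (dg fun i : I9 => ou h (if i.1 = 0 then i.2 else 0) : GL I9 F) ∈ X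
    have e0 : (dg fun i : I9 => ou h (if i.1 = 0 then i.2 else 0) : GL I9 F) = one1 0 (gpm h (0, 1)) := by
      refine Units.ext ?_
      ext ⟨i, a⟩ ⟨j, b⟩
      rw [coe_dg, one1, coe_gbd]
      simp only [bd, Matrix.diagonal_apply, Prod.mk.injEq]
      by_cases hij : i = j
      · subst hij
        by_cases hi : i = 0
        · subst hi
          by_cases hab : a = b <;> simp [pm, mono, hab, ou]
        · simp [hi, Pi.mulSingle_eq_of_ne hi, Matrix.one_apply, ou_zero]
      · simp [hij]
    rw [e0]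
    exact hone _ _
  have hmove : ∀ k ∈ T, ∀ π : Equiv.Perm I9, (fun i => k (π.symm i)) ∈ T := fun k hk π => by
    have hm := X.mul_mem (X.mul_mem (hperm π) hk) (X.inv_mem (hperm π))
    rwa [pg_conj_dg] at hm
  have hpair : ∀ i j : I9, i ≠ j → Pi.single i 1 - Pi.single j 1 ∈ T := by
    intro i j hij
    set π1 := Equiv.swap ((0, 1) : I9) i with hπ1
    set π := π1 * Equiv.swap ((0, 2) : I9) (π1.symm j) with hπ
    have h1 : π (0, 1) = i := by
      have hπ10 : π1 (0, 1) = i := Equiv.swap_apply_left _ _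
      have hne : ((0, 1) : I9) ≠ π1.symm j := fun e0 => hij (by rw [← hπ10, e0, Equiv.apply_symm_apply])
      rw [hπ, Equiv.Perm.mul_apply, Equiv.swap_apply_of_ne_of_ne (by simp [z3_ne]) hne, hπ10]
    have h2 : π (0, 2) = j := by rw [hπ, Equiv.Perm.mul_apply, Equiv.swap_apply_left, Equiv.apply_symm_apply]
    convert hmove _ hbase π using 1
    have e0 : (fun i : I9 => if i.1 = 0 then i.2 else 0) = Pi.single (0, 1) 1 - Pi.single (0, 2) 1 := by decide +kernel
    funext l
    rw [congrFun e0 (π.symm l)]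
    simp only [Pi.sub_apply, Pi.single_apply, Equiv.symm_apply_eq, h1, h2]
  have hsum : ∀ k : I9 → ZMod 3, ∑ i, k i = 0 → k ∈ T := by
    intro k hk
    have e0 : k = ∑ i, (k i).val • (Pi.single i 1 - Pi.single (0, 0) 1) := by
      funext l
      have hmul : ∀ a b : ZMod 3, a.val • b = a * b := fun a b => by rw [nsmul_eq_mul, ZMod.natCast_zmod_val]
      simp only [Finset.sum_apply, Pi.smul_apply, Pi.sub_apply, hmul, mul_sub,
        Finset.sum_sub_distrib, ← Finset.sum_mul, hk, zero_mul, sub_zero]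
      rw [Finset.sum_eq_single l] <;> simp +contextual [Pi.single_apply, Ne.symm]
    rw [e0]
    refine sum_mem fun i _ => nsmul_mem ?_ _
    rcases eq_or_ne i (0, 0) with rfl | hi
    · rw [sub_self]; exact T.zero_mem
    · exact hpair i _ hi
  let e : I9 ≃ Fin 9 := Fintype.equivFinOfCardEq rfl
  refine false_of_stab e _ (CfsgLib.GeomClasses.UnitDecomp.frame_maximal_mid 9 2 hF (by norm_num) _
    (lineSp_mdec hF)) hnot ?_ (z := rf (fo h)) hfo
    (mem_suG.2 ⟨rf_iso (fo_iso hF h rfl), by rw [det_gbd_const, det_fo, one_pow]⟩) ?_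
  · rintro g hg ⟨σ, hσ⟩
    obtain ⟨hgi, hgd⟩ := mem_suG.1 hg
    let τ : Equiv.Perm I9 := e.trans (σ.trans e.symm)
    have hsupp : ∀ i j : I9, i ≠ τ j → (g : Matrix I9 I9 F) i j = 0 := by
      intro i j hij
      rw [← rix_col e]
      have hmem : Matrix.toLin' (rix9 e g).val (Pi.single (e j) 1) ∈ lineSp (F := F) (σ (e j)) :=
        (hσ (e j)).le ⟨_, Submodule.mem_span_singleton_self _, rfl⟩
      exact mem_lineSp.1 hmem (e i) fun h => hij (e.injective (by rw [h]; simp [τ]))
    have hnorm : ∀ j, g.val (τ j) j * g.val (τ j) j ^ 2 = 1 := fun j => by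
      have := cols_of_iso two_ne_zero hgi j j
      rwa [if_pos rfl, Finset.sum_eq_single (τ j) (fun i _ hi => by rw [hsupp i j hi, zero_mul]) (by simp)] at this
    have hne : ∀ j, g.val (τ j) j ≠ 0 := fun j e0 => by
      have := hnorm j
      rw [e0, zero_mul] at this
      exact zero_ne_one this
    let c : I9 → Fˣ := fun j => Units.mk0 _ (hne j)
    have hg' : g = pg τ * dg c := by
      refine Units.ext ?_
      ext i j
      rw [Units.val_mul, coe_pg, coe_dg, Matrix.mul_diagonal]
      by_cases hij : i = τ j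
      · subst hij; simp [mono, c]
      · simp [mono, hij, hsupp i j hij]
    have hc3 : ∀ j, c j ^ 3 = 1 := fun j => Units.ext (by
      rw [Units.val_pow_eq_pow_val, Units.val_one, ← hnorm j, pow_succ']; rfl)
    choose k hk using fun j => exists_ou h (hc3 j)
    have hprod : ∏ j, c j = 1 := by
      rw [hg', map_mul, det_dg] at hgd
      have hd1 : Matrix.GeneralLinearGroup.det (pg τ : GL I9 F) = 1 := Units.ext (by
        rw [det_pg, Units.val_one]
        rcases Int.units_eq_one_or (Equiv.Perm.sign τ) with e0 | e0 <;> rw [e0]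
        · simp
        · simp
          linear_combination -h20)
      rwa [hd1, one_mul] at hgd
    have hksum : ∑ j, k j = 0 := by
      have hhom : ∀ s : Finset I9, ∏ j ∈ s, ou h (k j) = ou h (∑ j ∈ s, k j) := fun s => by
        induction s using Finset.induction with
        | empty => simp [ou_zero]
        | insert a s ha ih => rw [Finset.prod_insert ha, Finset.sum_insert ha, ou_add, ih]
      simp only [hk, hhom] at hprod
      exact ou_injective h (hprod.trans (ou_zero h).symm)
    rw [hg', show c = fun j => ou h (k j) from funext hk]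
    exact X.mul_mem (hperm τ) (hsum k hksum)
  · rintro ⟨σ, hσ⟩
    have hmem : Matrix.toLin' (rix9 e (rf (fo h))).val (Pi.single (e (0, 0)) 1) ∈ lineSp (F := F) (σ (e (0, 0))) :=
      (hσ (e (0, 0))).le ⟨_, Submodule.mem_span_singleton_self _, rfl⟩
    obtain ⟨a, ha⟩ : ∃ a : ZMod 3, e (0, a) ≠ σ (e (0, 0)) := by
      by_contra hall
      push Not at hall
      have := e.injective ((hall 0).trans (hall 1).symm)
      simp [z3_ne] at this
    have h0 := mem_lineSp.1 hmem _ ha
    rw [Matrix.toLin'_apply, rix_col, rf_apply_apply, if_pos rfl] at h0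
    exact mul_ne_zero (inv_ne_zero h.kne) (ps_ne_zero h _) h0

end CfsgLib.NineSymp
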