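import Cfsg.Agent.Lib.NineSymp.UnitOver
import Cfsg.Agent.Lib.NineSymp.NormalForm
import Cfsg.Agent.Lib.DimThreeMax.C6Normal

/-!
The two-qutrit normaliser is maximal in the special unitary group over a field of prime-square order.
-/

set_option autoImplicit false
set_option linter.unusedSectionVars false
set_option linter.unusedSimpArgs false
set_option linter.flexible false
set_option linter.style.haveILetI false

namespace CfsgLib.NineSymp

open Matrix
open scoped commutatorElement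

variable {F : Type*} [Field F] [Fintype F] {p : ℕ}

theorem neg_one_norm (hF : Fintype.card F = p ^ 2) : (-1 : F) * (-1) ^ p = 1 := by
  have := map_neg (GeomClasses.UnitPow.conj hF) (1 : F)
  rw [map_one, GeomClasses.UnitPow.conj_apply] at this
  rw [this]; norm_num

theorem suG_le_similar {ι : Type} [Fintype ι] [DecidableEq ι] (p : ℕ) :
    suG ι F p ⊔ Cfsg.Geo.scalars ι F ≤ Cfsg.Geo.similarityGroup (fm (F := F) (ι := ι) p) := by
  refine sup_le (fun g hg => ⟨1, fun u v => ?_⟩) ?_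
  · rw [(mem_suG.1 hg).1, Units.val_one, one_mul]
  · rintro g ⟨c, rfl⟩
    refine ⟨c * c ^ p, fun u v => ?_⟩
    show fm p ((sc c : GL ι F).val *ᵥ u) ((sc c : GL ι F).val *ᵥ v) = _
    rw [coe_sc, Matrix.smul_mulVec, Matrix.smul_mulVec, Matrix.one_mulVec, Matrix.one_mulVec, fm_smul, Units.val_mul,
      Units.val_pow_eq_pow_val]

/-- Over the field with four elements similitudes of the small form normalise the shifts and phases. -/
theorem base_two {ω : F} (h : Om ω) (hF : Fintype.card F = 2 ^ 2) {H : Subgroup (GL (ZMod 3) F)}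
    (hH : H ≤ Cfsg.Geo.similarityGroup (fm (F := F) (ι := ZMod 3) 2)) (hfo : fo h ∈ H) : H ≤ N3 h := by
  have h2 : (2 : F) = 0 := GeomClasses.UnitPow.four_two_zero hF
  have hiso : ∀ x ∈ H, ∀ u v : ZMod 3 → F, fm 2 (x.val *ᵥ u) (x.val *ᵥ v) = fm 2 u v := by
    intro x hx u v
    obtain ⟨c, hc⟩ := hH hx
    have hc1 : (c : F) = 1 := by
      have e1 : fm 2 (Pi.single 0 1 : ZMod 3 → F) (Pi.single 0 1) = 1 := by
        rw [fm, Finset.sum_eq_single 0] <;> simp +contextual
      have e := hc (Pi.single 0 1) (Pi.single 0 1)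
      rw [e1, mul_one] at e
      have e2 : ∀ y : F, (y * y ^ 2) ^ 2 = y * y ^ 2 := fun y => by
        rcases eq_or_ne y 0 with rfl | hy
        · simp
        · rw [← pow_succ', cube_four h (by rw [hF]; rfl) hy, one_pow]
      have e3 : (c : F) ^ 2 = c := by
        rw [← e, fm, pow_sum (p := 2) hF]
        exact Finset.sum_congr rfl fun i _ => e2 _
      exact mul_left_cancel₀ c.ne_zero (by rw [← pow_two, e3, mul_one])
    have := hc u v
    rwa [hc1, one_mul] at this
  intro g hg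
  refine Sys.mem_norm fun v => ?_
  obtain ⟨c, w, e⟩ := nor_of_isometry h (by rw [hF]; rfl) h2 (hiso _ hfo) (hiso g hg) v
  exact ⟨w, c, e⟩

/-- The vector carrying the small representation. -/
noncomputable def mv3 (u : ZMod 3 → F) : I9 → F := open scoped Classical in
  if (2 : F) = 0 then eb 0 u else eb 1 u - eb 2 u

theorem lf_jj_mulVec (w : I9 → F) (i a : ZMod 3) : ((lf jj : GL I9 F).val *ᵥ w) (i, a) = w (-i, a) := by
  rw [coe_lf_perm (Equiv.neg (ZMod 3)) jj rfl, mul_mono_mulVec]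
  simp [Equiv.prodCongr_symm]

/-- The small representation of a similitude is a similitude. -/
theorem phi_similar (g : cjj (F := F))
    (hg : (g : GL I9 F) ∈ Cfsg.Geo.similarityGroup (fm (F := F) (ι := I9) p)) (hF : Fintype.card F = p ^ 2) :
    phi g ∈ Cfsg.Geo.similarityGroup (fm (F := F) (ι := ZMod 3) p) := by
  classical
  have hp := p_ne_zero hF
  obtain ⟨c, hc⟩ := hg
  refine ⟨c, fun u v => ?_⟩
  have hgc := mem_cjj.1 g.2
  have hflip : ∀ (w : I9 → F) (ε : F), (∀ j a, w (-j, a) = ε * w (j, a)) →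
      ∀ i a, ((g : GL I9 F).val *ᵥ w) (-i, a) = ε * ((g : GL I9 F).val *ᵥ w) (i, a) := by
    intro w ε hw i a
    have e1 : (lf jj : GL I9 F).val *ᵥ w = ε • w := funext fun ⟨j, b⟩ => by rw [lf_jj_mulVec, hw]; rfl
    rw [← lf_jj_mulVec ((g : GL I9 F).val *ᵥ w) i a, Matrix.mulVec_mulVec, ← Units.val_mul, ← hgc, Units.val_mul, ← Matrix.mulVec_mulVec, e1,
      Matrix.mulVec_smul]
    rfl
  have hphi : ∀ u a, ((phi g).val *ᵥ u) a = ∑ b, phiM (g : GL I9 F) a b * u b := fun _ _ => rfl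
  by_cases h2 : (2 : F) = 0
  · have hmv : ∀ u : ZMod 3 → F, mv3 u = eb 0 u := fun u => by rw [mv3, if_pos h2]
    have hsym : ∀ (u : ZMod 3 → F) (j a : ZMod 3), eb 0 u (-j, a) = 1 * eb 0 u (j, a) := fun u j a => by simp [eb]
    have hzero : ∀ u a, ((g : GL I9 F).val *ᵥ eb 0 u) (0, a) = ((phi g).val *ᵥ u) a := fun u a => by
      rw [hphi, Matrix.mulVec, dotProduct, Fintype.sum_prod_type, Finset.sum_eq_single 0]
      · refine Finset.sum_congr rfl fun b _ => ?_
        simp [eb, phiM, h2]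
      · intro j _ hj; exact Finset.sum_eq_zero fun b _ => by simp [eb, hj]
      · simp
    have hmid : fm p ((g : GL I9 F).val *ᵥ eb 0 u) ((g : GL I9 F).val *ᵥ eb 0 v) =
        fm p ((phi g).val *ᵥ u) ((phi g).val *ᵥ v) := by
      have hs := fun u a => hflip (eb 0 u) 1 (hsym u) 2 a
      simp only [show (-(2 : ZMod 3)) = 1 from rfl, one_mul] at hs
      simp only [fm, Fintype.sum_prod_type, sum_three, hs, hzero]
      ring_nf
      simp only [h2, mul_zero, add_zero]
    rw [← hmid, hc, fm_eb hp]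
  · have hsym : ∀ (u : ZMod 3 → F) (j a : ZMod 3),
        (eb 1 u - eb 2 u) (-j, a) = -1 * (eb 1 u - eb 2 u) (j, a) := fun u j a => by
      rcases ps_cases j with rfl | rfl | rfl <;> simp [eb, show (-(2 : ZMod 3)) = 1 from rfl,
        show (-(1 : ZMod 3)) = 2 from rfl, z3_ne]
    have hone : ∀ u a, ((g : GL I9 F).val *ᵥ (eb 1 u - eb 2 u)) (1, a) = ((phi g).val *ᵥ u) a := fun u a => by
      rw [hphi, Matrix.mulVec, dotProduct, Fintype.sum_prod_type, sum_three]
      simp only [eb, Pi.sub_apply, z3_ne, if_false, if_true, sub_zero, zero_sub, mul_zero, mul_neg,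
        Finset.sum_const_zero, zero_add, phiM, if_neg h2, ← Finset.sum_add_distrib]
      exact Finset.sum_congr rfl fun b _ => by ring
    have h0 : ∀ u a, ((g : GL I9 F).val *ᵥ (eb 1 u - eb 2 u)) (0, a) = 0 := fun u a => by
      have := hflip _ (-1) (hsym u) 0 a
      rw [neg_zero] at this
      exact (mul_eq_zero.1 (show (2 : F) * _ = 0 by linear_combination this)).resolve_left h2
    have hm : ∀ u a, ((g : GL I9 F).val *ᵥ (eb 1 u - eb 2 u)) (2, a) = -((phi g).val *ᵥ u) a := fun u a => by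
      have := hflip _ (-1) (hsym u) 1 a
      rw [show (-(1 : ZMod 3)) = 2 from rfl, hone] at this
      rw [this, neg_one_mul]
    have e : ∀ x y : F, -x * (-y) ^ p = x * y ^ p := fun x y => by
      rw [neg_pow y]; linear_combination (x * y ^ p) * neg_one_norm hF
    have h2u : ∀ u' v' : ZMod 3 → F, fm p (eb 1 u' - eb 2 u') (eb 1 v' - eb 2 v') = 2 * fm p u' v' := fun u' v' => by
      simp only [fm, Fintype.sum_prod_type, sum_three, Pi.sub_apply, eb, z3_ne, if_false, if_true, sub_zero, zero_sub,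
        zero_pow hp, mul_zero, zero_mul, zero_add, e, sub_self]
      ring
    have hmid : fm p ((g : GL I9 F).val *ᵥ (eb 1 u - eb 2 u)) ((g : GL I9 F).val *ᵥ (eb 1 v - eb 2 v)) =
        2 * fm p ((phi g).val *ᵥ u) ((phi g).val *ᵥ v) := by
      simp only [fm, Fintype.sum_prod_type, sum_three, h0, hone, hm, zero_mul, zero_add, e]
      ring
    rw [hc, h2u] at hmid
    exact mul_left_cancel₀ h2 (by rw [← hmid]; ring)

/-- The two-qutrit normaliser is maximal in the special unitary group. -/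
theorem maximal_unitary {ω : F} (h : Om ω) (hp : p.Prime) (hF : Fintype.card F = p ^ 2) (hp3 : p % 3 = 2) :
    Cfsg.Geo.IsMaximalIn (suG I9 F p) (N9 h ⊓ suG I9 F p) := by
  classical
  haveI : Fact p.Prime := ⟨hp⟩
  haveI : CharP F p := charP_of_sq hp hF
  have hp0 := p_ne_zero hF
  have hn1 := neg_one_norm hF
  have hrf : ∀ g, (∀ u v : ZMod 3 → F, fm p (g.val *ᵥ u) (g.val *ᵥ v) = fm p u v) →
      Matrix.GeneralLinearGroup.det g ^ 3 = 1 → rf g ∈ suG I9 F p := fun g hg hd =>
    mem_suG.2 ⟨rf_iso hg, by rw [det_gbd_const, hd]⟩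
  have hpeS : ∀ v, pe h v ∈ suG I9 F p := fun v =>
    mem_suG.2 ⟨mul_iso (lf_iso (gpm_iso hF h hp3 _)) (rf_iso (gpm_iso hF h hp3 _)), det_pe h v⟩
  have hcpS : cp h ∈ suG I9 F p :=
    mem_suG.2 ⟨mono_mem_iso hF h hp3 _ (Equiv.refl I9) (fun j => j.1 * j.2) (coe_cp h), det_cp h⟩
  have hswS : sc (-1) * sw ∈ suG I9 F p := mem_suG.2 ⟨mul_iso (fun u v => by
    rw [coe_sc, Matrix.smul_mulVec, Matrix.smul_mulVec, Matrix.one_mulVec, Matrix.one_mulVec, fm_smul,
      Units.val_neg, Units.val_one, hn1, one_mul]) sw_iso, det_sw⟩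
  have hwit : ∃ g ∈ suG I9 F p, g ∉ N9 h := by
    by_cases h2 : (2 : F) = 0
    · refine ⟨one1 2 jj, mem_suG.2 ⟨?_, ?_⟩, one1_jj_not_mem h⟩
      · intro u v
        have hj : ∀ x : ZMod 3, ∀ u v : ZMod 3 → F,
            fm p (((Pi.mulSingle 2 jj : ZMod 3 → GL (ZMod 3) F) x).val *ᵥ u)
              (((Pi.mulSingle 2 jj : ZMod 3 → GL (ZMod 3) F) x).val *ᵥ v) = fm p u v := fun x u v => by
          by_cases hx : x = 2
          · subst hx; rw [Pi.mulSingle_eq_same]; exact mono_iso (Equiv.neg (ZMod 3)) _ (fun _ => by simp) u v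
          · rw [Pi.mulSingle_eq_of_ne hx, Units.val_one, Matrix.one_mulVec, Matrix.one_mulVec]
        simp only [fm, Fintype.sum_prod_type, one1, gbd_mulVec]
        exact Finset.sum_congr rfl fun i _ => hj i _ _
      · rw [one1, det_gbd, Finset.prod_eq_single 2 (fun b _ hb => by rw [Pi.mulSingle_eq_of_ne hb, map_one]) (by simp),
          Pi.mulSingle_eq_same]
        refine Units.ext ?_
        rw [show (jj : GL (ZMod 3) F) = pg (Equiv.neg (ZMod 3)) from Units.ext rfl, det_pg,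
          show Equiv.Perm.sign (Equiv.neg (ZMod 3)) = -1 by decide +kernel]
        simp
        linear_combination -h2
    · refine ⟨_, hrf _ (mul_iso (mul_iso (mem_suG.1 (dsg_mem_suG hF h hp3)).1 (gpm_iso hF h hp3 _))
        (mem_suG.1 ((suG (ZMod 3) F p).inv_mem (dsg_mem_suG hF h hp3))).1) ?_, rf_sign_not_mem h h2⟩
      rw [map_mul, map_mul, map_inv, mul_inv_cancel_comm, det_gpm]
  refine maximal_of_ctx h _ (suG_nine_perfect hF) hpeS (hrf _ (fo_iso hF h hp3) (by rw [det_fo, one_pow]))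
    (hrf _ (rz_iso hF h hp3) (det_rz h)) hcpS hswS hwit fun X hX hSX hsc hpe hfo hrz hsw hcp => ?_
  have hsim : X ≤ Cfsg.Geo.similarityGroup (fm (F := F) (ι := I9) p) := hX.trans (suG_le_similar p)
  have hjj : lf jj ∈ X := by
    have e : rf (jj : GL (ZMod 3) F) ∈ X := by
      have := X.mul_mem (hsc (-1)) (X.mul_mem hfo hfo)
      rwa [← map_mul, fo_mul_fo h, map_mul, rf_sc, ← mul_assoc, sc_mul, neg_mul_neg, one_mul, sc_one, one_mul]
        at this
    rw [← swap_rf]
    exact X.mul_mem (X.mul_mem hsw e) (X.inv_mem hsw)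
  refine ⟨{ X := X, G3 := Cfsg.Geo.similarityGroup (fm (F := F) (ι := ZMod 3) p), S3 := suG (ZMod 3) F p,
            sc_mem := hsc, pe_mem := hpe, fo_mem := hfo, rz_mem := hrz, sw_mem := hsw, cp_mem := hcp,
            blk := ?_, mid := ?_, base := ?_, comm := ?_,
            perfect := fun h2 => suG_three_perfect hF (fun e => h2 (by subst e; exact GeomClasses.UnitPow.four_two_zero hF)),
            simple := fun h2 N => suG_three_simple hF h hp3 (fun e => h2 (by subst e; exact GeomClasses.UnitPow.four_two_zero hF)) N,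
            sgn := fun _ => dsg_mem_suG hF h hp3, fo3 := fun _ => fo_mem_suG hF h hp3,
            nosingle := fun _ hall => su_no_single h hF hp3 hSX hsc hpe hfo hsw hjj hall,
            nojj := ?_ }, rfl⟩
  · intro g hg x
    obtain ⟨c, hc⟩ := hsim hg
    refine ⟨c, fun u v => ?_⟩
    have := hc (eb x u) (eb x v)
    rwa [gbd_eb, gbd_eb, fm_eb hp0, fm_eb hp0] at this
  · exact fun g hg hgc => ⟨phi ⟨g, mem_cjj.2 hgc⟩, phi_similar _ (hsim hg) hF, rfl⟩
  · intro H hH hsc' hpm hfo' hrz'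
    by_cases hp2 : p = 2
    · subst hp2
      exact Or.inl (base_two h hF hH hfo')
    rcases base_unitary h hp hF hp3 H hH hsc' hpm hfo' hrz' with hN | hS
    · exact Or.inl fun g hg => Sys.mem_norm fun v => by
        obtain ⟨c, w, hc⟩ := hN g hg v
        exact ⟨w, c, hc⟩
    · refine Or.inr ⟨two_ne_zero_of_char hp hp2, fun g hg => hS g (mem_suG.1 hg).1 ?_⟩
      simpa [Matrix.GeneralLinearGroup.val_det_apply] using congrArg Units.val (mem_suG.1 hg).2
  · intro a ha b hb
    obtain ⟨c, hc⟩ := ha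
    obtain ⟨d, hd⟩ := hb
    have hinv : ∀ (g : GL (ZMod 3) F) (k : Fˣ), (∀ u v, fm p (g.val *ᵥ u) (g.val *ᵥ v) = (k : F) * fm p u v) →
        ∀ u v, (k : F) * fm p (g⁻¹.val *ᵥ u) (g⁻¹.val *ᵥ v) = fm p u v := by
      intro g k hk u v
      rw [← hk, Matrix.mulVec_mulVec, Matrix.mulVec_mulVec, ← Units.val_mul, mul_inv_cancel, Units.val_one,
        Matrix.one_mulVec, Matrix.one_mulVec]
    refine mem_suG.2 ⟨fun u v => ?_, by
      rw [map_mul, map_mul, map_mul, map_inv, map_inv, mul_right_comm, mul_inv_cancel_right, mul_inv_cancel]⟩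
    simp only [Units.val_mul, ← Matrix.mulVec_mulVec]
    rw [hc, hd, mul_left_comm (c : F), hinv a c hc, hinv b d hd]
  · intro h2 hone1 hpm
    have hp2 : p = 2 := by_contra fun hne => two_ne_zero_of_char hp hne h2
    subst hp2
    exact su_no_monomial h hF hSX hpe hfo hsw hone1 hpm

/-- The clause of the symplectic-type normaliser in the unitary list of dimension nine. -/
theorem unitary_clause {q : ℕ} (hF : Fintype.card F = q ^ 2) (p : ℕ) (R : Subgroup (GL (Fin 9) F))
    (hp : p.Prime) (hq : q = p) (hp3 : p % 3 = 2) (hR : Cfsg.Geo.IsSymplecticTypeGroup 3 R)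
    (hirr : Cfsg.Geo.ActsAbsolutelyIrreducibly (Cfsg.Geo.matrixSet R))
    (hsim : R ≤ Cfsg.Geo.similarityGroup (Cfsg.hermForm 9 F q)) (hcard : Nat.card R = 243)
    (hcen : Nat.card (Subgroup.center R) = 3) :
    Cfsg.Geo.IsMaximalIn (Cfsg.GU 9 F q ⊓ Cfsg.Geo.specialLinear (Fin 9) F)
      (Cfsg.Geo.subgroupNormalizer R ⊓ (Cfsg.GU 9 F q ⊓ Cfsg.Geo.specialLinear (Fin 9) F)) := by
  obtain rfl : p = q := hq.symm
  haveI : Fact (Nat.Prime 3) := ⟨Nat.prime_three⟩
  let e : I9 ≃ Fin 9 := Fintype.equivFinOfCardEq rfl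
  let R' : Subgroup (GL I9 F) := R.comap (rix9 e).toMonoidHom
  have hexp' : ∀ x : R, x ^ 3 = 1 := fun x => by
    have h1 := Monoid.pow_exponent_eq_one x
    rwa [hR.exponent_eq] at h1
  have hscal : ∀ x ∈ R, (∀ y ∈ R, x * y = y * x) → ∃ c, x = sc c := by
    intro x _ hxc
    obtain ⟨c, hc⟩ := hirr.2 x.val (by
      rintro _ ⟨y, hy, rfl⟩
      exact congrArg Units.val (hxc y hy))
    have hc0 : c ≠ 0 := fun e0 => x.ne_zero (by rw [hc, e0, zero_smul])
    exact ⟨Units.mk0 c hc0, Units.ext (by rw [hc, coe_sc]; rfl)⟩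
  have hsce : ∀ c : Fˣ, rix9 e (sc c) = sc c := fun c => by
    refine Units.ext ?_
    ext i j
    show (sc c : GL I9 F).val (e.symm i) (e.symm j) = _
    simp [coe_sc, Matrix.one_apply]
  haveI : Finite R := Nat.finite_of_card_ne_zero (by rw [hcard]; norm_num)
  have hcls : ∀ x ∈ R', ∀ y ∈ R', ∃ c, x * y * x⁻¹ * y⁻¹ = sc c := by
    intro x hx y hy
    have h1 : ⁅(⟨_, hx⟩ : R), ⟨_, hy⟩⁆ ∈ Subgroup.center R :=
      DimThreeMax.commutator_le_center_of_symplecticType hR.pGroup hexp' hR.cyclic_of_characteristic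
        (Subgroup.commutator_mem_commutator (Subgroup.mem_top _) (Subgroup.mem_top _))
    obtain ⟨c, hc⟩ := hscal (rix9 e x * rix9 e y * (rix9 e x)⁻¹ * (rix9 e y)⁻¹)
      (R.mul_mem (R.mul_mem (R.mul_mem hx hy) (R.inv_mem hx)) (R.inv_mem hy))
      (fun z hz => (congrArg Subtype.val (Subgroup.mem_center_iff.1 h1 ⟨z, hz⟩)).symm)
    refine ⟨c, (rix9 e).injective ?_⟩
    rw [hsce, ← hc, map_mul, map_mul, map_mul, map_inv, map_inv]
  have hirr' : ∀ M : Matrix I9 I9 F, (∀ x ∈ R', M * x.val = x.val * M) → ∃ c : F, M = c • 1 := by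
    intro M hM
    obtain ⟨c, hc⟩ := hirr.2 (Matrix.reindexAlgEquiv F F e M) (by
      rintro _ ⟨g, hg, rfl⟩
      have h1 := congrArg (Matrix.reindexAlgEquiv F F e) (hM ((rix9 e).symm g) (by
        show rix9 e ((rix9 e).symm g) ∈ R
        rw [MulEquiv.apply_symm_apply]
        exact hg))
      have h2 : Matrix.reindexAlgEquiv F F e ((rix9 e).symm g).val = g.val :=
        congrArg Units.val ((rix9 e).apply_symm_apply g)
      rwa [map_mul, map_mul, h2] at h1)
    exact ⟨c, (Matrix.reindexAlgEquiv F F e).injective (by rw [hc, map_smul, map_one])⟩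
  let f : R' ≃* R := (rix9 e).subgroupMap R' |>.trans (MulEquiv.subgroupCongr
    (Subgroup.map_comap_eq_self_of_surjective (f := (rix9 e).toMonoidHom) (rix9 e).surjective R))
  obtain ⟨ω, h, P, hP⟩ := normal_form R' (fun x hx => (rix9 e).injective (by
      rw [map_pow, map_one]; exact congrArg Subtype.val (hexp' ⟨_, hx⟩))) hcls hirr'
    (by rw [Nat.card_congr f.toEquiv, hcard]) (by rw [Nat.card_congr (Subgroup.centerCongr f).toEquiv, hcen])
  let Ψ : GL I9 F ≃* GL (Fin 9) F := (MulAut.conj P).trans (rix9 e)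
  have hRΨ : R = (std h).map Ψ.toMonoidHom := by
    show R = (std h).map ((rix9 e).toMonoidHom.comp (MulAut.conj P).toMonoidHom)
    rw [← Subgroup.map_map, ← hP]
    exact (Subgroup.map_comap_eq_self_of_surjective (f := (rix9 e).toMonoidHom) (rix9 e).surjective R).symm
  -- the form carried back
  let f' : (I9 → F) → (I9 → F) → F := fun u v => fm p (P.val *ᵥ u) (P.val *ᵥ v)
  have hf'ne : ∀ u : I9 → F, u ≠ 0 → ∃ v, f' v u ≠ 0 := fun u hu => by
    have hPu : P.val *ᵥ u ≠ 0 := fun e0 => hu (by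
      have := congrArg (P⁻¹.val *ᵥ ·) e0
      simpa [Matrix.mulVec_mulVec, ← Units.val_mul] using this)
    obtain ⟨i, hi⟩ := Function.ne_iff.1 hPu
    refine ⟨P⁻¹.val *ᵥ Pi.single i 1, ?_⟩
    show fm p (P.val *ᵥ (P⁻¹.val *ᵥ Pi.single i 1)) (P.val *ᵥ u) ≠ 0
    rw [Matrix.mulVec_mulVec, ← Units.val_mul, mul_inv_cancel, Units.val_one, Matrix.one_mulVec, fm,
      Finset.sum_eq_single i (fun l _ hl => by simp [hl]) (by simp)]
    simpa using pow_ne_zero p hi
  have hherm : ∀ u v, f' u v = f' v u ^ p := fun u v => by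
    show fm p (P.val *ᵥ u) (P.val *ᵥ v) = fm p (P.val *ᵥ v) (P.val *ᵥ u) ^ p
    simp only [fm, pow_sum hF, mul_pow]
    refine Finset.sum_congr rfl fun i _ => ?_
    rw [mul_comm, ← pow_mul _ p p, ← sq, ← hF, FiniteField.pow_card]
  have hstd : ∀ g ∈ std h, ∀ u v, f' (g.val *ᵥ u) (g.val *ᵥ v) = f' u v := by
    intro g hg
    obtain ⟨c, hc⟩ := hsim (hRΨ ▸ ⟨g, hg, rfl⟩ : Ψ g ∈ R)
    have hc' : ∀ u v, f' (g.val *ᵥ u) (g.val *ᵥ v) = (c : F) * f' u v := fun u v => by
      have e1 : ∀ u : I9 → F, (Ψ g).val *ᵥ ((P.val *ᵥ u) ∘ e.symm) = (P.val *ᵥ (g.val *ᵥ u)) ∘ e.symm := fun u => by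
        show (rix9 e (P * g * P⁻¹)).val *ᵥ _ = _
        rw [rix_mulVec, show ((P.val *ᵥ u) ∘ e.symm) ∘ e = P.val *ᵥ u from funext fun i => by simp,
          Matrix.mulVec_mulVec, Matrix.mulVec_mulVec, ← Units.val_mul, ← Units.val_mul, inv_mul_cancel_right]
      have := hc ((P.val *ᵥ u) ∘ e.symm) ((P.val *ᵥ v) ∘ e.symm)
      rw [e1, e1] at this
      exact (fm_comp_symm e _ _).symm.trans (this.trans (congrArg _ (fm_comp_symm e _ _)))
    obtain ⟨u0, v0, huv⟩ : ∃ u0 v0, f' u0 v0 ≠ 0 := by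
      obtain ⟨v, hv⟩ := hf'ne (Pi.single 0 1) (by simp)
      exact ⟨v, _, hv⟩
    have hcp : (c : F) ^ p = c := by
      have e1 := hc' u0 v0
      have e2 : f' (g.val *ᵥ u0) (g.val *ᵥ v0) = (c : F) ^ p * f' u0 v0 := by
        rw [hherm, hc', mul_pow, ← hherm]
      exact (mul_right_cancel₀ huv (e2.symm.trans e1))
    have hg3 : g ^ 3 = 1 := by
      refine Ψ.injective ?_
      rw [map_pow, map_one]
      exact congrArg Subtype.val (hexp' ⟨Ψ g, hRΨ ▸ ⟨g, hg, rfl⟩⟩)
    have hc3 : (c : F) ^ 3 = 1 := by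
      have e3 : f' ((g ^ 3).val *ᵥ u0) ((g ^ 3).val *ᵥ v0) = (c : F) ^ 3 * f' u0 v0 := by
        rw [pow_succ, pow_two, Units.val_mul, Units.val_mul, ← Matrix.mulVec_mulVec, ← Matrix.mulVec_mulVec,
          ← Matrix.mulVec_mulVec, ← Matrix.mulVec_mulVec, hc', hc', hc']
        ring
      rw [hg3, Units.val_one, Matrix.one_mulVec, Matrix.one_mulVec] at e3
      exact mul_right_cancel₀ huv (by rw [one_mul]; exact e3.symm)
    have hc1 : (c : F) = 1 := by
      have e4 : (c : F) ^ p = (c : F) ^ 2 := by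
        rw [← Nat.div_add_mod p 3, hp3, pow_add, pow_mul, hc3, one_pow, one_mul]
      rw [e4, pow_two] at hcp
      exact mul_right_cancel₀ c.ne_zero (hcp.trans (one_mul _).symm)
    intro u v
    rw [hc', hc1, one_mul]
  -- the Gram entries
  let B : I9 → I9 → F := fun i j => f' (Pi.single i 1) (Pi.single j 1)
  have hBpe : ∀ (v : W4) (i j : I9), ps ω (v.1.2 * i.1 + v.2.2 * i.2) * ps ω (v.1.2 * j.1 + v.2.2 * j.2) ^ p *
      B (i.1 + v.1.1, i.2 + v.2.1) (j.1 + v.1.1, j.2 + v.2.1) = B i j := by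
    intro v i j
    have hcol : ∀ i : I9, (pe h v).val *ᵥ (Pi.single i 1 : I9 → F) =
        ps ω (v.1.2 * i.1 + v.2.2 * i.2) • Pi.single (i.1 + v.1.1, i.2 + v.2.1) 1 := fun i => by
      rw [Matrix.mulVec_single_one, coe_pe]
      funext k
      simp only [Matrix.col, Matrix.transpose_apply, mono, Pi.smul_apply, smul_eq_mul, Pi.single_apply, mul_ite, mul_one,
        mul_zero, ps_add h]
    have := hstd _ (pe_mem_std h v) (Pi.single i 1) (Pi.single j 1)
    simp only [hcol] at this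
    refine Eq.trans ?_ this
    show _ = fm p (P.val *ᵥ (_ • _)) (P.val *ᵥ (_ • _))
    rw [Matrix.mulVec_smul, Matrix.mulVec_smul, fm_smul]
  have hB0 : ∀ i j, i ≠ j → B i j = 0 := by
    intro i j hij
    by_contra hne
    have key : ∀ a b : ZMod 3, a * i.1 + b * i.2 = a * j.1 + b * j.2 := by
      intro a b
      have := hBpe ((0, a), (0, b)) i j
      simp only [add_zero] at this
      rw [ps_pow hF h hp3, ← ps_add h] at this
      have h1 := (ps_eq_one h).1 (mul_right_cancel₀ hne (this.trans (one_mul _).symm))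
      exact eq_of_sub_eq_zero (by rw [sub_eq_add_neg]; exact h1)
    exact hij (Prod.ext (by simpa using key 1 0) (by simpa using key 0 1))
  have hBeq : ∀ i, B i i = B 0 0 := by
    intro i
    have := hBpe ((i.1, 0), (i.2, 0)) 0 0
    simpa [ps_zero] using this
  let m : F := B 0 0
  have hf' : ∀ u v, f' u v = m * fm p u v := by
    intro u v
    have hexp : f' u v = ∑ i, ∑ j, u i * v j ^ p * B i j := by
      have hl : ∀ u v, f' u v = ∑ i, u i * f' (Pi.single i 1) v := fun u v => by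
        show fm p (P.val *ᵥ u) (P.val *ᵥ v) = ∑ i, u i * fm p (P.val *ᵥ Pi.single i 1) (P.val *ᵥ v)
        simp only [fm, Finset.mul_sum]
        rw [Finset.sum_comm]
        refine Finset.sum_congr rfl fun k _ => ?_
        rw [Matrix.mulVec, dotProduct, Finset.sum_mul]
        refine Finset.sum_congr rfl fun i _ => ?_
        rw [Matrix.mulVec_single_one]
        simp only [Matrix.col, Matrix.transpose_apply]
        ring
      rw [hl]
      refine Finset.sum_congr rfl fun i _ => ?_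
      rw [hherm, hl, pow_sum hF, Finset.mul_sum]
      refine Finset.sum_congr rfl fun j _ => ?_
      rw [mul_pow, ← hherm, mul_assoc]
    rw [hexp, fm, Finset.mul_sum]
    refine Finset.sum_congr rfl fun i _ => ?_
    rw [Finset.sum_eq_single i (fun j _ hj => by rw [hB0 i j (Ne.symm hj), mul_zero]) (by simp), hBeq]
    show _ = m * _
    ring
  have hm : m ≠ 0 := fun e0 => by
    obtain ⟨v, hv⟩ := hf'ne (Pi.single 0 1) (by simp)
    exact hv (by rw [hf', e0, zero_mul])
  have hconj : ∀ g : GL I9 F, P * g * P⁻¹ ∈ suG I9 F p ↔ g ∈ suG I9 F p := by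
    intro g
    rw [mem_suG, mem_suG, map_mul, map_mul, map_inv, mul_inv_cancel_comm]
    refine and_congr_left' ⟨fun hh u v => ?_, fun hh u v => ?_⟩
    · refine mul_left_cancel₀ hm ?_
      rw [← hf', ← hf']
      have := hh (P.val *ᵥ u) (P.val *ᵥ v)
      rw [Matrix.mulVec_mulVec, Matrix.mulVec_mulVec, ← Units.val_mul, inv_mul_cancel_right,
        Units.val_mul, ← Matrix.mulVec_mulVec, ← Matrix.mulVec_mulVec] at this
      exact this
    · have e1 : ∀ u : I9 → F, P.val *ᵥ (P⁻¹.val *ᵥ u) = u := fun u => by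
        rw [Matrix.mulVec_mulVec, ← Units.val_mul, mul_inv_cancel, Units.val_one, Matrix.one_mulVec]
      simp only [Units.val_mul, ← Matrix.mulVec_mulVec]
      show f' (g.val *ᵥ (P⁻¹.val *ᵥ u)) (g.val *ᵥ (P⁻¹.val *ᵥ v)) = _
      rw [hf', hh, ← hf']
      show fm p (P.val *ᵥ _) (P.val *ᵥ _) = _
      rw [e1, e1]
  have hS : (suG I9 F p).map Ψ.toMonoidHom = Cfsg.GU 9 F p ⊓ Cfsg.Geo.specialLinear (Fin 9) F := by
    rw [← show suG (Fin 9) F p = Cfsg.GU 9 F p ⊓ Cfsg.Geo.specialLinear (Fin 9) F from rfl]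
    ext g
    refine ⟨?_, fun hg => ⟨Ψ.symm g, ?_, Ψ.apply_symm_apply g⟩⟩
    · rintro ⟨x, hx, rfl⟩
      exact (mem_suG_rix e _).2 ((hconj x).2 hx)
    · show Ψ.symm g ∈ suG I9 F p
      refine (hconj _).1 ((mem_suG_rix e _).1 ?_)
      rwa [show rix9 e (P * Ψ.symm g * P⁻¹) = Ψ (Ψ.symm g) from rfl, Ψ.apply_symm_apply]
  have hN : (N9 h).map Ψ.toMonoidHom = Cfsg.Geo.subgroupNormalizer R := by
    rw [← normalizer_std, hRΨ, Cfsg.Geo.subgroupNormalizer, Cfsg.Geo.subgroupNormalizer]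
    exact Subgroup.map_normalizer_eq_of_bijective (std h) (f := Ψ.toMonoidHom) Ψ.bijective
  have hmax := maximal_unitary h hp hF hp3
  refine ⟨?_, fun M h1 h2 => ?_⟩
  · rw [← hS, ← hN, ← Subgroup.map_inf _ _ _ Ψ.injective]
    exact lt_of_le_of_ne (Subgroup.map_mono hmax.1.le) fun e0 => hmax.1.ne (Subgroup.map_injective Ψ.injective e0)
  · have h3 : M = (M.comap Ψ.toMonoidHom).map Ψ.toMonoidHom :=
      (Subgroup.map_comap_eq_self_of_surjective Ψ.surjective M).symm
    rw [← hS, ← hN, ← Subgroup.map_inf _ _ _ Ψ.injective] at h1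
    rw [← hS] at h2
    rcases hmax.2 (M.comap Ψ.toMonoidHom) (Subgroup.map_le_iff_le_comap.1 h1)
      (by rw [← Subgroup.map_le_map_iff_of_injective (f := Ψ.toMonoidHom) Ψ.injective, ← h3]; exact h2) with e0 | e0
    · left; rw [h3, e0, Subgroup.map_inf _ _ _ Ψ.injective, hN, hS]
    · right; rw [h3, e0, hS]

end CfsgLib.NineSymp
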