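import Cfsg.Agent.Lib.NineSymp.Pauli

/-!
Words in the standard generators: transitivity on the index groups and generation of the one-qutrit normaliser.
-/

set_option autoImplicit false
set_option linter.unusedSectionVars false
set_option linter.unusedSimpArgs false
set_option linter.flexible false

namespace CfsgLib.NineSymp

open Matrix

variable {F : Type*} [Field F] {ω : F}

/-- A word in the linear maps of the two generators. -/
def wL (a : Fin 3) (k : Fin 4) (b : Fin 3) (l : Fin 4) (v : V2) : V2 :=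
  rzL^[a.val] (foL^[k.val] (rzL^[b.val] (foL^[l.val] v)))

/-- A word in the two generators. -/
def w3 (h : Om ω) (a : Fin 3) (k : Fin 4) (b : Fin 3) (l : Fin 4) : GL (ZMod 3) F :=
  rz h 0 ^ a.val * fo h ^ k.val * rz h 0 ^ b.val * fo h ^ l.val

theorem Sys.Mv.iterate {W : Type} [AddCommGroup W] [Fintype W] [DecidableEq W] {ι : Type} [Fintype ι] [DecidableEq ι]
    {S : Sys F W ι} {g : GL ι F} {f : W → W} (hg : ∀ v, S.Mv g v (f v)) (n : ℕ) (v : W) :
    S.Mv (g ^ n) v (f^[n] v) := by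
  induction n with
  | zero => simpa using Sys.mv_one (S := S) v
  | succ n ih =>
    rw [pow_succ', Function.iterate_succ_apply']
    exact (hg _).mul ih

variable (h : Om ω)

theorem mv_w3 (a : Fin 3) (k : Fin 4) (b : Fin 3) (l : Fin 4) (v : V2) :
    (sys3 h).Mv (w3 h a k b l) v (wL a k b l v) :=
  (((Sys.Mv.iterate (mv_rz h) a.val _).mul (Sys.Mv.iterate (mv_fo h) k.val _)).mul
    (Sys.Mv.iterate (mv_rz h) b.val _)).mul (Sys.Mv.iterate (mv_fo h) l.val v)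

theorem w3_mem {H : Subgroup (GL (ZMod 3) F)} (hfo : fo h ∈ H) (hrz : rz h 0 ∈ H) (a : Fin 3) (k : Fin 4) (b : Fin 3)
    (l : Fin 4) : w3 h a k b l ∈ H :=
  H.mul_mem (H.mul_mem (H.mul_mem (H.pow_mem hrz _) (H.pow_mem hfo _)) (H.pow_mem hrz _)) (H.pow_mem hfo _)

theorem wL_pairs : ∀ u v : V2, sp u v = sp (1, 0) (0, 1) →
    ∃ a k b l, wL a k b l (1, 0) = u ∧ wL a k b l (0, 1) = v := by decide +kernel

theorem wL_trans_one : ∀ u : V2, u ≠ 0 → ∃ a k b l, wL a k b l (1, 0) = u := by decide +kernel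

theorem wL_trans_two : ∀ u : V2, u ≠ 0 → ∃ a k b l, wL a k b l (0, 1) = u := by decide +kernel

/-- A matrix fixing the two basis members up to scalars fixes all. -/
theorem mv_of_basis {g : GL (ZMod 3) F} (h1 : (sys3 h).Mv g (1, 0) (1, 0)) (h2 : (sys3 h).Mv g (0, 1) (0, 1))
    (v : V2) : (sys3 h).Mv g v v := by
  have hz : (sys3 h).Mv g 0 0 := ⟨1, by
    show g * gpm h 0 * g⁻¹ = sc 1 * gpm h 0
    rw [gpm_zero, sc_one]; group⟩
  have key : ∀ a : ZMod 3, (sys3 h).Mv g (a, 0) (a, 0) ∧ (sys3 h).Mv g (0, a) (0, a) := by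
    intro a
    rcases ps_cases a with rfl | rfl | rfl
    · exact ⟨hz, hz⟩
    · exact ⟨h1, h2⟩
    · rw [show ((2, 0) : V2) = (1, 0) + (1, 0) by decide, show ((0, 2) : V2) = (0, 1) + (0, 1) by decide]
      exact ⟨h1.add h1, h2.add h2⟩
  obtain ⟨a, b⟩ := v
  rw [show ((a, b) : V2) = (a, 0) + (0, b) by simp]
  exact (key a).1.add (key b).2

/-- The normaliser of the one-qutrit family is generated by the scalars, the family and the two generators. -/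
theorem exists_word {g : GL (ZMod 3) F} (hg : g ∈ N3 h) :
    ∃ c a k b l u, g = w3 h a k b l * (sc c * gpm h u) := by
  obtain ⟨u, hu⟩ := hg.1 (1, 0)
  obtain ⟨v, hv⟩ := hg.1 (0, 1)
  have hform : sp u v = sp (1, 0) (0, 1) := Sys.Mv.form_eq hu hv
  obtain ⟨a, k, b, l, hab, hkl⟩ := wL_pairs u v hform
  have e1 := (mv_w3 h a k b l (1, 0))
  have e2 := (mv_w3 h a k b l (0, 1))
  rw [hab] at e1
  rw [hkl] at e2
  obtain ⟨c, w, hw⟩ := Sys.eq_of_fix (mv_of_basis h (e1.inv.mul hu) (e2.inv.mul hv))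
  exact ⟨c, a, k, b, l, w, by rw [← hw]; group⟩

theorem norm_three_le {H : Subgroup (GL (ZMod 3) F)} (hsc : ∀ c, sc c ∈ H) (hpm : ∀ v, gpm h v ∈ H)
    (hfo : fo h ∈ H) (hrz : rz h 0 ∈ H) : N3 h ≤ H := fun g hg => by
  obtain ⟨c, a, k, b, l, u, rfl⟩ := exists_word h hg
  exact H.mul_mem (w3_mem h hfo hrz a k b l) (H.mul_mem (hsc c) (hpm u))

/-- A matrix fixing every member up to scalars, in the one-qutrit case. -/
theorem act_eq_wL {g : GL (ZMod 3) F} (hg : g ∈ N3 h) :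
    ∃ a k b l, ∀ v, (sys3 h).act g v = wL a k b l v := by
  obtain ⟨c, a, k, b, l, u, rfl⟩ := exists_word h hg
  exact ⟨a, k, b, l, fun v => Sys.act_eq ((mv_w3 h a k b l v).mul
    ((Sys.mv_sc (S := sys3 h) c v).mul (Sys.mv_op (S := sys3 h) u v)))⟩

theorem exists_lf_word {X : Subgroup (GL I9 F)} (hfo : rf (fo h) ∈ X) (hrz : rf (rz h 0) ∈ X) (hsw : sw ∈ X)
    (a : Fin 3) (k : Fin 4) (b : Fin 3) (l : Fin 4) : lf (w3 h a k b l) ∈ X := by
  refine w3_mem h (H := X.comap lf) ?_ ?_ a k b l <;>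
    exact X.mul_mem (X.mul_mem hsw (by assumption)) (X.inv_mem hsw)

/-- The standard generators move the phase of the first coordinate to every non-zero member. -/
theorem exists_move {X : Subgroup (GL I9 F)} (hfo : rf (fo h) ∈ X) (hrz : rf (rz h 0) ∈ X) (hsw : sw ∈ X)
    (hcp : cp h ∈ X) {v : W4} (hv : v ≠ 0) : ∃ g ∈ X, g ∈ N9 h ∧ (sys9 h).Mv g ((0, 1), 0) v := by
  obtain ⟨v1, v2⟩ := v
  have hrfw : ∀ a k b l, rf (w3 h a k b l) ∈ X := fun a k b l => w3_mem h (H := X.comap rf) hfo hrz a k b l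
  have hw : ∀ a k b l, w3 h a k b l ∈ N3 h := fun a k b l => w3_mem h (fo_mem h) (rz_mem h) a k b l
  by_cases h1 : v1 = 0
  · subst h1
    obtain ⟨a, k, b, l, e⟩ := wL_trans_two v2 (fun e => hv (by rw [e]; rfl))
    refine ⟨rf (w3 h a k b l) * sw, X.mul_mem (hrfw a k b l) hsw,
      (N9 h).mul_mem (rf_mem h (hw a k b l)) (sw_mem h), ?_⟩
    exact ((e ▸ mv_rf h (mv_w3 h a k b l (0, 1)) 0 : (sys9 h).Mv _ (0, (0, 1)) (0, v2))).mul (mv_sw h ((0, 1), 0))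
  · obtain ⟨a, k, b, l, e⟩ := wL_trans_two v1 h1
    by_cases h2 : v2 = 0
    · subst h2
      exact ⟨lf (w3 h a k b l), exists_lf_word h hfo hrz hsw a k b l, lf_mem h (hw a k b l),
        e ▸ mv_lf h (mv_w3 h a k b l (0, 1)) 0⟩
    obtain ⟨a', k', b', l', e'⟩ := wL_trans_two v2 h2
    obtain ⟨a'', k'', b'', l'', e''⟩ := wL_trans_one v1 h1
    obtain ⟨a₀, k₀, b₀, l₀, e₀⟩ := wL_trans_two (1, 0) (by decide)
    refine ⟨rf (w3 h a' k' b' l') * lf (w3 h a'' k'' b'' l'') * cp h * lf (w3 h a₀ k₀ b₀ l₀),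
      X.mul_mem (X.mul_mem (X.mul_mem (hrfw ..) (exists_lf_word h hfo hrz hsw ..)) hcp) (exists_lf_word h hfo hrz hsw ..),
      (N9 h).mul_mem ((N9 h).mul_mem ((N9 h).mul_mem (rf_mem h (hw ..)) (lf_mem h (hw ..))) (cp_mem h)) (lf_mem h (hw ..)),
      ?_⟩
    have s1 : (sys9 h).Mv (lf (w3 h a₀ k₀ b₀ l₀)) ((0, 1), 0) ((1, 0), 0) := e₀ ▸ mv_lf h (mv_w3 h a₀ k₀ b₀ l₀ (0, 1)) 0
    have s2 : (sys9 h).Mv (cp h) ((1, 0), 0) ((1, 0), (0, 1)) := by
      simpa [cpL] using mv_cp h ((1, 0), 0)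
    have s3 : (sys9 h).Mv (lf (w3 h a'' k'' b'' l'')) ((1, 0), (0, 1)) (v1, (0, 1)) :=
      e'' ▸ mv_lf h (mv_w3 h a'' k'' b'' l'' (1, 0)) (0, 1)
    have s4 : (sys9 h).Mv (rf (w3 h a' k' b' l')) (v1, (0, 1)) (v1, v2) := e' ▸ mv_rf h (mv_w3 h a' k' b' l' (0, 1)) v1
    exact ((s4.mul s3).mul s2).mul s1

/-- An affine pencil of maps. -/
def pcl (n₁ n₂ : V2) (x : ZMod 3) (v : V2) : V2 := (v.1 + x * (v.1 * n₁.1 + v.2 * n₂.1), v.2 + x * (v.1 * n₁.2 + v.2 * n₂.2))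

set_option synthInstance.maxSize 2048 in
set_option synthInstance.maxHeartbeats 200000 in
/-- The linearity obstruction: no nontrivial pencil of symplectic maps has affine commutators with the generators. -/
theorem pencil : ∀ n₁ n₂ : V2,
    (∀ x, sp (pcl n₁ n₂ x (1, 0)) (pcl n₁ n₂ x (0, 1)) = sp (1, 0) (0, 1)) →
      (∃ m₁ m₂ : V2, ∀ x, ∀ v : V2,
        pcl n₁ n₂ x (foL v) = pcl m₁ m₂ x (foL (pcl n₁ n₂ x v))) →
      (∃ m₁ m₂ : V2, ∀ x, ∀ v : V2,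
        pcl n₁ n₂ x (rzL v) = pcl m₁ m₂ x (rzL (pcl n₁ n₂ x v))) →
      n₁ = 0 ∧ n₂ = 0 := by decide +kernel

end CfsgLib.NineSymp
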